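import Cfsg.Agent.OneComp.Main
import Cfsg.Agent.CITGroups.Final
import Cfsg.Agent.CITGroups.ListOrders
import Cfsg.Agent.PrimeGraph.PSL2Spectrum
import Cfsg.Agent.Classical.SmallPSL
import Cfsg.Agent.Suzuki.TorusNormalizers

/-!
# Element orders in the candidate groups
-/

set_option autoImplicit false
set_option linter.style.haveILetI false
set_option linter.unusedSectionVars false

namespace CfsgLib.OneComp

open Subgroup

universe u

variable {G : Type u} [Group G]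

/-- At most one element order is composite. -/
def OneComposite (G : Type u) [Group G] : Prop :=
  ∀ x y : G, 1 < orderOf x → ¬ (orderOf x).Prime → 1 < orderOf y → ¬ (orderOf y).Prime → orderOf x = orderOf y

theorem mul_not_prime {a b : ℕ} (ha : 1 < a) (hb : 1 < b) : ¬ (a * b).Prime :=
  Nat.not_prime_mul (by omega) (by omega)

/-- A proper divisor of a composite element order is one or a prime. -/
theorem OneComposite.dvd_prime [Finite G] (h : OneComposite G) {x : G} {a b : ℕ} (hx : orderOf x = a * b)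
    (ha : 1 < a) (hb : 1 < b) : a.Prime := by
  by_contra hap
  have ho : orderOf (x ^ b) = a := by
    rw [orderOf_pow' x (by omega), hx, Nat.gcd_mul_left_left, Nat.mul_div_cancel _ (by omega)]
  have e := h x (x ^ b) (hx ▸ lt_of_lt_of_le ha (Nat.le_mul_of_pos_right a (by omega)))
    (hx ▸ mul_not_prime ha hb) (ho.symm ▸ ha) (ho.symm ▸ hap)
  rw [hx, ho] at e
  have : a * 2 ≤ a * b := Nat.mul_le_mul_left a hb
  omega

/-- The hypothesis of the main theorem. -/
theorem OneComposite.hyp_or_cit [Finite G] (h : OneComposite G) :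
    CfsgLib.CIT.IsCIT G ∨ ∃ p, Hyp G p ∧ (∀ y : G, orderOf y = 1 ∨ (orderOf y).Prime ∨ orderOf y = 2 * p) ∧
      ∃ x : G, orderOf x = 2 * p := by
  by_cases hall : ∀ x : G, Odd (orderOf x) ∨ ∃ k, orderOf x = 2 ^ k
  · refine Or.inl fun t ht => ?_
    rintro ⟨y, hy⟩
    rcases hall y with ho | ⟨k, hk⟩
    · refine ⟨0, Subtype.ext ?_⟩
      show y ^ 2 ^ 0 = 1
      rw [pow_zero, pow_one]
      by_contra hy1
      have hc : Commute y t := mem_centralizer_singleton_iff.1 hy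
      have hm : orderOf (y * t) = orderOf y * 2 := by
        rw [hc.orderOf_mul_eq_mul_orderOf_of_coprime (by rw [ht]; exact Nat.coprime_two_right.2 ho), ht]
      rcases hall (y * t) with h1 | ⟨k, hk⟩
      · rw [hm] at h1
        exact Nat.not_even_iff_odd.2 h1 (even_iff_two_dvd.2 (dvd_mul_left 2 _))
      · rw [hm] at hk
        have h1 : orderOf y ∣ 2 ^ k := hk ▸ dvd_mul_right _ 2
        have h2 : orderOf y = 1 := Nat.eq_one_of_dvd_coprimes ((Nat.coprime_two_right.2 ho).pow_right k) dvd_rfl h1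
        exact hy1 (orderOf_eq_one_iff.1 h2)
    · exact ⟨k, Subtype.ext (show y ^ 2 ^ k = 1 by rw [← hk, pow_orderOf_eq_one])⟩
  · push Not at hall
    obtain ⟨x, hxo, hxk⟩ := hall
    rw [Nat.not_odd_iff_even, even_iff_two_dvd] at hxo
    obtain ⟨m, hm⟩ := hxo
    have hpos : 0 < orderOf x := orderOf_pos x
    have hm1 : 1 < m := by
      by_contra hm1
      exact hxk 1 (by rw [hm, show m = 1 by omega]; norm_num)
    have hmp : m.Prime := h.dvd_prime (hm.trans (mul_comm 2 m)) hm1 one_lt_two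
    have hm2 : m ≠ 2 := fun e => hxk 2 (by rw [hm, e]; norm_num)
    have hord : ∀ y : G, orderOf y = 1 ∨ (orderOf y).Prime ∨ orderOf y = 2 * m := by
      intro y
      by_cases hy1 : orderOf y = 1
      · exact Or.inl hy1
      by_cases hyp : (orderOf y).Prime
      · exact Or.inr (Or.inl hyp)
      refine Or.inr (Or.inr (hm ▸ h y x ?_ hyp ?_ ?_))
      · have := orderOf_pos y
        omega
      · omega
      · exact hm ▸ mul_not_prime one_lt_two hm1
    refine Or.inr ⟨m, ⟨hmp, hm2, fun y hy => ?_, fun y hy => ?_⟩, hord, x, hm⟩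
    · rcases hord y with e | e | e
      · rw [e] at hy; omega
      · exact Or.inl ((Nat.prime_dvd_prime_iff_eq Nat.prime_two e).1 hy).symm
      · exact Or.inr e
    · rcases hord y with e | e | e
      · rw [e] at hy
        exact absurd (Nat.dvd_one.1 hy) hmp.ne_one
      · exact Or.inl ((Nat.prime_dvd_prime_iff_eq hmp e).1 hy).symm
      · exact Or.inr e

variable {F : Type} [Field F] [Fintype F]

theorem card_psl_small [Finite G] (e : G ≃* Matrix.ProjectiveSpecialLinearGroup (Fin 2) F)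
    (hq : Fintype.card F ≤ 3) : Group.IsSolvable G := by
  have h2 := Fintype.one_lt_card (α := F)
  have h := CfsgLib.Linear.Small.card_psl_two (F := F) rfl
  rw [← Nat.card_congr e.toEquiv] at h
  rcases (show Fintype.card F = 2 ∨ Fintype.card F = 3 by omega) with hq | hq <;> rw [hq] at h <;> norm_num at h
  · exact Cfsg.Agent.S0144.result 2 3 1 1 Nat.prime_two Nat.prime_three (by omega)
  · exact Cfsg.Agent.S0144.result 2 3 2 1 Nat.prime_two Nat.prime_three (by omega)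

/-- The spectrum of `PSL₂(q)` in the case of a composite order `2p`. -/
theorem Hyp.psl_list [Finite G] {p : ℕ} (h : Hyp G p)
    (hord : ∀ x : G, orderOf x = 1 ∨ (orderOf x).Prime ∨ orderOf x = 2 * p) (hns : ¬ Group.IsSolvable G)
    (e : G ≃* Matrix.ProjectiveSpecialLinearGroup (Fin 2) F) (hodd : Odd (Fintype.card F)) :
    Fintype.card F = 5 ∨ Fintype.card F = 7 ∨ Fintype.card F = 9 ∨ Fintype.card F = 11 ∨
      Fintype.card F = 13 ∨ ∃ n r s : ℕ, r.Prime ∧ s.Prime ∧ 3 ^ n - 1 = 2 * r ∧ 3 ^ n + 1 = 4 * s ∧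
        Fintype.card F = 3 ^ n := by
  obtain ⟨p₀, hpc⟩ := CharP.exists F
  obtain ⟨d, hp₀, hqd⟩ := FiniteField.card F p₀
  haveI := Fact.mk hp₀
  set q := Fintype.card F with hq
  have hq4 : 4 ≤ q := by
    by_contra hlt
    exact hns (card_psl_small e (by omega))
  obtain ⟨i, hi⟩ := hodd
  have hgcd : Nat.gcd 2 (q - 1) = 2 := Nat.gcd_eq_left ⟨i, by omega⟩
  obtain ⟨g₁, hg₁⟩ := CfsgLib.PSL2Spec.exists_orderOf_minus (F := F)
  obtain ⟨g₂, hg₂⟩ := CfsgLib.PSL2Spec.exists_orderOf_plus (F := F) p₀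
  rw [← hq, hgcd, ← MulEquiv.orderOf_eq e.symm] at hg₁ hg₂
  have h1 := hord (e.symm g₁)
  have h2 := hord (e.symm g₂)
  rw [hg₁] at h1
  rw [hg₂] at h2
  have heven : ∀ n, n % 2 = 0 → 2 ≤ n → (n = 1 ∨ n.Prime ∨ n = 2 * p) → n = 2 ∨ n = 2 * p := by
    intro n hn hn2 hc
    rcases hc with e' | e' | e'
    · omega
    · exact Or.inl ((Nat.prime_dvd_prime_iff_eq Nat.prime_two e').1 (Nat.dvd_of_mod_eq_zero hn)).symm
    · exact Or.inr e'
  have hoddc : ∀ n, n % 2 = 1 → 2 ≤ n → (n = 1 ∨ n.Prime ∨ n = 2 * p) → n.Prime := by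
    intro n hn hn2 hc
    rcases hc with e' | e' | e'
    · omega
    · exact e'
    · omega
  have hpp := h.prime
  have hp3 := h.two_lt
  have hpm : p % 2 = 1 := Nat.odd_iff.1 (hpp.odd_of_ne_two h.odd)
  have key : q = 5 ∨ q = 7 ∨ (q = 4 * p + 1 ∧ (2 * p + 1).Prime) ∨ (q + 1 = 4 * p ∧ (2 * p - 1).Prime) := by
    rcases Nat.even_or_odd i with ⟨j, hj⟩ | ⟨j, hj⟩
    · have hh := hoddc ((q + 1) / 2) (by omega) (by omega) h2
      rcases heven ((q - 1) / 2) (by omega) (by omega) h1 with e' | e'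
      · omega
      · exact Or.inr (Or.inr (Or.inl ⟨by omega, by rwa [show 2 * p + 1 = (q + 1) / 2 by omega]⟩))
    · have hh := hoddc ((q - 1) / 2) (by omega) (by omega) h1
      rcases heven ((q + 1) / 2) (by omega) (by omega) h2 with e' | e'
      · omega
      · exact Or.inr (Or.inr (Or.inr ⟨by omega, by rwa [show 2 * p - 1 = (q - 1) / 2 by omega]⟩))
  rcases key with e' | e' | ⟨e', hr⟩ | ⟨e', hr⟩
  · exact Or.inl e'
  · exact Or.inr (Or.inl e')
  · by_cases h3q : 3 ∣ q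
    · exfalso
      obtain ⟨n, hn⟩ : ∃ n : ℕ, q = 3 ^ n :=
        ⟨d, by rw [hqd, (Nat.prime_dvd_prime_iff_eq Nat.prime_three hp₀).1 (Nat.prime_three.dvd_of_dvd_pow (hqd ▸ h3q))]⟩
      rcases Nat.even_or_odd n with ⟨j, hj⟩ | ⟨j, hj⟩
      · obtain ⟨v, hv⟩ : ∃ v, 3 ^ j = 2 * v + 1 := Odd.pow (by decide : Odd 3)
        have e1 : p = v * (v + 1) := by
          rw [hn, hj, pow_add, hv] at e'
          linarith
        rcases Nat.eq_zero_or_pos v with hv0 | hv0
        · rw [hv0, zero_mul] at e1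
          omega
        rcases eq_or_lt_of_le (Nat.succ_le_of_lt hv0) with hv1 | hv1
        · rw [← hv1] at e1
          norm_num at e1
          omega
        · exact mul_not_prime hv1 (by omega) (e1 ▸ hpp)
      · have h34 : 3 ^ n % 4 = 3 := by
          rw [hj, pow_succ, pow_mul]
          norm_num [Nat.mul_mod, Nat.pow_mod]
        omega
    · have h3 : 3 ∣ p ∨ 3 ∣ 2 * p + 1 := by
        rcases (show p % 3 = 0 ∨ p % 3 = 1 ∨ p % 3 = 2 by omega) with hp | hp | hp <;> omega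
      rcases h3 with h3 | h3
      · have := (Nat.prime_dvd_prime_iff_eq Nat.prime_three hpp).1 h3
        exact Or.inr (Or.inr (Or.inr (Or.inr (Or.inl (by omega)))))
      · have := (Nat.prime_dvd_prime_iff_eq Nat.prime_three hr).1 h3
        omega
  · by_cases h3q : 3 ∣ q
    · refine Or.inr (Or.inr (Or.inr (Or.inr (Or.inr ⟨d, 2 * p - 1, p, hr, hpp, ?_, ?_, ?_⟩)))) <;>
        · have hn : q = 3 ^ (d : ℕ) := by
            rw [hqd, (Nat.prime_dvd_prime_iff_eq Nat.prime_three hp₀).1 (Nat.prime_three.dvd_of_dvd_pow (hqd ▸ h3q))]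
          omega
    · have h3 : 3 ∣ p ∨ 3 ∣ 2 * p - 1 := by
        rcases (show p % 3 = 0 ∨ p % 3 = 1 ∨ p % 3 = 2 by omega) with hp | hp | hp <;> omega
      rcases h3 with h3 | h3
      · have := (Nat.prime_dvd_prime_iff_eq Nat.prime_three hpp).1 h3
        exact Or.inr (Or.inr (Or.inr (Or.inl (by omega))))
      · have := (Nat.prime_dvd_prime_iff_eq Nat.prime_three hr).1 h3
        omega

/-- The spectrum of `PSL₂(2ⁿ)`. -/
theorem OneComposite.psl_two_list [Finite G] (h : OneComposite G) (hns : ¬ Group.IsSolvable G)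
    (e : G ≃* Matrix.ProjectiveSpecialLinearGroup (Fin 2) F) {n : ℕ} (hn : Fintype.card F = 2 ^ n) :
    n = 2 ∨ n = 3 ∨ n = 4 ∨ ((2 ^ n - 1).Prime ∧ ∃ r : ℕ, r.Prime ∧ 2 ^ n + 1 = 3 * r) := by
  obtain ⟨p₀, hpc⟩ := CharP.exists F
  obtain ⟨d, hp₀, hqd⟩ := FiniteField.card F p₀
  haveI := Fact.mk hp₀
  have hn2 : 2 ≤ n := by
    by_contra hlt
    have : 2 ^ n ≤ 2 ^ 1 := Nat.pow_le_pow_right (by norm_num) (by omega)
    exact hns (card_psl_small e (by rw [hn]; omega))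
  by_cases hn5 : n < 5
  · omega
  have h32 : 32 ≤ 2 ^ n := (by norm_num : 32 = 2 ^ 5).le.trans (Nat.pow_le_pow_right (by norm_num) (by omega))
  have hev : 2 ∣ 2 ^ n := dvd_pow_self 2 (by omega)
  have hgcd : Nat.gcd 2 (Fintype.card F - 1) = 1 := (Nat.prime_two.coprime_iff_not_dvd).2 (by rw [hn]; omega)
  obtain ⟨g₁, hg₁⟩ := CfsgLib.PSL2Spec.exists_orderOf_minus (F := F)
  obtain ⟨g₂, hg₂⟩ := CfsgLib.PSL2Spec.exists_orderOf_plus (F := F) p₀
  rw [hgcd, Nat.div_one, ← MulEquiv.orderOf_eq e.symm, hn] at hg₁ hg₂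
  refine Or.inr (Or.inr (Or.inr ?_))
  have hone : (2 ^ n - 1).Prime ∨ (2 ^ n + 1).Prime := by
    by_contra hh
    push Not at hh
    have := h (e.symm g₁) (e.symm g₂) (by omega) (hg₁ ▸ hh.1) (by omega) (hg₂ ▸ hh.2)
    omega
  have h3 : 3 ∣ 2 ^ n - 1 ∨ 3 ∣ 2 ^ n + 1 := by
    rcases Nat.even_or_odd' n with ⟨j, rfl | rfl⟩
    · left; rw [pow_mul]; simpa using Nat.sub_dvd_pow_sub_pow 4 1 j
    · right
      have h4 : 3 ∣ 4 ^ j - 1 := by simpa using Nat.sub_dvd_pow_sub_pow 4 1 j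
      have : 1 ≤ 4 ^ j := Nat.one_le_pow _ _ (by norm_num)
      rw [pow_succ, pow_mul, show (2 : ℕ) ^ 2 = 4 from rfl]
      omega
  rcases hone with hm | hp
  · obtain ⟨r, hr⟩ : 3 ∣ 2 ^ n + 1 := h3.resolve_left fun h3 => by
      have := (Nat.prime_dvd_prime_iff_eq Nat.prime_three hm).1 h3
      omega
    exact ⟨hm, r, h.dvd_prime (hg₂.trans (hr.trans (mul_comm 3 r))) (by omega) (by norm_num), hr⟩
  · exfalso
    obtain ⟨j, rfl⟩ := Nat.pow_of_pow_add_prime one_lt_two (by omega) hp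
    have hj : 3 ≤ j := by
      by_contra hlt
      have : 2 ^ j ≤ 2 ^ 2 := Nat.pow_le_pow_right (by norm_num) (by omega)
      omega
    have h15 : 15 ∣ 2 ^ 2 ^ j - 1 := by
      rw [show 2 ^ j = 4 * 2 ^ (j - 2) by rw [show (4 : ℕ) = 2 ^ 2 from rfl, ← pow_add]; congr 1; omega, pow_mul]
      simpa using Nat.sub_dvd_pow_sub_pow 16 1 (2 ^ (j - 2))
    obtain ⟨m, hm⟩ := h15
    have h256 : 256 ≤ 2 ^ 2 ^ j := by
      calc 256 = 2 ^ 2 ^ 3 := by norm_num
        _ ≤ 2 ^ 2 ^ j := Nat.pow_le_pow_right (by norm_num) (Nat.pow_le_pow_right (by norm_num) hj)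
    exact absurd (h.dvd_prime (hg₁.trans hm) (by norm_num) (by omega)) (by norm_num)

/-- The spectrum of `PSL₂(q)` for Fermat and Mersenne primes `q`. -/
theorem OneComposite.psl_fermat_list [Finite G] (h : OneComposite G) (hns : ¬ Group.IsSolvable G)
    (e : G ≃* Matrix.ProjectiveSpecialLinearGroup (Fin 2) F) {k : ℕ}
    (hk : Fintype.card F = 2 ^ k + 1 ∨ Fintype.card F + 1 = 2 ^ k) :
    Fintype.card F = 5 ∨ Fintype.card F = 7 ∨ Fintype.card F = 9 := by
  obtain ⟨p₀, hpc⟩ := CharP.exists F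
  obtain ⟨d, hp₀, hqd⟩ := FiniteField.card F p₀
  haveI := Fact.mk hp₀
  have hq4 : 4 ≤ Fintype.card F := by
    by_contra hlt
    exact hns (card_psl_small e (by omega))
  have hk2 : 2 ≤ k := by
    by_contra hlt
    have : 2 ^ k ≤ 2 ^ 1 := Nat.pow_le_pow_right (by norm_num) (by omega)
    omega
  by_cases hk4 : k < 4
  · interval_cases k <;> omega
  exfalso
  obtain ⟨w, hw⟩ : ∃ w, 2 ^ k / 2 = 8 * w :=
    ⟨2 ^ (k - 4), by
      rw [show k = (k - 4) + 4 by omega, pow_add]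
      simp only [Nat.add_sub_cancel]
      omega⟩
  have hev : 2 ∣ 2 ^ k := dvd_pow_self 2 (by omega)
  have hgcd : Nat.gcd 2 (Fintype.card F - 1) = 2 := Nat.gcd_eq_left (by omega)
  obtain ⟨g, hg⟩ : ∃ g : G, orderOf g = 2 ^ k / 2 := by
    rcases hk with hk | hk
    · obtain ⟨g, hg⟩ := CfsgLib.PSL2Spec.exists_orderOf_minus (F := F)
      exact ⟨e.symm g, by rw [MulEquiv.orderOf_eq, hg, hgcd, hk, Nat.add_sub_cancel]⟩
    · obtain ⟨g, hg⟩ := CfsgLib.PSL2Spec.exists_orderOf_plus (F := F) p₀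
      exact ⟨e.symm g, by rw [MulEquiv.orderOf_eq, hg, hgcd, hk]⟩
  have hw0 : 0 < w := by
    have : 2 ^ 4 ≤ 2 ^ k := Nat.pow_le_pow_right (by norm_num) (by omega)
    omega
  exact absurd (h.dvd_prime (hg.trans (by rw [hw]; ring : 2 ^ k / 2 = 4 * (2 * w))) (by norm_num) (by omega))
    (by norm_num)

/-- The spectrum of a Suzuki group. -/
theorem OneComposite.suzuki_list [Finite G] (h : OneComposite G) {m : ℕ} (hm : 1 ≤ m)
    (hF : Fintype.card F = 2 ^ (2 * m + 1)) (e : G ≃* Cfsg.Lie.Sz F (2 ^ (m + 1))) : m = 1 := by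
  obtain ⟨⟨x, hx⟩, ⟨y, hy⟩, ⟨z, hz⟩, -⟩ := CfsgLib.CIT.ListOrders.suzuki_data hm hF e
  have hSz : CfsgLib.Suzuki.IsSzField F m := CfsgLib.Suzuki.isSzField_of_card hm hF
  obtain ⟨g, hg⟩ : ∃ g : G, orderOf g = 4 :=
    ⟨((CfsgLib.Suzuki.lieEquiv hSz).trans e.symm) (CfsgLib.Suzuki.uE hSz 1 0), by
      rw [MulEquiv.orderOf_eq, CfsgLib.Suzuki.orderOf_uE_four hSz one_ne_zero]⟩
  have h4 : ¬ (4 : ℕ).Prime := by norm_num
  by_contra hm1
  set A := 2 ^ (2 * m + 1) with hA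
  set R := 2 ^ (m + 1) with hR
  have hR8 : 8 ≤ R := (by norm_num : 8 = 2 ^ 3).le.trans (Nat.pow_le_pow_right (by norm_num) (by omega))
  have hRA : 4 * R ≤ A := by
    calc 4 * R = 2 ^ (m + 3) := by rw [hR, pow_add 2 m 1, pow_add 2 m 3]; ring
      _ ≤ A := Nat.pow_le_pow_right (by norm_num) (by omega)
  have hsq : R * R = 2 * A := by rw [hR, hA, ← pow_add, ← pow_succ']; congr 1; omega
  have hpr : ∀ (w : G) (k : ℕ), orderOf w = k → 5 < k → k.Prime := fun w k hw hk => by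
    by_contra hp
    have := h w g (by omega) (hw ▸ hp) (by omega) (hg ▸ h4)
    omega
  have hy' := hpr y _ hy (by omega)
  have hz' := hpr z _ hz (by omega)
  have h5 : 5 ∣ A + R + 1 ∨ 5 ∣ A - R + 1 := by
    refine (Nat.Prime.dvd_mul (by norm_num)).1 ?_
    obtain ⟨c, hc⟩ : ∃ c, A * A = 5 * c + 4 := by
      rw [hA, ← pow_add, show 2 * m + 1 + (2 * m + 1) = 4 * m + 2 by ring, pow_add, pow_mul]
      refine ⟨4 * ((2 ^ 4) ^ m / 5), ?_⟩
      have : (2 ^ 4) ^ m % 5 = 1 := by norm_num [Nat.pow_mod]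
      omega
    refine ⟨c + 1, ?_⟩
    obtain ⟨a, ha⟩ := Nat.exists_eq_add_of_le (show R ≤ A by omega)
    have e1 : A - R + 1 = a + 1 := by omega
    rw [e1]
    nlinarith
  rcases h5 with h5 | h5
  · have := (Nat.prime_dvd_prime_iff_eq (by norm_num) hy').1 h5
    omega
  · have := (Nat.prime_dvd_prime_iff_eq (by norm_num) hz').1 h5
    omega

end CfsgLib.OneComp
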