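import Cfsg.Agent.OneComp.Norm
import Cfsg.Agent.S0144
import Cfsg.Agent.Solvable.Fitting
import Cfsg.Agent.Signalizer.Basic
import Cfsg.Agent.Invol.Dihedral
import Cfsg.Prelude.Def_Solvable
import Cfsg.Prelude.Def_Involutions
import Mathlib.Tactic.Linarith

/-!
# Groups with a single composite element order `2p`: first properties
-/

set_option autoImplicit false
set_option linter.style.haveILetI false
set_option linter.unusedSectionVars false

namespace CfsgLib.OneComp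

open Subgroup

universe u

variable {G : Type u} [Group G]

/-- The only orders of elements divisible by `2` are `2` and `2p`, those divisible by `p` are `p` and `2p`. -/
structure Hyp (G : Type u) [Group G] (p : ℕ) : Prop where
  prime : p.Prime
  odd : p ≠ 2
  two : ∀ x : G, 2 ∣ orderOf x → orderOf x = 2 ∨ orderOf x = 2 * p
  pee : ∀ x : G, p ∣ orderOf x → orderOf x = p ∨ orderOf x = 2 * p

theorem exists_prime_two_factors {n : ℕ} (hn : n ≠ 0) {p q : ℕ}
    (h : ∀ r : ℕ, r.Prime → r ∣ n → r = p ∨ r = q) : ∃ a b, n = p ^ a * q ^ b := by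
  induction n using Nat.strong_induction_on with
  | _ n ih =>
  by_cases h1 : n = 1
  · exact ⟨0, 0, by rw [h1]; simp⟩
  obtain ⟨r, hr, hrn⟩ := Nat.exists_prime_and_dvd h1
  obtain ⟨m, rfl⟩ := hrn
  have hm : m ≠ 0 := fun h0 => hn (by rw [h0, mul_zero])
  have hlt : m < r * m := lt_mul_left (Nat.pos_of_ne_zero hm) hr.one_lt
  obtain ⟨a, b, hab⟩ := ih m hlt hm fun s hs hsm => h s hs (hsm.trans (dvd_mul_left m r))
  rcases h r hr (dvd_mul_right r m) with rfl | rfl
  · exact ⟨a + 1, b, by rw [hab, pow_succ]; ring⟩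
  · exact ⟨a, b + 1, by rw [hab, pow_succ]; ring⟩

namespace Hyp

variable {p : ℕ} (h : Hyp G p)
include h

theorem two_lt : 2 < p := lt_of_le_of_ne h.prime.two_le (Ne.symm h.odd)

theorem sq_of_two_pow {x : G} {k : ℕ} (hx : x ^ 2 ^ k = 1) : x ^ 2 = 1 := by
  obtain ⟨j, hj, hx'⟩ := (Nat.dvd_prime_pow Nat.prime_two).1 (orderOf_dvd_of_pow_eq_one hx)
  rcases Nat.eq_zero_or_pos j with rfl | hj0
  · rw [pow_zero] at hx'
    rw [orderOf_eq_one_iff.1 hx', one_pow]
  rcases h.two x (hx' ▸ dvd_pow_self 2 hj0.ne') with h1 | h1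
  · rw [← h1, pow_orderOf_eq_one]
  · exfalso
    have : p ∣ 2 ^ j := hx' ▸ h1 ▸ dvd_mul_left p 2
    exact h.odd ((Nat.prime_dvd_prime_iff_eq h.prime Nat.prime_two).1 (h.prime.dvd_of_dvd_pow this))

/-- An element of `p`-power order has order dividing `p`. -/
theorem pow_p_eq_one {x : G} {k : ℕ} (hx : x ^ p ^ k = 1) : x ^ p = 1 := by
  obtain ⟨j, hj, hx'⟩ := (Nat.dvd_prime_pow h.prime).1 (orderOf_dvd_of_pow_eq_one hx)
  rcases Nat.eq_zero_or_pos j with rfl | hj0
  · rw [pow_zero] at hx'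
    rw [orderOf_eq_one_iff.1 hx', one_pow]
  rcases h.pee x (hx' ▸ dvd_pow_self p hj0.ne') with h1 | h1
  · rw [← h1, pow_orderOf_eq_one]
  · exfalso
    have : 2 ∣ p ^ j := hx' ▸ h1 ▸ dvd_mul_right 2 p
    exact h.odd ((Nat.prime_dvd_prime_iff_eq Nat.prime_two h.prime).1 (Nat.prime_two.dvd_of_dvd_pow this)).symm

theorem prime_commute {x y : G} {r s : ℕ} (hr : r = 2 ∨ r = p) (hs : s.Prime) (hx : orderOf x = r)
    (hy : orderOf y = s) (hc : Commute x y) : s = 2 ∨ s = p := by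
  by_cases hrs : r = s
  · exact hrs ▸ hr
  have hrp : r.Prime := hr.elim (fun e => e ▸ Nat.prime_two) (fun e => e ▸ h.prime)
  have hxy : orderOf (x * y) = r * s := by
    rw [hc.orderOf_mul_eq_mul_orderOf_of_coprime (by rw [hx, hy]; exact (Nat.coprime_primes hrp hs).2 hrs), hx, hy]
  have hd : s ∣ 2 * p ∧ (r * s = 2 * p ∨ r * s = 2 ∨ r * s = p) := by
    rcases hr with rfl | rfl
    · rcases h.two _ (hxy ▸ dvd_mul_right 2 s) with h1 | h1 <;> rw [hxy] at h1
      · exact ⟨dvd_mul_of_dvd_left (h1 ▸ dvd_mul_left s 2) p, Or.inr (Or.inl h1)⟩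
      · exact ⟨h1 ▸ dvd_mul_left s 2, Or.inl h1⟩
    · rcases h.pee _ (hxy ▸ dvd_mul_right r s) with h1 | h1 <;> rw [hxy] at h1
      · exact ⟨dvd_mul_of_dvd_right ((dvd_mul_left s _).trans h1.dvd) 2, Or.inr (Or.inr h1)⟩
      · exact ⟨(dvd_mul_left s _).trans h1.dvd, Or.inl h1⟩
  rcases hs.dvd_mul.1 hd.1 with e1 | e1
  · exact Or.inl ((Nat.prime_dvd_prime_iff_eq hs Nat.prime_two).1 e1)
  · exact Or.inr ((Nat.prime_dvd_prime_iff_eq hs h.prime).1 e1)

/-- An element of order `p` and one of another odd prime order do not commute. -/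
theorem not_commute {x y : G} {s : ℕ} (hs : s.Prime) (hs2 : s ≠ 2) (hsp : s ≠ p) (hx : orderOf x = p)
    (hy : orderOf y = s) : ¬ Commute x y := fun hc =>
  (h.prime_commute (Or.inr rfl) hs hx hy hc).elim hs2 hsp

/-- The order of an element commuting with one of order `2` or `p`. -/
theorem ord_of_commute [Finite G] {x y : G} {r : ℕ} (hr : r = 2 ∨ r = p) (hx : orderOf x = r)
    (hc : Commute x y) : y = 1 ∨ orderOf y = 2 ∨ orderOf y = p ∨ orderOf y = 2 * p := by
  by_cases hy : orderOf y = 1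
  · exact Or.inl (orderOf_eq_one_iff.1 hy)
  obtain ⟨s, hs, hsy⟩ := Nat.exists_prime_and_dvd hy
  have ho : orderOf (y ^ (orderOf y / s)) = s := orderOf_pow_orderOf_div (orderOf_pos y).ne' hsy
  rcases h.prime_commute hr hs hx ho (hc.pow_right _) with rfl | rfl
  · exact Or.inr ((h.two y hsy).elim Or.inl fun e => Or.inr (Or.inr e))
  · exact Or.inr ((h.pee y hsy).elim (fun e => Or.inr (Or.inl e)) fun e => Or.inr (Or.inr e))

theorem ord_cases {x : G} : orderOf x = 2 ∨ orderOf x = p ∨ orderOf x = 2 * p ∨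
    (¬ 2 ∣ orderOf x ∧ ¬ p ∣ orderOf x) := by
  by_cases h2 : 2 ∣ orderOf x
  · exact (h.two x h2).elim Or.inl fun e => Or.inr (Or.inr (Or.inl e))
  by_cases hp : p ∣ orderOf x
  · exact (h.pee x hp).elim (fun e => Or.inr (Or.inl e)) fun e => Or.inr (Or.inr (Or.inl e))
  exact Or.inr (Or.inr (Or.inr ⟨h2, hp⟩))

theorem subgroup (H : Subgroup G) : Hyp ↥H p :=
  ⟨h.prime, h.odd, fun x hx => by rw [← orderOf_coe] at hx ⊢; exact h.two _ hx,
    fun x hx => by rw [← orderOf_coe] at hx ⊢; exact h.pee _ hx⟩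

variable [Finite G]

/-- A subgroup centralising an element of order `2` or `p` has only these prime divisors. -/
theorem primes_of_le_centralizer {x : G} {r : ℕ} (hr : r = 2 ∨ r = p) (hx : orderOf x = r)
    {C : Subgroup G} (hC : C ≤ centralizer ({x} : Set G)) {s : ℕ} (hs : s.Prime)
    (hsC : s ∣ Nat.card ↥C) : s = 2 ∨ s = p := by
  haveI := Fact.mk hs
  obtain ⟨y, hy⟩ := exists_prime_orderOf_dvd_card' (G := ↥C) s hsC
  exact h.prime_commute hr hs hx (by rw [orderOf_coe]; exact hy)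
    (mem_centralizer_singleton_iff.1 (hC y.2)).symm

theorem solvable_of_le_centralizer {x : G} {r : ℕ} (hr : r = 2 ∨ r = p) (hx : orderOf x = r)
    {C : Subgroup G} (hC : C ≤ centralizer ({x} : Set G)) : Group.IsSolvable ↥C := by
  obtain ⟨a, b, hab⟩ := exists_prime_two_factors Nat.card_pos.ne'
    (fun s hs hsC => h.primes_of_le_centralizer hr hx hC hs hsC)
  exact Cfsg.Agent.S0144.result 2 p a b Nat.prime_two h.prime hab

theorem solvable_centralizer {t : G} (ht : orderOf t = 2) :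
    Group.IsSolvable ↥(centralizer ({t} : Set G)) :=
  h.solvable_of_le_centralizer (Or.inl rfl) ht le_rfl

theorem isPGroup_of_odd {X : Subgroup G} (hodd : Odd (Nat.card ↥X))
    (hpr : ∀ s : ℕ, s.Prime → s ∣ Nat.card ↥X → s = 2 ∨ s = p) : IsPGroup p ↥X := by
  obtain ⟨a, b, hab⟩ := exists_prime_two_factors Nat.card_pos.ne' hpr
  rcases Nat.eq_zero_or_pos a with rfl | ha
  · exact IsPGroup.of_card (hab.trans (by rw [pow_zero, one_mul]))
  · exfalso
    exact Nat.not_even_iff_odd.2 hodd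
      (even_iff_two_dvd.2 (hab ▸ Dvd.dvd.mul_right (dvd_pow_self 2 ha.ne') _))

theorem sylow_exp (S : Sylow 2 G) {s : G} (hs : s ∈ (S : Subgroup G)) : s ^ 2 = 1 := by
  obtain ⟨k, hk⟩ := S.2 ⟨s, hs⟩
  exact h.sq_of_two_pow (k := k) (congrArg Subtype.val hk)

theorem sylow_elementary (S : Sylow 2 G) :
    Cfsg.IsElementaryAbelian 2 (S : Subgroup G) := by
  refine ⟨⟨⟨fun a b => Subtype.ext ?_⟩⟩, fun s hs => h.sylow_exp S hs⟩
  have ha := h.sylow_exp S a.2
  have hb := h.sylow_exp S b.2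
  have hab := h.sylow_exp S (mul_mem a.2 b.2)
  rw [sq] at ha hb hab
  show (a : G) * b = b * a
  calc (a : G) * b = (a * b)⁻¹ := (inv_eq_of_mul_eq_one_left hab).symm
    _ = (b : G)⁻¹ * (a : G)⁻¹ := mul_inv_rev _ _
    _ = b * a := by rw [inv_eq_of_mul_eq_one_left ha, inv_eq_of_mul_eq_one_left hb]

end Hyp

/-- The largest normal subgroup of odd order of a subgroup, in the ambient group. -/
def core (C : Subgroup G) : Subgroup G := (Cfsg.oddCore ↥C).map C.subtype

theorem core_le (C : Subgroup G) : core C ≤ C := map_subtype_le _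

theorem odd_core [Finite G] (C : Subgroup G) : Odd (Nat.card ↥(core C)) := by
  rw [core, card_map_of_injective C.subtype_injective]
  exact Nat.coprime_two_right.1 (CfsgLib.Solvable.coprime_card_pPrimeCore (G := ↥C) 2)

theorem le_normalizer_core [Finite G] (C : Subgroup G) : C ≤ normalizer (core C : Set G) := by
  refine CfsgLib.Signalizer.le_normalizer_of_conj_mem fun c hc x hx => ?_
  obtain ⟨x', hx', rfl⟩ := hx
  exact ⟨⟨c, hc⟩ * x' * ⟨c, hc⟩⁻¹, (Cfsg.pPrimeCore_normal 2 ↥C).conj_mem x' hx' _, rfl⟩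

/-- A solvable group with abelian Sylow `2`-subgroup is `O(C) N(S)`. -/
theorem exists_core_mul [Finite G] {C : Subgroup G} [Group.IsSolvable ↥C] (S : Sylow 2 G)
    (hS : IsMulCommutative ↥(S : Subgroup G)) (hSC : (S : Subgroup G) ≤ C) {c : G} (hc : c ∈ C) :
    ∃ o ∈ core C, ∃ n ∈ C, n ∈ normalizer ((S : Subgroup G) : Set G) ∧ c = o * n := by
  haveI : Fact (Nat.Prime 2) := ⟨Nat.prime_two⟩
  let P : Sylow 2 ↥C := S.subtype hSC
  haveI := hS
  have hP : IsMulCommutative ↥(P : Subgroup ↥C) := ⟨⟨fun a b => Subtype.ext (Subtype.ext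
    (setLike_mul_comm (s := (S : Subgroup G)) a.2 b.2))⟩⟩
  set O := Cfsg.oddCore ↥C with hO
  haveI : O.Normal := Cfsg.pPrimeCore_normal 2 ↥C
  haveI hN : ((P : Subgroup ↥C) ⊔ O).Normal := CfsgLib.Fitting.sup_pPrimeCore_normal P hP
  let Q : Sylow 2 ↥((P : Subgroup ↥C) ⊔ O) := P.subtype le_sup_left
  have htop : normalizer (((Q : Subgroup ↥((P : Subgroup ↥C) ⊔ O)).map
      ((P : Subgroup ↥C) ⊔ O).subtype : Subgroup ↥C) : Set ↥C) ⊔ ((P : Subgroup ↥C) ⊔ O) = ⊤ :=
    Sylow.normalizer_sup_eq_top Q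
  have hQP : (Q : Subgroup ↥((P : Subgroup ↥C) ⊔ O)).map ((P : Subgroup ↥C) ⊔ O).subtype =
      (P : Subgroup ↥C) := map_subgroupOf_eq_of_le le_sup_left
  rw [hQP, sup_comm (P : Subgroup ↥C) O, sup_comm, sup_assoc,
    sup_of_le_right (le_normalizer (H := (P : Subgroup ↥C)))] at htop
  have hmem : (⟨c, hc⟩ : ↥C) ∈ O ⊔ normalizer ((P : Subgroup ↥C) : Set ↥C) := htop ▸ mem_top _
  obtain ⟨o, ho, n, hn, hon⟩ := mem_sup_of_normal_left.1 hmem
  refine ⟨o, ⟨o, ho, rfl⟩, n, n.2, ?_, (congrArg Subtype.val hon).symm⟩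
  refine mem_normalizer_iff_map_conj_eq.2 (eq_of_le_of_card_ge ?_ ?_)
  · rintro _ ⟨s, hs, rfl⟩
    exact (mem_normalizer_iff.1 hn ⟨s, hSC hs⟩).1 hs
  · exact (Nat.card_congr ((S : Subgroup G).equivMapOfInjective _
      (MulAut.conj (n : G)).injective).toEquiv).le

/-- An odd subgroup normalised by a noncyclic elementary abelian two-group lies in a subgroup as soon
as its fixed points of the involutions do. -/
theorem le_of_fixed [Finite G] {E X Y : Subgroup G} (hE : Cfsg.IsElementaryAbelian 2 E)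
    (hE4 : 4 ≤ Nat.card ↥E) (hEX : E ≤ normalizer (X : Set G)) (hX : Odd (Nat.card ↥X))
    (hY : ∀ e ∈ E, orderOf e = 2 → X ⊓ centralizer {e} ≤ Y) : X ≤ Y :=
  CfsgLib.Signalizer.le_of_forall_centralizer hE le_rfl (by norm_num; exact hE4) hEX
    (fun h => Nat.not_even_iff_odd.2 hX (even_iff_two_dvd.2 h))
    fun e he he1 => hY e he (orderOf_eq_prime (hE.2 e he) he1)

end CfsgLib.OneComp
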