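import Cfsg.Agent.OneComp.Structure

/-!
# Groups with a single composite element order `2p`: the cores of involution centralisers
-/

set_option autoImplicit false
set_option linter.style.haveILetI false
set_option linter.unusedSectionVars false

namespace CfsgLib.OneComp

open Subgroup

universe u

variable {G : Type u} [Group G] [Finite G] {p : ℕ} (h : Hyp G p) (S : Sylow 2 G)

/-- The odd core of the centraliser of `S`. -/
abbrev coreS : Subgroup G := core (centralizer ((S : Subgroup G) : Set G))

theorem normalizer_le_normalizer_centralizer :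
    normalizer ((S : Subgroup G) : Set G) ≤ normalizer (centralizer ((S : Subgroup G) : Set G) : Set G) := by
  refine CfsgLib.Signalizer.le_normalizer_of_conj_mem fun g hg x hx => mem_centralizer_iff.2 fun s hs => ?_
  have h1 : g⁻¹ * s * g ∈ (S : Subgroup G) := (mem_normalizer_iff''.1 hg s).1 hs
  have h2 := mem_centralizer_iff.1 hx _ h1
  calc s * (g * x * g⁻¹) = g * ((g⁻¹ * s * g) * x) * g⁻¹ := by group
    _ = g * (x * (g⁻¹ * s * g)) * g⁻¹ := by rw [h2]
    _ = g * x * g⁻¹ * s := by group

theorem normalizer_le_normalizer_coreS :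
    normalizer ((S : Subgroup G) : Set G) ≤ normalizer (coreS S : Set G) :=
  (normalizer_le_normalizer_centralizer S).trans (normalizer_le_normalizer_core _)

include h in
theorem Hyp.sylow_le_centralizer {t : G} (ht : t ∈ (S : Subgroup G)) :
    (S : Subgroup G) ≤ centralizer ({t} : Set G) :=
  CfsgLib.Signalizer.le_centralizer_singleton (h.sylow_elementary S) ht

include h in
theorem Hyp.sylow_le_centralizer_self : (S : Subgroup G) ≤ centralizer ((S : Subgroup G) : Set G) :=
  le_centralizer_iff_isMulCommutative.2 (h.sylow_comm S)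

theorem centralizer_le_centralizer_singleton {t : G} (ht : t ∈ (S : Subgroup G)) :
    centralizer ((S : Subgroup G) : Set G) ≤ centralizer ({t} : Set G) :=
  fun _ hx => mem_centralizer_singleton_iff.2 (mem_centralizer_iff.1 hx t ht).symm

include h in
theorem Hyp.exists_invol [IsSimpleGroup G] (hns : ¬ Group.IsSolvable G) :
    ∃ t ∈ (S : Subgroup G), orderOf t = 2 := by
  have h4 := h.card_sylow S hns
  have hne : (S : Subgroup G) ≠ ⊥ := fun e => by rw [e, card_bot] at h4; omega
  obtain ⟨t, ht, ht1⟩ := (Subgroup.bot_or_exists_ne_one _).resolve_left hne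
  exact ⟨t, ht, orderOf_eq_prime (h.sylow_exp S ht) ht1⟩

include h in
theorem Hyp.solvable_centralizer_sylow [IsSimpleGroup G] (hns : ¬ Group.IsSolvable G) :
    Group.IsSolvable ↥(centralizer ((S : Subgroup G) : Set G)) := by
  obtain ⟨t, ht, ht2⟩ := h.exists_invol S hns
  exact h.solvable_of_le_centralizer (Or.inl rfl) ht2 (centralizer_le_centralizer_singleton S ht)

include h in
/-- The elements of odd order centralising `S` lie in the core. -/
theorem Hyp.mem_coreS [IsSimpleGroup G] (hns : ¬ Group.IsSolvable G) {z : G}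
    (hz : z ∈ centralizer ((S : Subgroup G) : Set G)) (hodd : Odd (orderOf z)) : z ∈ coreS S := by
  haveI := h.solvable_centralizer_sylow S hns
  exact mem_core_of_centralizes S (h.sylow_comm S) (h.sylow_le_centralizer_self S) hz hodd hz

include h in
theorem Hyp.coreS_isPGroup [IsSimpleGroup G] (hns : ¬ Group.IsSolvable G) : IsPGroup p ↥(coreS S) := by
  obtain ⟨t, ht, ht2⟩ := h.exists_invol S hns
  exact h.core_centralizer_isPGroup (Or.inl rfl) ht2 (centralizer_le_centralizer_singleton S ht)

include h in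
/-- The centraliser of a nontrivial element of the core of `C(S)` lies in `N(S)`. -/
theorem Hyp.centralizer_le_normalizer_of_mem_coreS {c : G} {l : ℕ} (hc : Mover S c l)
    [IsSimpleGroup G] (hns : ¬ Group.IsSolvable G) (hZ : coreS S ≠ ⊥) :
    normalizer (coreS S : Set G) ≤ normalizer ((S : Subgroup G) : Set G) := by
  haveI : Fact (Nat.Prime 2) := ⟨Nat.prime_two⟩
  haveI := Fact.mk h.prime
  set Z := coreS S with hZdef
  obtain ⟨z, hz, hz1⟩ := (Subgroup.bot_or_exists_ne_one _).resolve_left hZ
  have hzp : orderOf z = p := by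
    obtain ⟨k, hk⟩ := h.coreS_isPGroup S hns ⟨z, hz⟩
    exact orderOf_eq_prime (h.pow_p_eq_one (k := k) (congrArg Subtype.val hk)) hz1
  set C := centralizer (Z : Set G) with hC
  have hCz : C ≤ centralizer ({z} : Set G) :=
    fun x hx => mem_centralizer_singleton_iff.2 (mem_centralizer_iff.1 hx z hz).symm
  haveI := h.solvable_of_le_centralizer (Or.inr rfl) hzp hCz
  have hSC : (S : Subgroup G) ≤ C := fun s hs => mem_centralizer_iff.2 fun y hy =>
    (mem_centralizer_iff.1 (core_le _ hy) s hs).symm
  have hO : (S : Subgroup G) ≤ centralizer (core C : Set G) := by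
    have hN : normalizer (Z : Set G) ≤ normalizer (core C : Set G) := by
      refine le_trans ?_ (normalizer_le_normalizer_core _)
      refine CfsgLib.Signalizer.le_normalizer_of_conj_mem fun g hg x hx => mem_centralizer_iff.2 fun y hy => ?_
      have h1 : g⁻¹ * y * g ∈ Z := (mem_normalizer_iff''.1 hg y).1 hy
      have h2 := mem_centralizer_iff.1 hx _ h1
      calc y * (g * x * g⁻¹) = g * ((g⁻¹ * y * g) * x) * g⁻¹ := by group
        _ = g * (x * (g⁻¹ * y * g)) * g⁻¹ := by rw [h2]
        _ = g * x * g⁻¹ * y := by group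
    exact h.centralizes_pgroup S hc.prime hc.ne_two hc.order hc.mem hc.fix
      (h.core_centralizer_isPGroup (Or.inr rfl) hzp hCz) (hN (normalizer_le_normalizer_coreS S hc.mem))
      (hSC.trans (le_normalizer_core C))
  have hCN : C ≤ normalizer ((S : Subgroup G) : Set G) := fun x hx => by
    obtain ⟨o, ho, n, -, hn, rfl⟩ := exists_core_mul S (h.sylow_comm S) hSC hx
    refine mul_mem ?_ hn
    refine CfsgLib.Signalizer.le_normalizer_of_conj_mem (A := zpowers o) ?_ (mem_zpowers o)
    rintro b hb s hs
    have hb' : b ∈ core C := zpowers_le.2 ho hb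
    rwa [mem_centralizer_iff.1 (hO hs) b hb', mul_inv_cancel_right]
  intro g hg
  refine mem_normalizer_iff_map_conj_eq.2 (eq_of_le_of_card_ge ?_ ?_)
  · rintro _ ⟨s, hs, rfl⟩
    refine mem_sylow_of_normalizes S (k := 1) ?_ (hCN (mem_centralizer_iff.2 fun y hy => ?_))
    · show (g * s * g⁻¹) ^ 2 ^ 1 = 1
      rw [pow_one, conj_pow, h.sylow_exp S hs, mul_one, mul_inv_cancel]
    · show y * (g * s * g⁻¹) = g * s * g⁻¹ * y
      have h1 : g⁻¹ * y * g ∈ Z := (mem_normalizer_iff''.1 hg y).1 hy
      have h2 := mem_centralizer_iff.1 (hSC hs) _ h1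
      calc y * (g * s * g⁻¹) = g * ((g⁻¹ * y * g) * s) * g⁻¹ := by group
        _ = g * (s * (g⁻¹ * y * g)) * g⁻¹ := by rw [h2]
        _ = g * s * g⁻¹ * y := by group
  · exact (Nat.card_congr ((S : Subgroup G).equivMapOfInjective _ (MulAut.conj g).injective).toEquiv).le

include h in
/-- With a nontrivial core of `C(S)`, or in rank at least three, the cores lie in that of `C(S)`. -/
theorem Hyp.core_centralizer_le [IsSimpleGroup G] (hns : ¬ Group.IsSolvable G)
    (hbig : 8 ≤ Nat.card ↥(S : Subgroup G) ∨ coreS S ≠ ⊥) {t : G} (ht : t ∈ (S : Subgroup G))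
    (ht2 : orderOf t = 2) : core (centralizer ({t} : Set G)) ≤ coreS S := by
  obtain ⟨c, l, hc⟩ := h.exists_mover S hns
  rcases hbig with h8 | hZ
  · obtain ⟨W, hW, hNW, hcore⟩ := h.signalizer S h8
    have hSW : (S : Subgroup G) ≤ centralizer (W : Set G) :=
      h.centralizes_pgroup S hc.prime hc.ne_two hc.order hc.mem hc.fix hW (hNW hc.mem) (le_normalizer.trans hNW)
    have hWS : W ≤ centralizer ((S : Subgroup G) : Set G) := le_centralizer_iff.1 hSW
    have hCN : centralizer ((S : Subgroup G) : Set G) ≤ normalizer ((S : Subgroup G) : Set G) :=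
      centralizer_le_normalizer _
    have hodd : Odd (Nat.card ↥W) := by
      haveI := Fact.mk h.prime
      obtain ⟨n, hn⟩ := IsPGroup.iff_card.1 hW
      exact hn ▸ (h.prime.odd_of_ne_two h.odd).pow
    exact (hcore t ht ht2).trans (le_core hWS (hCN.trans hNW) hodd)
  · haveI := Fact.mk h.prime
    set R := core (centralizer ({t} : Set G)) with hR
    have hRp : IsPGroup p ↥R := h.core_centralizer_isPGroup (Or.inl rfl) ht2 le_rfl
    have hSR : (S : Subgroup G) ≤ normalizer (R : Set G) :=
      (h.sylow_le_centralizer S ht).trans (le_normalizer_core _)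
    have hint : R ⊓ normalizer ((S : Subgroup G) : Set G) ≤ coreS S := by
      rintro r ⟨hr, hrN⟩
      refine h.mem_coreS S hns (mem_centralizer_iff.2 fun s hs => ?_)
        ((odd_core _).of_dvd_nat (orderOf_dvd_natCard _ hr))
      have h1 : r * s * r⁻¹ * s⁻¹ ∈ (S : Subgroup G) :=
        mul_mem ((mem_normalizer_iff.1 hrN s).1 hs) (inv_mem hs)
      have h2 : r * s * r⁻¹ * s⁻¹ ∈ R := by
        have e : r * s * r⁻¹ * s⁻¹ = r * (s * r⁻¹ * s⁻¹) := by group
        rw [e]
        exact mul_mem hr ((mem_normalizer_iff.1 (hSR hs) r⁻¹).1 (inv_mem hr))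
      have hbot : (S : Subgroup G) ⊓ R = ⊥ := inf_eq_bot_of_coprime (by
        haveI : Fact (Nat.Prime 2) := ⟨Nat.prime_two⟩
        exact IsPGroup.coprime_card_of_ne 2 p (Ne.symm h.odd) _ _ S.2 hRp)
      have h3 : r * s * r⁻¹ * s⁻¹ ∈ (⊥ : Subgroup G) := hbot ▸ ⟨h1, h2⟩
      rw [mem_bot, mul_inv_eq_one, mul_inv_eq_iff_eq_mul] at h3
      exact h3.symm
    by_contra hle
    have hlt : coreS S < R := lt_of_le_not_ge (h.core_le_core_centralizer S ht ht2) hle
    have h4 := CfsgLib.Fusion.lt_inf_normalizer hRp hlt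
    exact h4.not_ge ((inf_le_inf_left R (h.centralizer_le_normalizer_of_mem_coreS S hc hns hZ)).trans hint)

end CfsgLib.OneComp
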