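import Mathlib.Algebra.Group.Subgroup.Finite
import Mathlib.GroupTheory.OrderOfElement
import Mathlib.Tactic.Group
import Mathlib.Tactic.Abel
import Mathlib.Tactic.IntervalCases

/-!
# A cubic relation for a group of order three acting on a cyclic group acting on a two-group
-/

set_option autoImplicit false

namespace CfsgLib.OneComp.Cubic

open Subgroup

universe u

variable {G : Type u} [Group G]

/-- Conjugation. -/
def T (t g : G) : G := g * t * g⁻¹

theorem T_mul (t g g' : G) : T t (g * g') = g * T t g' * g⁻¹ := by simp [T, mul_assoc]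

variable {S A : Subgroup G} {b c t : G}

/-- The product over the `b`-conjugates of `d`. -/
def eps (t b d : G) : G := T t d * T t (b * d * b⁻¹) * T t (b * (b * d * b⁻¹) * b⁻¹)

theorem eps_mem_fixed (hS : ∀ x ∈ S, ∀ y ∈ S, x * y = y * x) (hA : ∀ a ∈ A, ∀ x ∈ S, a * x * a⁻¹ ∈ S)
    (htS : t ∈ S) (hbA : ∀ a ∈ A, b * a * b⁻¹ ∈ A) (hb : b ^ 3 = 1) (hbt : b * t * b⁻¹ = t)
    {d : G} (hd : d ∈ A) : eps t b d ∈ S ∧ b * eps t b d * b⁻¹ = eps t b d := by
  set d1 := b * d * b⁻¹ with hd1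
  set d2 := b * d1 * b⁻¹ with hd2
  have hd3 : b * d2 * b⁻¹ = d := by
    rw [hd2, hd1, show b * (b * (b * d * b⁻¹) * b⁻¹) * b⁻¹ = (b * b * b) * d * (b * b * b)⁻¹ by group,
      ← pow_three', hb]
    group
  have hmem : ∀ a ∈ A, T t a ∈ S := fun a ha => hA a ha t htS
  have hT : ∀ a : G, b * T t a * b⁻¹ = T t (b * a * b⁻¹) := fun a => by
    calc b * T t a * b⁻¹ = (b * a * b⁻¹) * (b * t * b⁻¹) * (b * a * b⁻¹)⁻¹ := by simp [T, mul_assoc]
      _ = _ := by rw [hbt]; rfl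
  refine ⟨mul_mem (mul_mem (hmem d hd) (hmem d1 (hbA d hd))) (hmem d2 (hbA d1 (hbA d hd))), ?_⟩
  have e : b * eps t b d * b⁻¹ = T t d1 * T t d2 * T t d := by
    rw [eps, ← hd1, ← hd2]
    calc b * (T t d * T t d1 * T t d2) * b⁻¹ =
        (b * T t d * b⁻¹) * (b * T t d1 * b⁻¹) * (b * T t d2 * b⁻¹) := by group
      _ = _ := by rw [hT, hT, hT, ← hd1, ← hd2, hd3]
  rw [e, eps, ← hd1, ← hd2, mul_assoc, mul_assoc,
    hS (T t d) (hmem d hd) _ (mul_mem (hmem d1 (hbA d hd)) (hmem d2 (hbA d1 (hbA d hd)))), mul_assoc]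

/-- The cubic relation. -/
theorem T_cube_mem (hS : ∀ x ∈ S, ∀ y ∈ S, x * y = y * x) (hS2 : ∀ x ∈ S, x * x = 1)
    (hA : ∀ a ∈ A, ∀ x ∈ S, a * x * a⁻¹ ∈ S) (hAc : ∀ a ∈ A, ∀ a' ∈ A, a * a' = a' * a)
    (htS : t ∈ S) (hc : c ∈ A) (hbA : ∀ a ∈ A, b * a * b⁻¹ ∈ A) (hb : b ^ 3 = 1)
    (hbt : b * t * b⁻¹ = t) (hfixS : ∀ s ∈ S, b * s * b⁻¹ = s → s = 1 ∨ s = t)
    (hfixA : ∀ a ∈ A, b * a * b⁻¹ = a → a = 1)
    {V : Subgroup G} (h0 : t ∈ V) (h1 : T t c ∈ V) (h2 : T t (c ^ 2) ∈ V) : T t (c ^ 3) ∈ V := by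
  set c1 := b * c * b⁻¹ with hc1
  set c2 := b * c1 * b⁻¹ with hc2
  have m1 : c1 ∈ A := hbA c hc
  have m2 : c2 ∈ A := hbA c1 m1
  have hc3 : b * c2 * b⁻¹ = c := by
    rw [hc2, hc1, show b * (b * (b * c * b⁻¹) * b⁻¹) * b⁻¹ = (b * b * b) * c * (b * b * b)⁻¹ by group,
      ← pow_three', hb]
    group
  have hprod : c * c1 * c2 = 1 := by
    refine hfixA _ (mul_mem (mul_mem hc m1) m2) ?_
    calc b * (c * c1 * c2) * b⁻¹ = (b * c * b⁻¹) * (b * c1 * b⁻¹) * (b * c2 * b⁻¹) := by group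
      _ = c1 * c2 * c := by rw [hc3]
      _ = c * c1 * c2 := by rw [hAc (c1 * c2) (mul_mem m1 m2) c hc, ← mul_assoc]
  have hcases : ∀ d ∈ A, eps t b d = 1 ∨ eps t b d = t := fun d hd =>
    let ⟨h', h''⟩ := eps_mem_fixed hS hA htS hbA hb hbt hd
    hfixS _ h' h''
  have hmem : ∀ a ∈ A, T t a ∈ S := fun a ha => hA a ha t htS
  -- the two translated products
  set X := T t (c ^ 2 * c) * T t (c ^ 2 * c1) * T t (c ^ 2 * c2) with hX
  have hXV : X ∈ V := by
    have e : X = c ^ 2 * eps t b c * (c ^ 2)⁻¹ := by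
      rw [hX, eps, ← hc1, ← hc2, T_mul t (c ^ 2) c, T_mul t (c ^ 2) c1, T_mul t (c ^ 2) c2]; group
    rcases hcases c hc with e' | e' <;> rw [e, e']
    · rw [mul_one, mul_inv_cancel]; exact one_mem V
    · exact h2
  set Y := T t (c * c⁻¹) * T t (c * c1⁻¹) * T t (c * c2⁻¹) with hY
  have hYV : Y ∈ V := by
    have e : Y = c * eps t b c⁻¹ * c⁻¹ := by
      rw [hY, eps, show b * c⁻¹ * b⁻¹ = c1⁻¹ by rw [hc1]; group,
        show b * c1⁻¹ * b⁻¹ = c2⁻¹ by rw [hc2]; group, T_mul t c c⁻¹, T_mul t c c1⁻¹, T_mul t c c2⁻¹]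
      group
    rcases hcases c⁻¹ (inv_mem hc) with e' | e' <;> rw [e, e']
    · rw [mul_one, mul_inv_cancel]; exact one_mem V
    · exact h1
  have ec1 : c * c1⁻¹ = c ^ 2 * c2 := by
    have : c1⁻¹ = c * c2 := by
      refine inv_eq_of_mul_eq_one_right ?_
      rw [← mul_assoc, hAc c1 m1 c hc, hprod]
    rw [this, sq, mul_assoc]
  have ec2 : c * c2⁻¹ = c ^ 2 * c1 := by
    have : c2⁻¹ = c * c1 := inv_eq_of_mul_eq_one_left hprod
    rw [this, sq, mul_assoc]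
  have ha : T t (c ^ 2 * c1) ∈ S := hmem _ (mul_mem (pow_mem hc 2) m1)
  have hb' : T t (c ^ 2 * c2) ∈ S := hmem _ (mul_mem (pow_mem hc 2) m2)
  have key : X * Y * t = T t (c ^ 3) := by
    rw [hX, hY, ec1, ec2, mul_inv_cancel, show T t (1 : G) = t by simp [T], ← pow_succ]
    set P := T t (c ^ (2 + 1))
    set Q := T t (c ^ 2 * c1) with hQ
    set R := T t (c ^ 2 * c2) with hR
    calc P * Q * R * (t * R * Q) * t = P * Q * R * ((t * R * Q) * t) := by group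
      _ = P * Q * R * (t * (t * R * Q)) := by rw [hS _ (mul_mem (mul_mem htS hb') ha) t htS]
      _ = P * Q * (R * ((t * t) * R)) * Q := by group
      _ = P := by rw [hS2 t htS, one_mul, hS2 R hb', mul_one, mul_assoc, hS2 Q ha, mul_one]
  exact key ▸ mul_mem (mul_mem hXV hYV) h0

/-- The translates of `t` lie in a subgroup generated by three of them. -/
theorem orderOf_le_eight [Finite G] (hS : ∀ x ∈ S, ∀ y ∈ S, x * y = y * x) (hS2 : ∀ x ∈ S, x * x = 1)
    (hA : ∀ a ∈ A, ∀ x ∈ S, a * x * a⁻¹ ∈ S) (hAc : ∀ a ∈ A, ∀ a' ∈ A, a * a' = a' * a)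
    (htS : t ∈ S) (hc : c ∈ A) (hbA : ∀ a ∈ A, b * a * b⁻¹ ∈ A) (hb : b ^ 3 = 1)
    (hbt : b * t * b⁻¹ = t) (hfixS : ∀ s ∈ S, b * s * b⁻¹ = s → s = 1 ∨ s = t)
    (hfixA : ∀ a ∈ A, b * a * b⁻¹ = a → a = 1)
    (hfree : ∀ a ∈ A, T t a = t → a = 1) : orderOf c ≤ 8 := by
  set x := T t c with hx
  set y := T t (c ^ 2) with hy
  set V := closure ({t, x, y} : Set G) with hV
  have ht : t ∈ V := subset_closure (by simp)
  have hxV : x ∈ V := subset_closure (by simp)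
  have hyV : y ∈ V := subset_closure (by simp)
  have h3 := T_cube_mem hS hS2 hA hAc htS hc hbA hb hbt hfixS hfixA ht hxV hyV
  have hcV : ∀ v ∈ V, c * v * c⁻¹ ∈ V := by
    intro v hv
    induction hv using closure_induction with
    | mem v hv =>
      rcases hv with rfl | rfl | rfl
      · exact hxV
      · rw [show c * x * c⁻¹ = y by rw [hy, hx, sq, T_mul]]; exact hyV
      · rw [show c * y * c⁻¹ = T t (c ^ 3) by rw [hy, ← T_mul, ← pow_succ']]; exact h3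
    | one => rw [mul_one, mul_inv_cancel]; exact one_mem V
    | mul a a' _ _ ha ha' =>
      rw [show c * (a * a') * c⁻¹ = (c * a * c⁻¹) * (c * a' * c⁻¹) by group]; exact mul_mem ha ha'
    | inv a _ ha =>
      rw [show c * a⁻¹ * c⁻¹ = (c * a * c⁻¹)⁻¹ by group]; exact inv_mem ha
  have hi : ∀ i : ℕ, T t (c ^ i) ∈ V := by
    intro i
    induction i with
    | zero => simpa [T] using ht
    | succ i ih => rw [pow_succ', T_mul]; exact hcV _ ih
  have hxS : x ∈ S := hA c hc t htS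
  have hyS : y ∈ S := hA _ (pow_mem hc 2) t htS
  have hpow : ∀ s ∈ S, ∀ n : ℕ, s ^ n = s ^ (n % 2) := fun s hs n => by
    conv_lhs => rw [← Nat.div_add_mod n 2, pow_add, pow_mul, sq, hS2 s hs, one_pow, one_mul]
  let f : Fin 2 × Fin 2 × Fin 2 → G := fun a => t ^ (a.1 : ℕ) * x ^ (a.2.1 : ℕ) * y ^ (a.2.2 : ℕ)
  have hrange : ∀ v ∈ V, v ∈ Set.range f := by
    suffices ∀ v ∈ V, ∃ a b e : ℕ, v = t ^ a * x ^ b * y ^ e by
      intro v hv
      obtain ⟨a, b, e, rfl⟩ := this v hv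
      exact ⟨(⟨a % 2, Nat.mod_lt _ two_pos⟩, ⟨b % 2, Nat.mod_lt _ two_pos⟩, ⟨e % 2, Nat.mod_lt _ two_pos⟩),
        by simp only [f]; rw [← hpow t htS, ← hpow x hxS, ← hpow y hyS]⟩
    intro v hv
    induction hv using closure_induction with
    | mem v hv =>
      rcases hv with rfl | rfl | rfl
      · exact ⟨1, 0, 0, by simp⟩
      · exact ⟨0, 1, 0, by simp⟩
      · exact ⟨0, 0, 1, by simp⟩
    | one => exact ⟨0, 0, 0, by simp⟩
    | mul a a' _ _ ha ha' =>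
      obtain ⟨i, j, k, rfl⟩ := ha
      obtain ⟨i', j', k', rfl⟩ := ha'
      refine ⟨i + i', j + j', k + k', ?_⟩
      have e1 : y ^ k * t ^ i' = t ^ i' * y ^ k := hS _ (pow_mem hyS k) _ (pow_mem htS i')
      have e2 : x ^ j * t ^ i' = t ^ i' * x ^ j := hS _ (pow_mem hxS j) _ (pow_mem htS i')
      have e3 : y ^ k * x ^ j' = x ^ j' * y ^ k := hS _ (pow_mem hyS k) _ (pow_mem hxS j')
      calc t ^ i * x ^ j * y ^ k * (t ^ i' * x ^ j' * y ^ k')
          = t ^ i * x ^ j * (y ^ k * t ^ i') * x ^ j' * y ^ k' := by group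
        _ = t ^ i * x ^ j * (t ^ i' * y ^ k) * x ^ j' * y ^ k' := by rw [e1]
        _ = t ^ i * (x ^ j * t ^ i') * (y ^ k * x ^ j') * y ^ k' := by group
        _ = t ^ i * (t ^ i' * x ^ j) * (x ^ j' * y ^ k) * y ^ k' := by rw [e2, e3]
        _ = _ := by group
    | inv a _ ha =>
      obtain ⟨i, j, k, rfl⟩ := ha
      refine ⟨i, j, k, inv_eq_of_mul_eq_one_right (hS2 _ ?_)⟩
      exact mul_mem (mul_mem (pow_mem htS i) (pow_mem hxS j)) (pow_mem hyS k)
  calc orderOf c ≤ Set.ncard (Set.range f) := by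
        have hinj : Function.Injective (fun i : Fin (orderOf c) => (⟨T t (c ^ (i : ℕ)),
            hrange _ (hi i)⟩ : Set.range f)) := by
          intro i j e
          have e' : T t (c ^ (i : ℕ)) = T t (c ^ (j : ℕ)) := congrArg Subtype.val e
          have key : (c ^ (j : ℕ))⁻¹ * c ^ (i : ℕ) = 1 := by
            refine hfree _ (mul_mem (inv_mem (pow_mem hc _)) (pow_mem hc _)) ?_
            rw [T_mul, e', ← T_mul, inv_mul_cancel]
            simp [T]
          exact Fin.ext (pow_injOn_Iio_orderOf i.2 j.2 (inv_mul_eq_one.1 key).symm)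
        have := Nat.card_le_card_of_injective _ hinj
        rwa [Nat.card_fin, Nat.card_coe_set_eq] at this
    _ ≤ 8 := by
        rw [← Nat.card_coe_set_eq]
        exact le_of_le_of_eq (Nat.card_le_card_of_surjective _ Set.rangeFactorization_surjective) (by simp)

end CfsgLib.OneComp.Cubic
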