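import Cfsg.Agent.OneComp.FrobData
import Cfsg.Agent.OneComp.Cubic
import Cfsg.Agent.S3370
import Mathlib.Data.ZMod.Basic

/-!
# Groups with a single composite element order `2p`: counting the cosets of `N(S)`
-/

set_option autoImplicit false
set_option linter.style.haveILetI false
set_option linter.unusedSectionVars false

namespace CfsgLib.OneComp

open Subgroup

universe u

theorem false_of_burnside {G : Type u} [Group G] [Finite G] [IsSimpleGroup G]
    (hns : ¬ Group.IsSolvable G) {q : ℕ} [Fact q.Prime] (P : Sylow q G) (hne : (P : Subgroup G) ≠ ⊥)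
    (hle : normalizer ((P : Subgroup G) : Set G) ≤ centralizer ((P : Subgroup G) : Set G)) : False := by
  have hc := MonoidHom.ker_transferSylow_isComplement' P hle
  rcases IsSimpleGroup.eq_bot_or_eq_top_of_normal (MonoidHom.transferSylow P hle).ker inferInstance with hb | ht
  · rw [hb] at hc
    have hcard := hc.card_mul
    rw [card_bot, one_mul] at hcard
    obtain ⟨n, hn⟩ := IsPGroup.iff_card.1 P.2
    haveI := (IsPGroup.of_card (p := q) (hcard.symm.trans hn) : IsPGroup q G).isNilpotent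
    exact hns inferInstance
  · rw [ht] at hc
    have hcard := hc.card_mul
    rw [card_top] at hcard
    refine hne (card_eq_one.1 ?_)
    have := Nat.card_pos (α := G)
    nlinarith

variable {G : Type u} [Group G] [Finite G] [IsSimpleGroup G] {p : ℕ} (h : Hyp G p)
  (hns : ¬ Group.IsSolvable G) (S : Sylow 2 G)
  (hC : ∀ t ∈ (S : Subgroup G), orderOf t = 2 →
    centralizer ({t} : Set G) ≤ normalizer ((S : Subgroup G) : Set G))
  {l n : ℕ} {c b t : G} (D : FrobData S p l n c b t)

omit [IsSimpleGroup G] in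
theorem eq_zpowers {l : ℕ} (hl : l.Prime) {c x : G} (hc : orderOf c = l) (hx : x ∈ zpowers c) (hx1 : x ≠ 1) :
    zpowers x = zpowers c := by
  refine eq_of_le_of_card_ge (zpowers_le.2 hx) ?_
  rw [Nat.card_zpowers, Nat.card_zpowers, hc]
  rcases (Nat.dvd_prime hl).1 (hc ▸ Nat.card_zpowers c ▸ orderOf_dvd_natCard _ hx) with e | e
  · exact absurd (orderOf_eq_one_iff.1 e) hx1
  · exact e.ge

omit [IsSimpleGroup G] in
theorem normalizer_le_normalizer_cent {A : Subgroup G} :
    normalizer (A : Set G) ≤ normalizer (centralizer (A : Set G) : Set G) := by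
  refine CfsgLib.Signalizer.le_normalizer_of_conj_mem fun g hg x hx => mem_centralizer_iff.2 fun z hz => ?_
  have h2 := mem_centralizer_iff.1 hx _ ((mem_normalizer_iff''.1 hg z).1 hz)
  calc z * (g * x * g⁻¹) = g * ((g⁻¹ * z * g) * x) * g⁻¹ := by group
    _ = g * (x * (g⁻¹ * z * g)) * g⁻¹ := by rw [h2]
    _ = g * x * g⁻¹ * z := by group

include h D in
omit [IsSimpleGroup G] in
/-- `n ≡ 1` modulo `p`: `b` fixes exactly one of the `n` involutions of `S`. -/
theorem FrobData.n_modEq : p ∣ n - 1 := by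
  haveI := Fact.mk h.prime
  let Ω := ↥(((S : Subgroup G) : Set G) \ {1})
  have hΩ : Nat.card Ω = n := by
    rw [Nat.card_coe_set_eq, Set.ncard_sdiff_singleton_of_mem (one_mem _), ← Nat.card_coe_set_eq,
      SetLike.coe_sort_coe, D.card_S, Nat.add_sub_cancel]
  letI : MulAction ↥(zpowers b) Ω :=
    { smul := fun g x => ⟨(g : G) * x * (g : G)⁻¹,
        (mem_normalizer_iff.1 (zpowers_le.2 D.b_mem g.2) _).1 x.2.1, fun e => x.2.2 (conj_eq_one_iff.1 e)⟩
      one_smul := fun x => Subtype.ext (by show (1 : G) * x * (1 : G)⁻¹ = x; group)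
      mul_smul := fun g g' x => Subtype.ext (by
        show (g : G) * g' * x * ((g : G) * g')⁻¹ = (g : G) * ((g' : G) * x * (g' : G)⁻¹) * (g : G)⁻¹
        group) }
  have hP : IsPGroup p ↥(zpowers b) := IsPGroup.of_card (n := 1) (by rw [Nat.card_zpowers, D.b_order, pow_one])
  have h1 := hP.card_modEq_card_fixedPoints Ω
  have h2 : Nat.card (MulAction.fixedPoints ↥(zpowers b) Ω) = 1 := by
    refine Nat.card_eq_one_iff_unique.2 ⟨⟨fun x y => ?_⟩, ⟨⟨⟨t, D.t_mem, CfsgLib.Invol.ne_one D.t_order⟩,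
      fun g => Subtype.ext ?_⟩⟩⟩
    · have hfix : ∀ z : MulAction.fixedPoints ↥(zpowers b) Ω, ((z : Ω) : G) = t := fun z =>
        (D.b_fix _ (z : Ω).2.1 (mul_inv_eq_iff_eq_mul.1
          (congrArg Subtype.val (z.2 ⟨b, mem_zpowers b⟩)))).resolve_left (z : Ω).2.2
      exact Subtype.ext (Subtype.ext ((hfix x).trans (hfix y).symm))
    · show (g : G) * t * (g : G)⁻¹ = t
      obtain ⟨i, hi⟩ := mem_zpowers_iff.1 g.2
      rw [← hi, (D.b_t.zpow_left i).eq, mul_inv_cancel_right]
  rw [h2, hΩ] at h1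
  exact (Nat.modEq_iff_dvd' (by
    by_contra h0
    rw [show n = 0 by omega] at h1
    exact absurd h1.symm (by simp [Nat.ModEq, Nat.mod_eq_of_lt h.prime.one_lt]))).1 h1.symm

include h D in
omit [IsSimpleGroup G] in
/-- No element of order `2` or `p` commutes with `c`. -/
theorem FrobData.no_prime {x : G} (hx : orderOf x = 2 ∨ orderOf x = p) : ¬ Commute x c := fun hc =>
  (h.prime_commute hx D.lprime rfl D.c_order hc).elim D.l_ne_two D.l_ne_p

include h D in
omit [IsSimpleGroup G] in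
theorem FrobData.cent_coprime : Odd (Nat.card ↥(centralizer (zpowers c : Set G))) ∧
    ¬ p ∣ Nat.card ↥(centralizer (zpowers c : Set G)) := by
  have key : ∀ r : ℕ, r.Prime → r = 2 ∨ r = p → ¬ r ∣ Nat.card ↥(centralizer (zpowers c : Set G)) := by
    intro r hr hr2 hd
    haveI := Fact.mk hr
    obtain ⟨x, hx⟩ := exists_prime_orderOf_dvd_card' r hd
    rw [← orderOf_coe] at hx
    exact D.no_prime h S (hx ▸ hr2 : orderOf (x : G) = 2 ∨ orderOf (x : G) = p)
      (mem_centralizer_iff.1 x.2 c (mem_zpowers c)).symm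
  refine ⟨?_, key p h.prime (Or.inr rfl)⟩
  rw [← Nat.not_even_iff_odd, even_iff_two_dvd]
  exact key 2 Nat.prime_two (Or.inl rfl)

include h hns hC D in
/-- Two cosets are fixed by a unique conjugate of `⟨c⟩`, which is normalised by an involution. -/
theorem FrobData.fixing {g : G} (hg : g ∉ normalizer ((S : Subgroup G) : Set G)) :
    ∃ c₁, orderOf c₁ = l ∧ c₁ ∈ normalizer ((S : Subgroup G) : Set G) ∧
      g⁻¹ * c₁ * g ∈ normalizer ((S : Subgroup G) : Set G) ∧
      (∀ x, orderOf x = l → x ∈ normalizer ((S : Subgroup G) : Set G) →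
        g⁻¹ * x * g ∈ normalizer ((S : Subgroup G) : Set G) → zpowers x = zpowers c₁) ∧
      ∃ u, orderOf u = 2 ∧ u ∈ normalizer (zpowers c₁ : Set G) := by
  classical
  haveI := Fact.mk D.lprime
  haveI : Fact (Nat.Prime 2) := ⟨Nat.prime_two⟩
  set M := normalizer ((S : Subgroup G) : Set G) with hM
  have hSE := h.embedded hns S hC
  set E := M ⊓ M.map (MulAut.conj g).toMonoidHom with hE
  have hEodd : Odd (Nat.card ↥E) := hSE.2.2 g hg
  have hEdvd : Nat.card ↥E ∣ n * p := by
    have h1 : Nat.card ↥E ∣ Nat.card ↥M := card_dvd_of_le inf_le_left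
    rw [D.card_N] at h1
    refine Nat.Coprime.dvd_of_dvd_mul_left ?_ h1
    obtain ⟨a, ha⟩ := IsPGroup.iff_card.1 S.2
    rw [← D.card_S, ha]
    exact (Nat.coprime_two_right.2 hEodd).pow_right a
  have hmem : ∀ x, x ∈ E ↔ x ∈ M ∧ g⁻¹ * x * g ∈ M := fun x => CfsgLib.StrongEmbed.mem_inf_conj_iff
  -- the involutions exchanging the two cosets
  have hne : (QuotientGroup.mk (1 : G) : G ⧸ M) ≠ QuotientGroup.mk g := fun e => by
    have := QuotientGroup.eq.1 e
    rw [inv_one, one_mul] at this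
    exact hg this
  set x₀ : G ⧸ M := QuotientGroup.mk (1 : G) with hx₀
  set y₀ : G ⧸ M := QuotientGroup.mk g with hy₀
  let W := {v : G // orderOf v = 2 ∧ v • x₀ = y₀}
  have hW : n ≤ Nat.card W := by
    rw [CfsgLib.StrongEmbed.card_swap hSE hne]
    have : Nat.card ↥(((S : Subgroup G) : Set G) \ {1}) ≤ Nat.card {t : G // orderOf t = 2 ∧ t ∈ M} := by
      refine Nat.card_le_card_of_injective (fun s => ⟨s.1, orderOf_eq_prime (h.sylow_exp S s.2.1) s.2.2,
        le_normalizer s.2.1⟩) fun a a' e => ?_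
      exact Subtype.ext (congrArg (fun z : {t : G // orderOf t = 2 ∧ t ∈ M} => z.1) e)
    rw [Nat.card_coe_set_eq, Set.ncard_sdiff_singleton_of_mem (one_mem _), ← Nat.card_coe_set_eq,
      SetLike.coe_sort_coe, D.card_S, Nat.add_sub_cancel] at this
    exact this
  have hnpos : 0 < n := by
    have h4 := h.card_sylow S hns
    rw [D.card_S] at h4
    omega
  have hWpos : 0 < Nat.card W := lt_of_lt_of_le hnpos hW
  obtain ⟨⟨u, hu, hux⟩⟩ := (Nat.card_pos_iff.1 hWpos).1
  have hyx : ∀ v : W, (v : G) • y₀ = x₀ := fun v =>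
    (congrArg ((v : G) • ·) v.2.2.symm).trans
      (by rw [smul_smul, CfsgLib.Invol.mul_self_eq_one v.2.1, one_smul])
  have hfix : ∀ x : G, x ∈ E ↔ x • x₀ = x₀ ∧ x • y₀ = y₀ := fun x => by
    rw [hmem, hx₀, hy₀, CfsgLib.StrongEmbed.smul_mk_one_iff, CfsgLib.StrongEmbed.smul_mk_iff]
  have hjE : ∀ v : W, u * (v : G) ∈ E := fun v => by
    rw [hfix, mul_smul, v.2.2, mul_smul, hyx v, hux]
    exact ⟨hyx ⟨u, hu, hux⟩, rfl⟩
  have hlE : n ≤ Nat.card ↥E := hW.trans (Nat.card_le_card_of_injective (fun v : W => (⟨u * v, hjE v⟩ : ↥E))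
    fun a a' e => Subtype.ext (mul_left_cancel (congrArg Subtype.val e)))
  have hpl : p < l := by
    have := Nat.le_of_dvd (by have := D.lprime.two_le; omega) D.p_dvd
    have := D.lprime.two_le
    omega
  have hl_dvd : l ∣ Nat.card ↥E := by
    by_contra hn
    obtain ⟨n', hn'⟩ := D.l_dvd
    have h1 : Nat.card ↥E ∣ n' * p := by
      refine (D.lprime.coprime_iff_not_dvd.2 hn).symm.dvd_of_dvd_mul_left ?_
      rw [← mul_assoc, ← hn']
      exact hEdvd
    have hn0 : 0 < n' := Nat.pos_of_ne_zero fun e => by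
      rw [e, mul_zero] at hn'
      omega
    have h2 := Nat.le_of_dvd (Nat.mul_pos hn0 h.prime.pos) h1
    have h3 := Nat.mul_lt_mul_of_pos_left hpl hn0
    rw [mul_comm n' l, ← hn'] at h3
    omega
  obtain ⟨⟨c₁, hc₁E⟩, hc₁⟩ := exists_prime_orderOf_dvd_card' l hl_dvd
  rw [← orderOf_coe] at hc₁
  simp only at hc₁
  have hunique : ∀ x, orderOf x = l → x ∈ E → zpowers x = zpowers c₁ := by
    intro x hx hxE
    obtain ⟨i, hi⟩ := D.l_cyc x ((hmem x).1 hxE).1 c₁ ((hmem c₁).1 hc₁E).1 hx hc₁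
    have hy : c₁⁻¹ * x ^ i ∈ E := mul_mem (inv_mem hc₁E) (zpow_mem hxE i)
    have ho : c₁⁻¹ * x ^ i = 1 := by
      refine orderOf_eq_one_iff.1 (Nat.eq_one_of_dvd_coprimes (Nat.coprime_two_right.2 hEodd)
        (orderOf_dvd_natCard E hy) ?_)
      exact orderOf_dvd_of_pow_eq_one (h.sylow_exp S (D.cent_sylow hi))
    rw [inv_mul_eq_one] at ho
    exact (eq_zpowers D.lprime hx ⟨i, ho.symm⟩ (fun e => D.lprime.ne_one (by
      rw [← hc₁, e, orderOf_one]))).symm
  refine ⟨c₁, hc₁, ((hmem c₁).1 hc₁E).1, ((hmem c₁).1 hc₁E).2, fun x hx h1 h2 => hunique x hx ((hmem x).2 ⟨h1, h2⟩),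
    u, hu, ?_⟩
  have huE : ∀ x ∈ E, u * x * u⁻¹ ∈ E := fun x hx => by
    obtain ⟨h1, h2⟩ := (hfix x).1 hx
    have hu0 : u • y₀ = x₀ := hyx ⟨u, hu, hux⟩
    rw [hfix, CfsgLib.Invol.inv_eq_self hu]
    simp [mul_smul, hux, hu0, h1, h2]
  have he : zpowers (u * c₁ * u⁻¹) = zpowers c₁ :=
    hunique _ (by rw [CfsgLib.Invol.orderOf_conj_eq, hc₁]) (huE c₁ hc₁E)
  refine mem_normalizer_iff_map_conj_eq.2 ?_
  rw [MonoidHom.map_zpowers]
  exact he

include h hns hC D in
/-- Some involution inverts `c`. -/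
theorem FrobData.exists_invol : ∃ u, orderOf u = 2 ∧ u ∈ normalizer (zpowers c : Set G) := by
  obtain ⟨g, -, hg⟩ := SetLike.exists_of_lt (lt_top_iff_ne_top.2 (h.embedded hns S hC).1)
  obtain ⟨c₁, hc₁, hc₁M, -, -, u, hu, hun⟩ := D.fixing h hns S hC hg
  obtain ⟨m, hm, hmc⟩ := D.sylow_l _ hc₁M hc₁
  refine ⟨m * u * m⁻¹, by rw [CfsgLib.Invol.orderOf_conj_eq, hu], ?_⟩
  have e : (zpowers c₁).map (MulAut.conj m).toMonoidHom = zpowers c := by
    rw [MonoidHom.map_zpowers]; exact hmc
  rw [← e]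
  exact (le_normalizer_map (f := (MulAut.conj m).toMonoidHom)) ⟨u, hun, rfl⟩

include h hns hC D in
/-- `N(⟨c⟩) / C(c)` has order `2p`. -/
theorem FrobData.card_normalizer_cyclic :
    Nat.card ↥(normalizer (zpowers c : Set G)) = 2 * p * Nat.card ↥(centralizer (zpowers c : Set G)) := by
  classical
  haveI := Fact.mk D.lprime
  haveI := Fact.mk h.prime
  haveI : Fact (Nat.Prime 2) := ⟨Nat.prime_two⟩
  set A := zpowers c with hA
  set φ := A.normalizerMonoidHom
  have hcardA : Nat.card ↥A = l := by rw [hA, Nat.card_zpowers, D.c_order]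
  haveI : IsCyclic ↥A := isCyclic_of_prime_card hcardA
  haveI : IsCyclic (MulAut ↥A) := by
    haveI : IsCyclic (ZMod (Nat.card ↥A))ˣ := by rw [hcardA]; infer_instance
    exact isCyclic_of_surjective (IsCyclic.mulAutMulEquiv ↥A).symm.toMonoidHom
      (IsCyclic.mulAutMulEquiv ↥A).symm.surjective
  have hker : φ.ker = (centralizer (A : Set G)).subgroupOf (normalizer (A : Set G)) := A.normalizerMonoidHom_ker
  have hord : ∀ (x : G) (hx : x ∈ normalizer (A : Set G)), orderOf x = 2 ∨ orderOf x = p →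
      orderOf (φ ⟨x, hx⟩) = orderOf x := by
    intro x hx hxp
    have hpr : (orderOf x).Prime := hxp.elim (fun e => e ▸ Nat.prime_two) (fun e => e ▸ h.prime)
    have h1 : orderOf (φ ⟨x, hx⟩) ∣ orderOf x := (orderOf_map_dvd φ _).trans (by rw [← orderOf_coe])
    refine ((Nat.dvd_prime hpr).1 h1).resolve_left fun e => ?_
    have h2 : x ∈ centralizer (A : Set G) := by
      have : (⟨x, hx⟩ : ↥(normalizer (A : Set G))) ∈ φ.ker := MonoidHom.mem_ker.2 (orderOf_eq_one_iff.1 e)
      rw [hker] at this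
      exact mem_subgroupOf.1 this
    exact D.no_prime h S hxp (mem_centralizer_iff.1 h2 c (mem_zpowers c)).symm
  obtain ⟨u, hu, huN⟩ := D.exists_invol h hns S hC
  have h2 : 2 ∣ Nat.card ↥φ.range := by
    have := hord u huN (Or.inl hu)
    rw [hu] at this
    exact this ▸ orderOf_dvd_natCard _ (MonoidHom.mem_range.2 ⟨_, rfl⟩)
  have hp : p ∣ Nat.card ↥φ.range := by
    have := hord b D.b_norm (Or.inr D.b_order)
    rw [D.b_order] at this
    exact this ▸ orderOf_dvd_natCard _ (MonoidHom.mem_range.2 ⟨_, rfl⟩)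
  have h2p : 2 * p ∣ Nat.card ↥φ.range :=
    ((Nat.coprime_primes Nat.prime_two h.prime).2 (Ne.symm h.odd)).mul_dvd_of_dvd_of_dvd h2 hp
  obtain ⟨⟨_, y, rfl⟩, hgen⟩ := IsCyclic.exists_generator (α := ↥φ.range)
  have hy : Nat.card ↥φ.range ∣ orderOf (y : G) := by
    rw [← orderOf_eq_card_of_forall_mem_zpowers hgen, ← orderOf_coe]
    exact (orderOf_map_dvd φ y).trans (by rw [← orderOf_coe])
  have hrange : Nat.card ↥φ.range = 2 * p := by
    refine Nat.dvd_antisymm ?_ h2p
    have h3 : 2 * p ∣ orderOf (y : G) := h2p.trans hy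
    rcases h.two (y : G) ((dvd_mul_right 2 p).trans h3) with h1 | h1
    · exfalso
      rw [h1] at h3
      have := Nat.le_of_dvd two_pos h3
      have := h.two_lt
      omega
    · exact h1 ▸ hy
  have := φ.ker.card_mul_index
  rw [index_ker, hrange, hker, Nat.card_congr (subgroupOfEquivOfLe (centralizer_le_normalizer _)).toEquiv] at this
  rw [← this, mul_comm]

include h hns hC D in
/-- The cosets other than `N(S)` are counted by the conjugates of `⟨c⟩` fixing them. -/
theorem FrobData.index_eq : ∃ F : ℕ, F * n = 2 * Nat.card ↥(centralizer (zpowers c : Set G)) ∧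
    (normalizer ((S : Subgroup G) : Set G)).index = 1 + (n + 1) * (F - 1) := by
  classical
  haveI : Fintype G := Fintype.ofFinite G
  set M := normalizer ((S : Subgroup G) : Set G) with hM
  set N := normalizer (zpowers c : Set G) with hN
  set x₀ : G ⧸ M := QuotientGroup.mk (1 : G) with hx₀
  let F := {x : G ⧸ M // c • x = x}
  have hfixM : ∀ g : G, c • (QuotientGroup.mk g : G ⧸ M) = QuotientGroup.mk g ↔ g⁻¹ * c * g ∈ M := fun g =>
    CfsgLib.StrongEmbed.smul_mk_iff
  have hzfix : ∀ (z x : G) (y : G ⧸ M), x • y = y → z ∈ zpowers x → z • y = y := fun z x y hy hz => by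
    exact zpowers_le.2 (show x ∈ MulAction.stabilizer G y from hy) hz
  have hNfix : ∀ n ∈ N, ∀ y : G ⧸ M, c • y = y → c • (n • y) = n • y := fun n hn y hy => by
    have h1 : n⁻¹ * c * n ∈ zpowers c := (mem_normalizer_iff''.1 hn c).1 (mem_zpowers c)
    rw [smul_smul, show c * n = n * (n⁻¹ * c * n) by group, mul_smul, hzfix _ _ y hy h1]
  -- the fixed cosets form one orbit of `N`
  have hF : Nat.card F * (n * p) = Nat.card ↥N := by
    let f : ↥N ⧸ M.subgroupOf N → F := fun q => ⟨(q.out : G) • x₀, hNfix _ q.out.2 x₀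
      (CfsgLib.StrongEmbed.smul_mk_one_iff.2 D.c_mem)⟩
    have hbij : Function.Bijective f := by
      constructor
      · intro a a' e
        have e' : (a.out : G) • x₀ = (a'.out : G) • x₀ := congrArg Subtype.val e
        rw [← a.out_eq', ← a'.out_eq', QuotientGroup.eq]
        refine mem_subgroupOf.2 (CfsgLib.StrongEmbed.smul_mk_one_iff.1 ?_)
        push_cast
        rw [mul_smul, ← hx₀, ← e', inv_smul_smul]
      · rintro ⟨x, hx⟩
        obtain ⟨g, rfl⟩ := QuotientGroup.mk_surjective x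
        have hg := (hfixM g).1 hx
        obtain ⟨m, hm, hmc⟩ := D.sylow_l _ hg (by
          rw [show g⁻¹ * c * g = g⁻¹ * c * g⁻¹⁻¹ by group, CfsgLib.Invol.orderOf_conj_eq, D.c_order])
        have hn : g * m⁻¹ ∈ N := by
          refine inv_mem_iff.1 (mem_normalizer_iff_map_conj_eq.2 ?_)
          rw [MonoidHom.map_zpowers, ← hmc]
          congr 1
          simp [mul_assoc]
        refine ⟨QuotientGroup.mk ⟨g * m⁻¹, hn⟩, Subtype.ext ?_⟩
        obtain ⟨⟨k, hk⟩, e⟩ := QuotientGroup.mk_out_eq_mul (M.subgroupOf N) (⟨g * m⁻¹, hn⟩ : ↥N)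
        show ((QuotientGroup.mk (⟨g * m⁻¹, hn⟩ : ↥N) : ↥N ⧸ M.subgroupOf N).out : G) • x₀ = _
        rw [e]
        push_cast
        rw [mul_smul, mul_smul, CfsgLib.StrongEmbed.smul_mk_one_iff.2 (mem_subgroupOf.1 hk),
          CfsgLib.StrongEmbed.smul_mk_one_iff.2 (inv_mem hm), CfsgLib.StrongEmbed.smul_mk_one_eq]
    have h1 := (M.subgroupOf N).card_mul_index
    have h2 : Nat.card ↥(M.subgroupOf N) = n * p := by
      rw [← D.card_inf, ← inf_subgroupOf_right,
        Nat.card_congr (subgroupOfEquivOfLe inf_le_right).toEquiv]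
    rw [index_eq_card, Nat.card_congr (Equiv.ofBijective f hbij), h2] at h1
    rw [← h1, mul_comm]
  set K := (M ⊓ N).subgroupOf M with hKdef
  let F' := {x : G ⧸ M // c • x = x ∧ x ≠ x₀}
  let Ω' := {x : G ⧸ M // x ≠ x₀}
  let f : (↥M ⧸ K) × F' → Ω' := fun z => ⟨(z.1.out : G) • z.2.1, fun e => z.2.2.2 (by
    rw [← inv_smul_smul (z.1.out : G) z.2.1, e]
    exact CfsgLib.StrongEmbed.smul_mk_one_iff.2 (inv_mem z.1.out.2))⟩
  have hbij : Function.Bijective f := by
    constructor
    · rintro ⟨a, y⟩ ⟨a', y'⟩ e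
      have e' : (a.out : G) • y.1 = (a'.out : G) • y'.1 := congrArg Subtype.val e
      set m := (a.out : G)
      set m' := (a'.out : G)
      obtain ⟨g, hg⟩ := QuotientGroup.mk_surjective (m • y.1)
      have hgM : g ∉ M := fun hgM => (f (a, y)).2 (by
        show m • y.1 = x₀
        rw [← hg, hx₀, QuotientGroup.eq, mul_one]
        exact inv_mem hgM)
      obtain ⟨c₁, hc₁, -, -, huni, -⟩ := D.fixing h hns S hC hgM
      have hin : ∀ (k : G) (y : G ⧸ M), k ∈ M → c • y = y → k • y = QuotientGroup.mk g →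
          zpowers (k * c * k⁻¹) = zpowers c₁ := fun k y hk hy hky => by
        refine huni _ (by rw [CfsgLib.Invol.orderOf_conj_eq, D.c_order]) (mul_mem (mul_mem hk D.c_mem) (inv_mem hk)) ?_
        refine CfsgLib.StrongEmbed.smul_mk_iff.1 ?_
        rw [← hky, smul_smul, inv_mul_cancel_right, mul_smul, hy]
      have hz : zpowers (m * c * m⁻¹) = zpowers (m' * c * m'⁻¹) :=
        (hin m y.1 a.out.2 y.2.1 hg.symm).trans (hin m' y'.1 a'.out.2 y'.2.1 (e'.symm.trans hg.symm)).symm
      have hN' : m'⁻¹ * m ∈ N := by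
        refine mem_normalizer_iff_map_conj_eq.2 ?_
        have := congrArg (Subgroup.map (MulAut.conj m'⁻¹).toMonoidHom) hz
        rw [MonoidHom.map_zpowers, MonoidHom.map_zpowers] at this
        rw [MonoidHom.map_zpowers]
        convert this using 2 <;> simp [mul_assoc]
      have haa : a = a' := by
        rw [← a.out_eq', ← a'.out_eq', eq_comm, QuotientGroup.eq]
        exact mem_subgroupOf.2 (mem_inf.2 ⟨mul_mem (inv_mem a'.out.2) a.out.2, hN'⟩)
      subst haa
      exact Prod.ext rfl (Subtype.ext (smul_left_cancel m e'))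
    · rintro ⟨x, hx⟩
      obtain ⟨g, rfl⟩ := QuotientGroup.mk_surjective x
      have hgM : g ∉ M := fun hgM => hx (by rw [hx₀, QuotientGroup.eq, mul_one]; exact inv_mem hgM)
      obtain ⟨c₁, hc₁, hc₁M, hc₁g, -, -⟩ := D.fixing h hns S hC hgM
      obtain ⟨m, hm, hmc⟩ := D.sylow_l _ hc₁M hc₁
      have hfix : c • (m • (QuotientGroup.mk g : G ⧸ M)) = m • (QuotientGroup.mk g : G ⧸ M) := by
        refine hzfix c (m * c₁ * m⁻¹) _ ?_ (hmc ▸ mem_zpowers c)
        rw [smul_smul, inv_mul_cancel_right, mul_smul, CfsgLib.StrongEmbed.smul_mk_iff.2 hc₁g]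
      set q : ↥M ⧸ K := QuotientGroup.mk (⟨m⁻¹, inv_mem hm⟩ : ↥M)
      obtain ⟨⟨k, hk⟩, e⟩ := QuotientGroup.mk_out_eq_mul K (⟨m⁻¹, inv_mem hm⟩ : ↥M)
      have hk' := mem_subgroupOf.1 hk
      have he : (q.out : G) = m⁻¹ * k := by rw [show q.out = _ from e]; rfl
      have hne : (k : G)⁻¹ • (m • (QuotientGroup.mk g : G ⧸ M)) ≠ x₀ := fun e1 => hx (by
        have e2 := congrArg (fun z => m⁻¹ • ((k : G) • z)) e1
        simp only [smul_inv_smul, inv_smul_smul] at e2
        rw [e2, CfsgLib.StrongEmbed.smul_mk_one_iff.2 k.2]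
        exact CfsgLib.StrongEmbed.smul_mk_one_iff.2 (inv_mem hm))
      refine ⟨(q, ⟨(k : G)⁻¹ • (m • QuotientGroup.mk g), hNfix _ (inv_mem hk'.2) _ hfix, hne⟩), Subtype.ext ?_⟩
      show (q.out : G) • ((k : G)⁻¹ • (m • (QuotientGroup.mk g : G ⧸ M))) = QuotientGroup.mk g
      rw [he, smul_smul, mul_inv_cancel_right, inv_smul_smul]
  have hΩ : Nat.card Ω' = M.index - 1 := by
    rw [index_eq_card, show Nat.card Ω' = ({x₀}ᶜ : Set (G ⧸ M)).ncard from Nat.card_coe_set_eq _,
      Set.ncard_compl, Set.ncard_singleton]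
  have hF' : Nat.card F' = Nat.card F - 1 := by
    rw [show Nat.card F' = ({x : G ⧸ M | c • x = x} \ {x₀}).ncard from Nat.card_coe_set_eq _,
      Set.ncard_sdiff_singleton_of_mem
        (show x₀ ∈ {x : G ⧸ M | c • x = x} from CfsgLib.StrongEmbed.smul_mk_one_iff.2 D.c_mem),
      ← Nat.card_coe_set_eq]
    rfl
  have hK : Nat.card (↥M ⧸ K) = n + 1 := by
    have h1 := K.card_mul_index
    rw [hKdef, Nat.card_congr (subgroupOfEquivOfLe inf_le_left).toEquiv, D.card_inf, D.card_N] at h1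
    rw [← index_eq_card]
    refine Nat.eq_of_mul_eq_mul_left (D.card_inf ▸ Nat.card_pos) ?_
    rw [h1]; ring
  have hmain : M.index - 1 = (n + 1) * (Nat.card F - 1) := by
    rw [← hΩ, ← Nat.card_congr (Equiv.ofBijective f hbij), Nat.card_prod, hK, hF']
  refine ⟨Nat.card F, ?_, ?_⟩
  · have h1 := D.card_normalizer_cyclic h hns S hC
    rw [← hN] at h1
    refine Nat.eq_of_mul_eq_mul_right h.prime.pos ?_
    rw [mul_assoc, hF, h1]; ring
  · have := Nat.pos_of_ne_zero (index_ne_zero_of_finite (H := M))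
    omega

include h hns hC D in
/-- `⟨b⟩` is not a Sylow `p`-subgroup. -/
theorem FrobData.dvd_index : p ∣ (normalizer ((S : Subgroup G) : Set G)).index := by
  classical
  haveI := Fact.mk h.prime
  haveI : Fact (Nat.Prime 2) := ⟨Nat.prime_two⟩
  by_contra hnd
  set M := normalizer ((S : Subgroup G) : Set G) with hM
  set B := zpowers b with hB
  have hBcard : Nat.card ↥B = p := by rw [hB, Nat.card_zpowers, D.b_order]
  have hBidx : ¬ p ∣ B.index := by
    have h1 := B.card_mul_index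
    rw [hBcard, ← M.card_mul_index, D.card_N] at h1
    have h2 : B.index = (n + 1) * n * M.index := by
      refine Nat.eq_of_mul_eq_mul_left h.prime.pos ?_
      rw [h1]; ring
    rw [h2, h.prime.dvd_mul, h.prime.dvd_mul]
    rintro ((hd | hd) | hd)
    · obtain ⟨a, ha⟩ := IsPGroup.iff_card.1 S.2
      exact h.odd ((Nat.prime_dvd_prime_iff_eq h.prime Nat.prime_two).1
        (h.prime.dvd_of_dvd_pow (ha ▸ D.card_S.symm ▸ hd)))
    · exact D.p_not_dvd hd
    · exact hnd hd
  let P : Sylow p G := (IsPGroup.of_card (n := 1) (by rw [hBcard, pow_one]) : IsPGroup p ↥B).toSylow hBidx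
  have hPB : (P : Subgroup G) = B := rfl
  have hinB : ∀ z : G, orderOf z = p → z ∈ normalizer (B : Set G) → z ∈ B := fun z hz hzn =>
    mem_sylow_of_normalizes P (k := 1) (by rw [pow_one, ← hz, pow_orderOf_eq_one]) hzn
  have hSb : ∀ s ∈ (S : Subgroup G), Commute b s → s ≠ 1 → s = t := fun s hs hbs hs1 =>
    (D.b_fix s hs hbs).resolve_left hs1
  -- `t` is the only involution centralising `b`
  have hinv : ∀ x : G, orderOf x = 2 → Commute b x → x = t := by
    intro x hx hbx
    have hcomm : Commute t x → x = t := fun htx => hSb x (h.mem_sylow_of_invol S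
      (hC t D.t_mem D.t_order (mem_centralizer_singleton_iff.2 htx.symm.eq))
      (by rw [← hx, pow_orderOf_eq_one])) hbx (CfsgLib.Invol.ne_one hx)
    set a := t * x with ha
    have hba : Commute b a := D.b_t.mul_right hbx
    have hta : t * a * t⁻¹ = a⁻¹ := by
      rw [ha, mul_inv_rev, CfsgLib.Invol.inv_eq_self hx, CfsgLib.Invol.inv_eq_self D.t_order,
        ← mul_assoc, CfsgLib.Invol.mul_self_eq_one D.t_order, one_mul]
    rcases h.ord_of_commute (Or.inr rfl) D.b_order hba with h1 | h1 | h1 | h1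
    · exact hcomm (by
        rw [ha, mul_eq_one_iff_eq_inv, CfsgLib.Invol.inv_eq_self hx] at h1
        rw [h1])
    · refine hcomm ?_
      have := CfsgLib.Invol.inv_eq_self h1
      rw [ha, mul_inv_rev, CfsgLib.Invol.inv_eq_self hx, CfsgLib.Invol.inv_eq_self D.t_order] at this
      exact this.symm
    · exfalso
      have hap : orderOf a = p := h1
      have haB : a ∈ B := hinB a hap (centralizer_le_normalizer _ (mem_centralizer_iff.2 fun z hz => by
        obtain ⟨i, rfl⟩ := mem_zpowers_iff.1 hz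
        exact (hba.zpow_left i).eq))
      obtain ⟨i, hi⟩ := mem_zpowers_iff.1 haB
      have htc : Commute t a := hi ▸ D.b_t.symm.zpow_right i
      rw [htc.eq, mul_inv_cancel_right] at hta
      have h3 : orderOf a ∣ 2 := orderOf_dvd_of_pow_eq_one (by rw [sq]; exact mul_eq_one_iff_eq_inv.2 hta)
      exact h.odd ((Nat.prime_dvd_prime_iff_eq h.prime Nat.prime_two).1 (hap ▸ h3))
    · -- the involution of `⟨a⟩`
      have he : orderOf (a ^ p) = 2 := by
        rw [orderOf_pow' a h.prime.ne_zero, h1, Nat.gcd_eq_right (dvd_mul_left p 2),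
          Nat.mul_div_cancel _ h.prime.pos]
      have hte : Commute t (a ^ p) := by
        have h3 : t * a ^ p * t⁻¹ = a ^ p := by
          rw [← conj_pow, hta, inv_pow, CfsgLib.Invol.inv_eq_self he]
        exact mul_inv_eq_iff_eq_mul.1 h3
      have het : a ^ p = t := hSb _ (h.mem_sylow_of_invol S
        (hC t D.t_mem D.t_order (mem_centralizer_singleton_iff.2 hte.symm.eq))
        (by rw [← he, pow_orderOf_eq_one])) (hba.pow_right p) (CfsgLib.Invol.ne_one he)
      refine hcomm ?_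
      have htc : Commute t a := het ▸ (Commute.self_pow a p).symm
      have e : x = t * a := by rw [ha, ← mul_assoc, CfsgLib.Invol.mul_self_eq_one D.t_order, one_mul]
      rw [e]
      exact (Commute.refl t).mul_right htc
  refine false_of_burnside hns P (fun e => ?_) (fun y hy => ?_)
  · rw [hPB] at e
    rw [e, card_bot] at hBcard
    exact h.prime.ne_one hBcard.symm
  rw [hPB] at hy ⊢
  -- `y` fixes `t`
  have hyt : Commute y t := by
    have h1 : y * t * y⁻¹ = t := by
      refine hinv _ (by rw [CfsgLib.Invol.orderOf_conj_eq, D.t_order]) ?_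
      obtain ⟨i, hi⟩ := mem_zpowers_iff.1 ((mem_normalizer_iff''.1 hy b).1 (mem_zpowers b))
      have h2 : Commute (y⁻¹ * b * y) t := hi ▸ D.b_t.zpow_left i
      calc b * (y * t * y⁻¹) = y * ((y⁻¹ * b * y) * t) * y⁻¹ := by group
        _ = y * (t * (y⁻¹ * b * y)) * y⁻¹ := by rw [h2.eq]
        _ = y * t * y⁻¹ * b := by group
    exact mul_inv_eq_iff_eq_mul.1 h1
  have hyM : y ∈ M := hC t D.t_mem D.t_order (mem_centralizer_singleton_iff.2 hyt.eq)
  have hyC : y ∈ centralizer ({b} : Set G) := by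
    have hS2 : ∀ z ∈ normalizer (B : Set G), z ∈ M → z ^ 2 = 1 → Commute z b := by
      intro z hz hzM hz2
      have hzS := h.mem_sylow_of_invol S hzM hz2
      have hd1 : z * b * z⁻¹ * b⁻¹ ∈ (S : Subgroup G) := by
        rw [show z * b * z⁻¹ * b⁻¹ = z * (b * z⁻¹ * b⁻¹) by group]
        exact mul_mem hzS ((mem_normalizer_iff.1 D.b_mem _).1 (inv_mem hzS))
      have hd2 : z * b * z⁻¹ * b⁻¹ ∈ B :=
        mul_mem ((mem_normalizer_iff.1 hz b).1 (mem_zpowers b)) (inv_mem (mem_zpowers b))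
      have hdis := IsPGroup.disjoint_of_ne 2 p (Ne.symm h.odd) _ _ S.2 (hPB ▸ P.2 : IsPGroup p ↥B)
      have h3 := Subgroup.disjoint_def.1 hdis hd1 hd2
      rw [mul_inv_eq_one, mul_inv_eq_iff_eq_mul] at h3
      exact h3
    have hBb : ∀ z ∈ B, Commute z b := fun z hz => by
      obtain ⟨i, rfl⟩ := mem_zpowers_iff.1 hz
      exact (Commute.refl b).zpow_left i
    refine mem_centralizer_singleton_iff.2 ?_
    rcases h.ord_of_commute (Or.inl rfl) D.t_order hyt.symm with h1 | h1 | h1 | h1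
    · rw [h1, one_mul, mul_one]
    · exact (hS2 y hy hyM (by rw [← h1, pow_orderOf_eq_one])).eq
    · exact (hBb y (hinB y h1 hy)).eq
    · have e : y = y ^ (p + 1) * (y ^ p)⁻¹ := by rw [pow_succ', mul_inv_cancel_right]
      have h3 : Commute (y ^ (p + 1)) b := hBb _ (hinB _ (h.orderOf_pow_succ h1) (pow_mem hy _))
      have h4 : Commute (y ^ p) b := hS2 _ (pow_mem hy p) (pow_mem hyM p)
        (by rw [← pow_mul, mul_comm, ← h1, pow_orderOf_eq_one])
      rw [e]
      exact (h3.mul_left h4.inv_left).eq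
  refine mem_centralizer_iff.2 fun z hz => ?_
  obtain ⟨i, rfl⟩ := mem_zpowers_iff.1 hz
  exact ((show Commute y b from mem_centralizer_singleton_iff.1 hyC).zpow_right i).symm.eq

include h hns hC D in
/-- `C(c)` is abelian, being inverted by an involution. -/
theorem FrobData.cent_comm : ∀ x ∈ centralizer (zpowers c : Set G), ∀ y ∈ centralizer (zpowers c : Set G),
    x * y = y * x := by
  obtain ⟨u, hu, huN⟩ := D.exists_invol h hns S hC
  set C := centralizer (zpowers c : Set G) with hCdef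
  have huC : ∀ x ∈ C, u * x * u⁻¹ ∈ C := fun x hx => mem_centralizer_iff.2 fun z hz => by
    have h1 : u⁻¹ * z * u ∈ zpowers c := (mem_normalizer_iff''.1 huN z).1 hz
    have h2 := mem_centralizer_iff.1 hx _ h1
    calc z * (u * x * u⁻¹) = u * ((u⁻¹ * z * u) * x) * u⁻¹ := by group
      _ = u * (x * (u⁻¹ * z * u)) * u⁻¹ := by rw [h2]
      _ = u * x * u⁻¹ * z := by group
  let φ : ↥C →* ↥C := ((MulAut.conj u).toMonoidHom.comp C.subtype).codRestrict C fun y => huC y y.2
  have hφ : ∀ y, ((φ y : ↥C) : G) = u * y * u⁻¹ := fun _ => rfl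
  have hinvol : Function.Involutive φ := fun y => Subtype.ext (by
    rw [hφ, hφ, show u * (u * (y : G) * u⁻¹) * u⁻¹ = (u * u) * y * (u * u)⁻¹ by group,
      CfsgLib.Invol.mul_self_eq_one hu]
    group)
  have hfix : MonoidHom.FixedPointFree φ := fun y hy => by
    by_contra hy1
    have hc : Commute u (y : G) := mul_inv_eq_iff_eq_mul.1 (by rw [← hφ, hy])
    have hcc : Commute (y : G) c := (mem_centralizer_iff.1 y.2 c (mem_zpowers c)).symm
    rcases h.ord_of_commute (Or.inl rfl) hu hc with e | e | e | e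
    · exact hy1 (Subtype.ext e)
    · exact D.no_prime h S (Or.inl e) hcc
    · exact D.no_prime h S (Or.inr e) hcc
    · refine D.no_prime h S (Or.inl ?_) (hcc.pow_left p)
      rw [orderOf_pow' (y : G) h.prime.ne_zero, e, Nat.gcd_eq_right (dvd_mul_left p 2),
        Nat.mul_div_cancel _ h.prime.pos]
  intro x hx y hy
  exact congrArg Subtype.val (hfix.commute_all_of_involutive hinvol ⟨x, hx⟩ ⟨y, hy⟩).eq

include h hns hC D in
/-- `b` acts on `C(c)` without fixed points. -/
theorem FrobData.cent_modEq : Nat.card ↥(centralizer (zpowers c : Set G)) % p = 1 := by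
  haveI := Fact.mk h.prime
  set C := centralizer (zpowers c : Set G) with hCdef
  have hbC : zpowers b ≤ normalizer (C : Set G) := zpowers_le.2 (normalizer_le_normalizer_cent D.b_norm)
  letI : MulAction ↥(zpowers b) ↥C :=
    { smul := fun g x => ⟨(g : G) * x * (g : G)⁻¹, (mem_normalizer_iff.1 (hbC g.2) x).1 x.2⟩
      one_smul := fun x => Subtype.ext (by show (1 : G) * x * (1 : G)⁻¹ = x; group)
      mul_smul := fun g g' x => Subtype.ext (by
        show (g : G) * g' * x * ((g : G) * g')⁻¹ = (g : G) * ((g' : G) * x * (g' : G)⁻¹) * (g : G)⁻¹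
        group) }
  have hP : IsPGroup p ↥(zpowers b) := IsPGroup.of_card (n := 1) (by rw [Nat.card_zpowers, D.b_order, pow_one])
  have h1 := hP.card_modEq_card_fixedPoints ↥C
  have h2 : Nat.card (MulAction.fixedPoints ↥(zpowers b) ↥C) = 1 := by
    refine Nat.card_eq_one_iff_unique.2 ⟨⟨fun x y => Subtype.ext ?_⟩, ⟨⟨1, fun g => Subtype.ext (by
      show (g : G) * ((1 : ↥C) : G) * (g : G)⁻¹ = ((1 : ↥C) : G)
      rw [OneMemClass.coe_one, mul_one, mul_inv_cancel])⟩⟩⟩
    have hfix : ∀ z : MulAction.fixedPoints ↥(zpowers b) ↥C, (z : ↥C) = 1 := by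
      intro z
      have hz : b * ((z : ↥C) : G) * b⁻¹ = ((z : ↥C) : G) :=
        congrArg Subtype.val (z.2 ⟨b, mem_zpowers b⟩)
      refine Subtype.ext ?_
      by_contra hz1
      have hcc : Commute ((z : ↥C) : G) c := (mem_centralizer_iff.1 (z : ↥C).2 c (mem_zpowers c)).symm
      rcases h.ord_of_commute (Or.inr rfl) D.b_order (mul_inv_eq_iff_eq_mul.1 hz) with e | e | e | e
      · exact hz1 e
      · exact D.no_prime h S (Or.inl e) hcc
      · exact D.no_prime h S (Or.inr e) hcc
      · refine D.no_prime h S (Or.inl ?_) (hcc.pow_left p)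
        rw [orderOf_pow' ((z : ↥C) : G) h.prime.ne_zero, e, Nat.gcd_eq_right (dvd_mul_left p 2),
          Nat.mul_div_cancel _ h.prime.pos]
    rw [hfix x, hfix y]
  rw [h2] at h1
  exact Eq.trans h1 (Nat.mod_eq_of_lt h.prime.one_lt)

include h hns hC D in
theorem FrobData.arith : p = 3 ∧ n = 7 ∧ l = 7 := by
  classical
  haveI := Fact.mk h.prime
  haveI := Fact.mk D.lprime
  haveI : Fact (Nat.Prime 2) := ⟨Nat.prime_two⟩
  obtain ⟨F, hF, hidx⟩ := D.index_eq h hns S hC
  have h4 := h.card_sylow S hns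
  rw [D.card_S] at h4
  have hp : p = 3 := by
    have hd := D.dvd_index h hns S hC
    rw [hidx, ← ZMod.natCast_eq_zero_iff] at hd
    have hn1 : (n : ZMod p) = 1 := by
      have h1 : p ∣ n - 1 := D.n_modEq h S
      have h2 := (ZMod.natCast_eq_zero_iff (n - 1) p).2 h1
      rw [Nat.cast_sub (by omega), sub_eq_zero, Nat.cast_one] at h2
      exact h2
    have hX : (Nat.card ↥(centralizer (zpowers c : Set G)) : ZMod p) = 1 := by
      rw [← ZMod.natCast_mod, D.cent_modEq h hns S hC, Nat.cast_one]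
    have hF2 : (F : ZMod p) = 2 := by
      have := congrArg (Nat.cast (R := ZMod p)) hF
      rw [Nat.cast_mul, Nat.cast_mul, hn1, mul_one, hX, mul_one] at this
      exact_mod_cast this
    have hF1 : 1 ≤ F := by
      by_contra h0
      rw [show F = 0 by omega, zero_mul] at hF
      have := Nat.card_pos (α := ↥(centralizer (zpowers c : Set G)))
      omega
    rw [Nat.cast_add, Nat.cast_one, Nat.cast_mul, Nat.cast_add, Nat.cast_one, hn1, Nat.cast_sub hF1,
      Nat.cast_one, hF2] at hd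
    have h3 : ((3 : ℕ) : ZMod p) = 0 := by
      rw [← hd]; push_cast; ring
    exact (Nat.prime_dvd_prime_iff_eq h.prime Nat.prime_three).1 ((ZMod.natCast_eq_zero_iff 3 p).1 h3)
  subst hp
  set A := normalizer ((S : Subgroup G) : Set G) ⊓ centralizer (zpowers c : Set G) with hA
  have hfree : ∀ a ∈ A, ∀ s ∈ (S : Subgroup G), s ≠ 1 → Commute a s → a = 1 := by
    intro a ha s hs hs1 hc
    have hcc : Commute a c := (mem_centralizer_iff.1 ha.2 c (mem_zpowers c)).symm
    rcases h.ord_of_commute (Or.inl rfl) (orderOf_eq_prime (h.sylow_exp S hs) hs1) hc.symm with e | e | e | e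
    · exact e
    · exact absurd hcc (D.no_prime h S (Or.inl e))
    · exact absurd hcc (D.no_prime h S (Or.inr e))
    · refine absurd (hcc.pow_left 3) (D.no_prime h S (Or.inl ?_))
      rw [orderOf_pow' a (by norm_num), e]
      norm_num
  have h8 : ∀ a ∈ A, orderOf a ≤ 8 := by
    intro a ha
    refine Cubic.orderOf_le_eight (S := (S : Subgroup G)) (A := A) (b := b) (c := a) (t := t)
      (fun x hx y hy => CfsgLib.Signalizer.commute (h.sylow_elementary S) hx hy)
      (fun x hx => by rw [← sq]; exact h.sylow_exp S hx) ?_ ?_ D.t_mem ha ?_ ?_ ?_ ?_ ?_ ?_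
    · exact fun a ha x hx => (mem_normalizer_iff.1 ha.1 x).1 hx
    · exact fun a ha a' ha' => D.cent_comm h hns S hC a ha.2 a' ha'.2
    · exact fun a ha => mem_inf.2 ⟨mul_mem (mul_mem D.b_mem ha.1) (inv_mem D.b_mem),
        (mem_normalizer_iff.1 (normalizer_le_normalizer_cent D.b_norm) a).1 ha.2⟩
    · rw [← D.b_order, pow_orderOf_eq_one]
    · exact mul_inv_eq_iff_eq_mul.2 D.b_t.eq
    · intro s hs e
      exact D.b_fix s hs (mul_inv_eq_iff_eq_mul.1 e)
    · intro a ha e
      have hcc : Commute a c := (mem_centralizer_iff.1 ha.2 c (mem_zpowers c)).symm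
      rcases h.ord_of_commute (Or.inr rfl) D.b_order (mul_inv_eq_iff_eq_mul.1 e) with e' | e' | e' | e'
      · exact e'
      · exact absurd hcc (D.no_prime h S (Or.inl e'))
      · exact absurd hcc (D.no_prime h S (Or.inr e'))
      · refine absurd (hcc.pow_left 3) (D.no_prime h S (Or.inl ?_))
        rw [orderOf_pow' a (by norm_num), e']
        norm_num
    · intro a ha e
      exact hfree a ha t D.t_mem (CfsgLib.Invol.ne_one D.t_order) (mul_inv_eq_iff_eq_mul.1 e)
  have hl7 : l = 7 := by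
    have hc8 : orderOf c ≤ 8 := h8 c (mem_inf.2 ⟨D.c_mem, mem_centralizer_iff.2 fun z hz => by
      obtain ⟨i, rfl⟩ := mem_zpowers_iff.1 hz
      exact ((Commute.refl c).zpow_left i).eq⟩)
    rw [D.c_order] at hc8
    have := D.p_dvd
    have := D.l_ne_two
    have hlp := D.lprime
    have := hlp.two_le
    interval_cases l <;> first | rfl | omega | (exfalso; norm_num at hlp)
  subst hl7
  refine ⟨rfl, ?_, rfl⟩
  -- `A` is a `7`-group, so `n + 1` is a power of two and `n` one of seven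
  have hA7 : IsPGroup 7 ↥A := fun a => ⟨1, Subtype.ext (by
    by_contra hne
    push_cast at hne
    have hac : Commute (a : G) c := (mem_centralizer_iff.1 a.2.2 c (mem_zpowers c)).symm
    have hcA : c ∈ A := mem_inf.2 ⟨D.c_mem, mem_centralizer_iff.2 fun z hz => by
      obtain ⟨i, rfl⟩ := mem_zpowers_iff.1 hz
      exact ((Commute.refl c).zpow_left i).eq⟩
    have ho : ¬ orderOf (a : G) ∣ 7 := fun hd => hne (orderOf_dvd_iff_pow_eq_one.1 hd)
    have hcop : (orderOf (a : G)).Coprime (orderOf c) := by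
      rw [D.c_order]
      refine (D.lprime.coprime_iff_not_dvd.2 fun hd => ho ?_).symm
      have := Nat.le_of_dvd (orderOf_pos _) hd
      have := h8 _ a.2
      have : orderOf (a : G) = 7 := by omega
      exact this.dvd
    have h9 := h8 _ (mul_mem a.2 hcA)
    rw [hac.orderOf_mul_eq_mul_orderOf_of_coprime hcop, D.c_order] at h9
    have h10 : orderOf (a : G) ≠ 1 := fun e => ho (e ▸ one_dvd 7)
    have := orderOf_pos (a : G)
    omega)⟩
  obtain ⟨i, hi⟩ := IsPGroup.iff_card.1 hA7
  rw [hA, D.card_cent] at hi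
  obtain ⟨k, hk⟩ := IsPGroup.iff_card.1 S.2
  rw [D.card_S, hi] at hk
  have hk2 : 2 ≤ k := by
    by_contra h2
    have : 2 ^ k ≤ 2 ^ 1 := Nat.pow_le_pow_right (by norm_num) (by omega)
    omega
  have := Cfsg.Agent.S3370.mersenne_exp (p := 7) (by norm_num) (by norm_num) hk2 hk.symm
  rw [hi, this, pow_one]

end CfsgLib.OneComp
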