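import Cfsg.Agent.OneComp.Quotient
import Cfsg.Agent.CITGroups.CNReduce

/-!
# Groups with a single composite element order `2p`: strongly embedded normaliser of `S`
-/

set_option autoImplicit false
set_option linter.style.haveILetI false
set_option linter.unusedSectionVars false

namespace CfsgLib.OneComp

open Subgroup

universe u

variable {G : Type u} [Group G] [Finite G] [IsSimpleGroup G] {p : ℕ} (h : Hyp G p)
  (hns : ¬ Group.IsSolvable G) (S : Sylow 2 G)
  (hC : ∀ t ∈ (S : Subgroup G), orderOf t = 2 →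
    centralizer ({t} : Set G) ≤ normalizer ((S : Subgroup G) : Set G))

include h hns hC in
theorem Hyp.embedded : Cfsg.IsStronglyEmbedded (normalizer ((S : Subgroup G) : Set G)) := by
  haveI : Fact (Nat.Prime 2) := ⟨Nat.prime_two⟩
  have h4 := h.card_sylow S hns
  have hne : (S : Subgroup G) ≠ ⊥ := fun e => by rw [e, card_bot] at h4; omega
  refine stronglyEmbedded S (h.sylow_comm S) hne (fun e => ?_) le_rfl hC
  rcases IsSimpleGroup.eq_bot_or_eq_top_of_normal _ (normalizer_eq_top_iff.1 e) with e1 | e1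
  · exact hne e1
  · haveI := ((e1 ▸ S.2 : IsPGroup 2 ↥(⊤ : Subgroup G)).of_equiv topEquiv).isNilpotent
    exact hns inferInstance

include h in
theorem Hyp.mem_sylow_of_invol {x : G} (hx : x ∈ normalizer ((S : Subgroup G) : Set G)) (h2 : x ^ 2 = 1) :
    x ∈ (S : Subgroup G) := by
  haveI : Fact (Nat.Prime 2) := ⟨Nat.prime_two⟩
  exact mem_sylow_of_normalizes S (k := 1) (by rwa [pow_one]) hx

include h hns hC in
theorem Hyp.exists_conj {x : G} (hx : orderOf x = 2) :
    ∃ g, ∃ s ∈ (S : Subgroup G), orderOf s = 2 ∧ x = g * s * g⁻¹ := by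
  obtain ⟨t, ht, ht2⟩ := h.exists_invol S hns
  obtain ⟨g, hg⟩ := isConj_iff.1 (CfsgLib.StrongEmbed.isConj_of_invols (h.embedded hns S hC) ht2 hx)
  exact ⟨g, t, ht, ht2, hg.symm⟩

include h hns hC in
theorem Hyp.centralizer_coreS_le {z : G} (hz : z ∈ coreS S) (hz1 : z ≠ 1) :
    centralizer ({z} : Set G) ≤ normalizer ((S : Subgroup G) : Set G) := by
  haveI : Fact (Nat.Prime 2) := ⟨Nat.prime_two⟩
  haveI := Fact.mk h.prime
  have hzp : orderOf z = p := by
    obtain ⟨k, hk⟩ := h.coreS_isPGroup S hns ⟨z, hz⟩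
    exact orderOf_eq_prime (h.pow_p_eq_one (k := k) (congrArg Subtype.val hk)) hz1
  haveI := h.solvable_of_le_centralizer (Or.inr rfl) hzp (le_refl (centralizer ({z} : Set G)))
  have hSz : (S : Subgroup G) ≤ centralizer ({z} : Set G) := fun s hs =>
    mem_centralizer_singleton_iff.2 (mem_centralizer_iff.1 (core_le _ hz) s hs)
  set O := core (centralizer ({z} : Set G)) with hO
  have hSO : (S : Subgroup G) ≤ normalizer (O : Set G) := hSz.trans (le_normalizer_core _)
  have hOp : IsPGroup p ↥O := h.core_centralizer_isPGroup (Or.inr rfl) hzp le_rfl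
  have hbot : (S : Subgroup G) ⊓ O = ⊥ :=
    inf_eq_bot_of_coprime (IsPGroup.coprime_card_of_ne 2 p (Ne.symm h.odd) _ _ S.2 hOp)
  have h4 := h.card_sylow S hns
  have hOZ : O ≤ coreS S := by
    refine le_of_fixed (h.sylow_elementary S) h4 hSO (odd_core _) fun e he he2 x hx => ?_
    have hxN := hC e he he2 hx.2
    refine h.mem_coreS S hns (mem_centralizer_iff.2 fun s hs => ?_)
      ((odd_core _).of_dvd_nat (orderOf_dvd_natCard _ hx.1))
    have h1 : x * s * x⁻¹ * s⁻¹ ∈ (S : Subgroup G) :=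
      mul_mem ((mem_normalizer_iff.1 hxN s).1 hs) (inv_mem hs)
    have h2 : x * s * x⁻¹ * s⁻¹ ∈ O := by
      rw [show x * s * x⁻¹ * s⁻¹ = x * (s * x⁻¹ * s⁻¹) by group]
      exact mul_mem hx.1 ((mem_normalizer_iff.1 (hSO hs) x⁻¹).1 (inv_mem hx.1))
    have h3 : x * s * x⁻¹ * s⁻¹ ∈ (⊥ : Subgroup G) := hbot ▸ mem_inf.2 ⟨h1, h2⟩
    rw [mem_bot, mul_inv_eq_one, mul_inv_eq_iff_eq_mul] at h3
    exact h3.symm
  intro x hx
  obtain ⟨o, ho, n, -, hn, rfl⟩ := exists_core_mul S (h.sylow_comm S) hSz hx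
  exact mul_mem (centralizer_le_normalizer _ (core_le _ (hOZ ho))) hn

include h hns hC in
/-- The core of `C(S)` is a trivial intersection subgroup. -/
theorem Hyp.coreS_ti {g z : G} (hz : z ∈ coreS S) (hz1 : z ≠ 1) (hg : g * z * g⁻¹ ∈ coreS S) :
    g ∈ normalizer ((S : Subgroup G) : Set G) := by
  refine mem_normalizer_iff_map_conj_eq.2 (eq_of_le_of_card_ge ?_ ?_)
  · rintro _ ⟨s, hs, rfl⟩
    refine h.mem_sylow_of_invol S (h.centralizer_coreS_le hns S hC hg
      (fun e => hz1 (conj_eq_one_iff.1 e)) ?_) ?_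
    · refine mem_centralizer_singleton_iff.2 ?_
      have := mem_centralizer_iff.1 (core_le _ hz) s hs
      show g * s * g⁻¹ * (g * z * g⁻¹) = g * z * g⁻¹ * (g * s * g⁻¹)
      calc g * s * g⁻¹ * (g * z * g⁻¹) = g * (s * z) * g⁻¹ := by group
        _ = g * (z * s) * g⁻¹ := by rw [this]
        _ = _ := by group
    · show (g * s * g⁻¹) ^ 2 = 1
      rw [conj_pow, h.sylow_exp S hs, mul_one, mul_inv_cancel]
  · exact (Nat.card_congr ((S : Subgroup G).equivMapOfInjective _ (MulAut.conj g).injective).toEquiv).le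

include h hns hC in
theorem Hyp.card_normalizer {t : G} (ht : t ∈ (S : Subgroup G)) (ht2 : orderOf t = 2) :
    Nat.card ↥(normalizer ((S : Subgroup G) : Set G)) =
      (Nat.card ↥(S : Subgroup G) - 1) * Nat.card ↥(centralizer ({t} : Set G)) := by
  classical
  haveI : Fact (Nat.Prime 2) := ⟨Nat.prime_two⟩
  set N := normalizer ((S : Subgroup G) : Set G) with hN
  set C := (centralizer ({t} : Set G)).subgroupOf N
  let Ω := ↥(((S : Subgroup G) : Set G) \ {1})
  have hΩ : Nat.card Ω = Nat.card ↥(S : Subgroup G) - 1 := by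
    rw [Nat.card_coe_set_eq, Set.ncard_sdiff_singleton_of_mem (one_mem _), ← Nat.card_coe_set_eq,
      SetLike.coe_sort_coe]
  let f : ↥N ⧸ C → Ω := fun q => ⟨(q.out : G) * t * (q.out : G)⁻¹,
    (mem_normalizer_iff.1 q.out.2 t).1 ht, fun e => CfsgLib.Invol.ne_one ht2 (conj_eq_one_iff.1 e)⟩
  have hbij : Function.Bijective f := by
    constructor
    · intro a b hab
      have h1 : (a.out : G) * t * (a.out : G)⁻¹ = (b.out : G) * t * (b.out : G)⁻¹ := congrArg Subtype.val hab
      rw [← a.out_eq', ← b.out_eq', QuotientGroup.eq]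
      refine mem_subgroupOf.2 (mem_centralizer_singleton_iff.2 ?_)
      push_cast
      calc (a.out : G)⁻¹ * b.out * t = (a.out : G)⁻¹ * ((b.out : G) * t * (b.out : G)⁻¹) * b.out := by group
        _ = (a.out : G)⁻¹ * ((a.out : G) * t * (a.out : G)⁻¹) * b.out := by rw [h1]
        _ = t * ((a.out : G)⁻¹ * b.out) := by group
    · rintro ⟨s, hs, hs1⟩
      obtain ⟨g, hg⟩ := isConj_iff.1 (CfsgLib.StrongEmbed.isConj_of_invols (h.embedded hns S hC) ht2
        (orderOf_eq_prime (h.sylow_exp S hs) hs1))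
      obtain ⟨n, hn, hns'⟩ := burnside S (h.sylow_comm S) ht (u := g) (hg ▸ hs)
      refine ⟨QuotientGroup.mk ⟨n, hn⟩, Subtype.ext ?_⟩
      obtain ⟨⟨c, hc⟩, e⟩ := QuotientGroup.mk_out_eq_mul C (⟨n, hn⟩ : ↥N)
      show ((QuotientGroup.mk (⟨n, hn⟩ : ↥N) : ↥N ⧸ C).out : G) * t * _⁻¹ = s
      rw [e]
      push_cast
      have hct : (c : G) * t = t * c := mem_centralizer_singleton_iff.1 hc
      rw [← hg, ← hns', show n * (c : G) * t * (n * (c : G))⁻¹ = n * ((c : G) * t * (c : G)⁻¹) * n⁻¹ by group,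
        hct, mul_inv_cancel_right]
  have h1 := C.card_mul_index
  rw [index_eq_card, Nat.card_congr (Equiv.ofBijective f hbij), hΩ,
    Nat.card_congr (subgroupOfEquivOfLe (hC t ht ht2)).toEquiv] at h1
  rw [← h1, mul_comm]

include h hns hC in
theorem Hyp.coreS_ne_bot (hfull : ∀ t ∈ (S : Subgroup G), orderOf t = 2 →
    centralizer ({t} : Set G) ≤ centralizer ((S : Subgroup G) : Set G)) {x : G}
    (hx : orderOf x = 2 * p) : coreS S ≠ ⊥ := by
  have hxp : orderOf (x ^ p) = 2 := by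
    rw [orderOf_pow' x h.prime.ne_zero, hx, Nat.gcd_eq_right (dvd_mul_left p 2),
      Nat.mul_div_cancel _ h.prime.pos]
  obtain ⟨g, s, hs, hs2, hg⟩ := h.exists_conj hns S hC hxp
  set y := g⁻¹ * x ^ 2 * g with hy
  have hyo : orderOf y = p := by
    rw [hy, show g⁻¹ * x ^ 2 * g = g⁻¹ * x ^ 2 * g⁻¹⁻¹ by group, CfsgLib.Invol.orderOf_conj_eq,
      orderOf_pow' x (by norm_num), hx, Nat.gcd_eq_right (dvd_mul_right 2 p),
      Nat.mul_div_cancel_left p (by norm_num)]
  have hyC : y ∈ centralizer ({s} : Set G) := by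
    refine mem_centralizer_singleton_iff.2 ?_
    have hcm : x ^ 2 * x ^ p = x ^ p * x ^ 2 := by rw [← pow_add, ← pow_add, add_comm]
    rw [hg] at hcm
    calc y * s = g⁻¹ * (x ^ 2 * (g * s * g⁻¹)) * g := by rw [hy]; group
      _ = g⁻¹ * (g * s * g⁻¹ * x ^ 2) * g := by rw [hcm]
      _ = s * y := by rw [hy]; group
  intro e
  have := h.mem_coreS S hns (hfull s hs hs2 hyC) (by rw [hyo]; exact h.prime.odd_of_ne_two h.odd)
  rw [e, mem_bot] at this
  rw [this, orderOf_one] at hyo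
  exact h.prime.ne_one hyo.symm

include h hns hC in
theorem Hyp.exists_inverted : ∃ u j : G, orderOf u = 2 ∧ u ∉ normalizer ((S : Subgroup G) : Set G) ∧
    j ∈ normalizer ((S : Subgroup G) : Set G) ∧ j ≠ 1 ∧ Odd (orderOf j) ∧ u * j * u⁻¹ = j⁻¹ := by
  classical
  set M := normalizer ((S : Subgroup G) : Set G) with hM
  have hSE := h.embedded hns S hC
  obtain ⟨g, -, hg⟩ := SetLike.exists_of_lt (lt_top_iff_ne_top.2 hSE.1)
  have hne : (QuotientGroup.mk (1 : G) : G ⧸ M) ≠ QuotientGroup.mk g := fun e => by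
    have := QuotientGroup.eq.1 e
    rw [inv_one, one_mul] at this
    exact hg this
  have hcard := CfsgLib.StrongEmbed.card_swap hSE hne
  have h2 : 1 < Nat.card {t : G // orderOf t = 2 ∧ t ∈ M} := by
    obtain ⟨t, ht, ht2⟩ := h.exists_invol S hns
    obtain ⟨s, hs, hs1, hst⟩ : ∃ s ∈ (S : Subgroup G), s ≠ 1 ∧ s ≠ t := by
      by_contra hall
      push Not at hall
      have hle : (S : Subgroup G) ≤ zpowers t := fun s hs => by
        by_cases hs1 : s = 1
        · exact hs1 ▸ one_mem _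
        · exact hall s hs hs1 ▸ mem_zpowers t
      have h3 := Nat.le_of_dvd Nat.card_pos (card_dvd_of_le hle)
      rw [Nat.card_zpowers, ht2] at h3
      have := h.card_sylow S hns
      omega
    exact Finite.one_lt_card_iff_nontrivial.2 ⟨⟨⟨t, ht2, le_normalizer ht⟩,
      ⟨s, orderOf_eq_prime (h.sylow_exp S hs) hs1, le_normalizer hs⟩, fun e => hst (congrArg Subtype.val e).symm⟩⟩
  rw [← hcard] at h2
  obtain ⟨⟨u, hu, hux⟩, ⟨v, hv, hvx⟩, huv⟩ := (Finite.one_lt_card_iff_nontrivial.1 h2).exists_pair_ne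
  have huM : u ∉ M := fun e => hne ((CfsgLib.StrongEmbed.smul_mk_one_iff.2 e).symm.trans hux)
  refine ⟨u, u * v, hu, huM, ?_, ?_, ?_, ?_⟩
  · refine CfsgLib.StrongEmbed.smul_mk_one_iff.1 ?_
    rw [mul_smul, hvx, ← hux, smul_smul, CfsgLib.Invol.mul_self_eq_one hu, one_smul]
  · intro e
    rw [mul_eq_one_iff_eq_inv, CfsgLib.Invol.inv_eq_self hv] at e
    exact huv (Subtype.ext e)
  · refine (hSE.2.2 u huM).of_dvd_nat (orderOf_dvd_natCard _ (CfsgLib.StrongEmbed.mem_inf_conj_iff.2 ⟨?_, ?_⟩))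
    · refine CfsgLib.StrongEmbed.smul_mk_one_iff.1 ?_
      rw [mul_smul, hvx, ← hux, smul_smul, CfsgLib.Invol.mul_self_eq_one hu, one_smul]
    · rw [inv_mul_cancel_left]
      refine CfsgLib.StrongEmbed.smul_mk_one_iff.1 ?_
      rw [mul_smul, hux, ← hvx, smul_smul, CfsgLib.Invol.mul_self_eq_one hv, one_smul]
  · rw [CfsgLib.Invol.inv_eq_self hu, mul_inv_rev, CfsgLib.Invol.inv_eq_self hu, CfsgLib.Invol.inv_eq_self hv,
      ← mul_assoc, CfsgLib.Invol.mul_self_eq_one hu, one_mul]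

include h hns hC in
/-- The automiser is not of order `p` when `C(t) = C(S)`. -/
theorem Hyp.false_of_p (hfull : ∀ t ∈ (S : Subgroup G), orderOf t = 2 →
    centralizer ({t} : Set G) ≤ centralizer ((S : Subgroup G) : Set G)) (hZ : coreS S ≠ ⊥)
    (hord : ∀ x ∈ normalizer ((S : Subgroup G) : Set G), (orderOf x).Prime → orderOf x ≠ 2 →
      x ∉ centralizer ((S : Subgroup G) : Set G) → orderOf x = p) : False := by
  classical
  haveI : Fact (Nat.Prime 2) := ⟨Nat.prime_two⟩
  haveI := Fact.mk h.prime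
  obtain ⟨u, j, hu, huM, hjM, hj1, hjodd, huj⟩ := h.exists_inverted hns S hC
  have hinv : ∀ z ∈ coreS S, z ≠ 1 → u * z * u⁻¹ = z⁻¹ → False := fun z hz hz1 e =>
    huM (h.coreS_ti hns S hC hz hz1 (e ▸ inv_mem hz))
  by_cases hjC : j ∈ centralizer ((S : Subgroup G) : Set G)
  · exact hinv j (h.mem_coreS S hns hjC hjodd) hj1 huj
  have hjp : orderOf j = p := by
    obtain ⟨i, hi, hi2, hiC⟩ := h.exists_prime_pow S hjM hjC
    have h1 := hord _ (pow_mem hjM i) hi hi2 hiC
    refine (h.pee j (h1.symm.dvd.trans (orderOf_pow_dvd i))).resolve_right fun e => ?_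
    rw [e] at hjodd
    exact Nat.not_even_iff_odd.2 hjodd (even_two_mul p)
  -- an element of the core commuting with `j`
  obtain ⟨z, hz, hz1, hzj⟩ : ∃ z ∈ coreS S, z ≠ 1 ∧ Commute j z := by
    set Z := coreS S with hZdef
    set P := zpowers j ⊔ Z with hP
    have hjZ : zpowers j ≤ normalizer (Z : Set G) :=
      zpowers_le.2 (normalizer_le_normalizer_coreS S hjM)
    have hPp : IsPGroup p ↥P := (IsPGroup.of_card (G := ↥(zpowers j)) (n := 1)
      (by rw [Nat.card_zpowers, hjp, pow_one])).to_sup_of_normal_right' (h.coreS_isPGroup S hns) hjZ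
    haveI : (Z.subgroupOf P).Normal :=
      (normal_subgroupOf_iff_le_normalizer le_sup_right).2 (sup_le hjZ le_normalizer)
    haveI := hPp.isNilpotent
    have hne : Z.subgroupOf P ≠ ⊥ := fun e => hZ (by
      rw [← map_subgroupOf_eq_of_le (le_sup_right : Z ≤ P), e, Subgroup.map_bot])
    obtain ⟨⟨z, hzP⟩, ⟨hz, hzc⟩, hz1⟩ :=
      (Subgroup.bot_or_exists_ne_one _).resolve_left (CfsgLib.PGroupBasic.inf_center_ne_bot _ hne)
    exact ⟨z, hz, fun e => hz1 (Subtype.ext e),
      congrArg Subtype.val (mem_center_iff.1 hzc ⟨j, mem_sup_left (mem_zpowers j)⟩)⟩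
  set C := centralizer ({j} : Set G) with hCdef
  -- no involution commutes with `j`
  have hCodd : Odd (Nat.card ↥C) := by
    rw [← Nat.not_even_iff_odd, even_iff_two_dvd]
    intro hd
    obtain ⟨⟨x, hxC⟩, hx2⟩ := exists_prime_orderOf_dvd_card' 2 hd
    rw [← orderOf_coe] at hx2
    simp only at hx2
    obtain ⟨g, s, hs, hs2, rfl⟩ := h.exists_conj hns S hC hx2
    set z' := g⁻¹ * j * g with hz'
    have hz's : z' ∈ centralizer ({s} : Set G) := by
      refine mem_centralizer_singleton_iff.2 ?_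
      have hc := mem_centralizer_singleton_iff.1 hxC
      calc z' * s = g⁻¹ * (j * (g * s * g⁻¹)) * g := by rw [hz']; group
        _ = g⁻¹ * (g * s * g⁻¹ * j) * g := by rw [hc]
        _ = s * z' := by rw [hz']; group
    have hzo : orderOf z' = p := by
      rw [hz', show g⁻¹ * j * g = g⁻¹ * j * g⁻¹⁻¹ by group, CfsgLib.Invol.orderOf_conj_eq, hjp]
    have hzZ : z' ∈ coreS S := h.mem_coreS S hns (hfull s hs hs2 hz's) (hzo ▸ h.prime.odd_of_ne_two h.odd)
    have hz'1 : z' ≠ 1 := fun e => h.prime.ne_one (by rw [← hzo, e, orderOf_one])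
    set w := g⁻¹ * u * g with hw
    have hw2 : orderOf w = 2 := by
      rw [hw, show g⁻¹ * u * g = g⁻¹ * u * g⁻¹⁻¹ by group, CfsgLib.Invol.orderOf_conj_eq, hu]
    have hwz : w * z' * w⁻¹ = z'⁻¹ := by
      rw [hw, hz', show g⁻¹ * u * g * (g⁻¹ * j * g) * (g⁻¹ * u * g)⁻¹ = g⁻¹ * (u * j * u⁻¹) * g by group, huj]
      group
    have hwN := h.coreS_ti hns S hC hzZ hz'1 (hwz ▸ inv_mem hzZ)
    have hwS := h.mem_sylow_of_invol S hwN (by rw [← hw2, pow_orderOf_eq_one])
    have hfix : z' = z'⁻¹ := by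
      have hwz' : w * z' = z' * w := mem_centralizer_iff.1 (core_le _ hzZ) w hwS
      rwa [hwz', mul_inv_cancel_right] at hwz
    have : orderOf z' ∣ 2 := orderOf_dvd_of_pow_eq_one (by rw [sq]; exact mul_eq_one_iff_eq_inv.2 hfix)
    rw [hzo] at this
    exact h.odd ((Nat.prime_dvd_prime_iff_eq h.prime Nat.prime_two).1 this)
  have huC : u ∈ normalizer (C : Set G) := by
    refine CfsgLib.Signalizer.le_normalizer_of_conj_mem (A := zpowers u) ?_ (mem_zpowers u)
    have hself : ∀ x ∈ C, u * x * u⁻¹ ∈ C := fun x hx => mem_centralizer_singleton_iff.2 (by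
      have hc : x * j⁻¹ = j⁻¹ * x :=
        (show Commute x j from mem_centralizer_singleton_iff.1 hx).inv_right.eq
      have e : j = u * j⁻¹ * u⁻¹ := by
        calc j = (j⁻¹)⁻¹ := (inv_inv j).symm
          _ = (u * j * u⁻¹)⁻¹ := by rw [huj]
          _ = _ := by group
      calc u * x * u⁻¹ * j = u * x * u⁻¹ * (u * j⁻¹ * u⁻¹) := by rw [← e]
        _ = u * (x * j⁻¹) * u⁻¹ := by group
        _ = u * (j⁻¹ * x) * u⁻¹ := by rw [hc]
        _ = (u * j⁻¹ * u⁻¹) * (u * x * u⁻¹) := by group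
        _ = j * (u * x * u⁻¹) := by rw [← e])
    rintro b hb x hx
    obtain ⟨k, rfl⟩ := mem_zpowers_iff.1 hb
    have hu2 : u ^ (2 : ℤ) = 1 := by
      rw [show (2 : ℤ) = ((2 : ℕ) : ℤ) from rfl, zpow_natCast, ← hu, pow_orderOf_eq_one]
    rcases Int.even_or_odd k with ⟨m, rfl⟩ | ⟨m, rfl⟩
    · rw [← two_mul, zpow_mul, hu2, one_zpow]; simpa using hx
    · rw [zpow_add, zpow_mul, hu2, one_zpow, one_mul, zpow_one]; exact hself x hx
  let φ : ↥C →* ↥C := ((MulAut.conj u).toMonoidHom.comp C.subtype).codRestrict C fun y =>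
    (mem_normalizer_iff.1 huC y).1 y.2
  have hφ : ∀ y, ((φ y : ↥C) : G) = u * y * u⁻¹ := fun _ => rfl
  have hinvol : Function.Involutive φ := fun y => Subtype.ext (by
    rw [hφ, hφ, show u * (u * (y : G) * u⁻¹) * u⁻¹ = (u * u) * y * (u * u)⁻¹ by group,
      CfsgLib.Invol.mul_self_eq_one hu]
    group)
  have hfix : MonoidHom.FixedPointFree φ := fun y hy => by
    by_contra hy1
    obtain ⟨f, s, hs, hs2, hf⟩ := h.exists_conj hns S hC hu
    have hy' : u * (y : G) * u⁻¹ = y := by rw [← hφ, hy]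
    set w := f⁻¹ * (y : G) * f with hw
    have hwo : Odd (orderOf w) := by
      rw [hw, show f⁻¹ * (y : G) * f = f⁻¹ * y * f⁻¹⁻¹ by group, CfsgLib.Invol.orderOf_conj_eq]
      exact hCodd.of_dvd_nat (orderOf_dvd_natCard _ y.2)
    have hw1 : w ≠ 1 := fun e => hy1 (Subtype.ext (conj_eq_one_iff.1 (by
      rw [hw] at e; rwa [inv_inv] : f⁻¹ * (y : G) * f⁻¹⁻¹ = 1)))
    have hws : w ∈ centralizer ({s} : Set G) := by
      refine mem_centralizer_singleton_iff.2 ?_
      have hc := mul_inv_eq_iff_eq_mul.1 hy'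
      calc w * s = f⁻¹ * ((y : G) * (f * s * f⁻¹)) * f := by rw [hw]; group
        _ = f⁻¹ * (f * s * f⁻¹ * (y : G)) * f := by rw [← hf, hc]
        _ = s * w := by rw [hw]; group
    have hwZ := h.mem_coreS S hns (hfull s hs hs2 hws) hwo
    set j' := f⁻¹ * j * f with hj'
    have hj'N : j' ∈ normalizer ((S : Subgroup G) : Set G) := by
      refine h.centralizer_coreS_le hns S hC hwZ hw1 (mem_centralizer_singleton_iff.2 ?_)
      have hc := mem_centralizer_singleton_iff.1 y.2
      calc j' * w = f⁻¹ * (j * y) * f := by rw [hj', hw]; group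
        _ = f⁻¹ * (y * j) * f := by rw [hc]
        _ = w * j' := by rw [hj', hw]; group
    have hs' : s * j' * s⁻¹ = j'⁻¹ := by
      rw [hf] at huj
      rw [hj', show s * (f⁻¹ * j * f) * s⁻¹ = f⁻¹ * ((f * s * f⁻¹) * j * (f * s * f⁻¹)⁻¹) * f by group, huj]
      group
    have h1 : s⁻¹ * (j' * s * j'⁻¹) ∈ (S : Subgroup G) :=
      mul_mem (inv_mem hs) ((mem_normalizer_iff.1 hj'N s).1 hs)
    rw [show s⁻¹ * (j' * s * j'⁻¹) = (s⁻¹ * j' * s) * j'⁻¹ by group,
      show s⁻¹ * j' * s = s * j' * s⁻¹ by rw [CfsgLib.Invol.inv_eq_self hs2], hs'] at h1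
    have h2 : (j' ^ 2) ^ 2 = 1 := by
      have := h.sylow_exp S h1
      rw [← mul_inv_rev, inv_pow, inv_eq_one] at this
      rwa [← sq] at this
    rw [← pow_mul] at h2
    have h3 : p ∣ 2 ^ 2 := by
      have : orderOf j' = p := by
        rw [hj', show f⁻¹ * j * f = f⁻¹ * j * f⁻¹⁻¹ by group, CfsgLib.Invol.orderOf_conj_eq, hjp]
      exact this ▸ orderOf_dvd_of_pow_eq_one h2
    exact h.odd ((Nat.prime_dvd_prime_iff_eq h.prime Nat.prime_two).1 (h.prime.dvd_of_dvd_pow h3))
  have := congrArg Subtype.val (congrFun (hfix.coe_eq_inv_of_involutive hinvol)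
    ⟨z, mem_centralizer_singleton_iff.2 hzj.symm.eq⟩)
  exact hinv z hz hz1 this

include h hns in
theorem Hyp.centralizer_sylow_isNilpotent :
    Group.IsNilpotent ↥(centralizer ((S : Subgroup G) : Set G)) := by
  haveI : Fact (Nat.Prime 2) := ⟨Nat.prime_two⟩
  haveI := Fact.mk h.prime
  set C := centralizer ((S : Subgroup G) : Set G) with hCdef
  obtain ⟨t, ht, ht2⟩ := h.exists_invol S hns
  have hSc : ∀ s : ↥C, (s : G) ∈ (S : Subgroup G) → s ∈ center ↥C := fun s hs =>
    mem_center_iff.2 fun x => Subtype.ext (mem_centralizer_iff.1 x.2 s hs).symm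
  have hP : IsPGroup p (↥C ⧸ center ↥C) := fun q => by
    obtain ⟨x, rfl⟩ := QuotientGroup.mk'_surjective _ q
    refine ⟨1, ?_⟩
    rw [pow_one, ← map_pow]
    refine (QuotientGroup.eq_one_iff _).2 (hSc _ ?_)
    show (x : G) ^ p ∈ (S : Subgroup G)
    refine h.mem_sylow_of_invol S (centralizer_le_normalizer _ (pow_mem x.2 p)) ?_
    rw [← pow_mul]
    refine orderOf_dvd_iff_pow_eq_one.1 ?_
    rcases h.ord_of_commute (Or.inl rfl) ht2
      (mem_centralizer_iff.1 x.2 t ht) with h1 | h1 | h1 | h1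
    · rw [h1, orderOf_one]; exact one_dvd _
    · rw [h1]; exact dvd_mul_left 2 p
    · rw [h1]; exact dvd_mul_right p 2
    · rw [h1, mul_comm]
  haveI := hP.isNilpotent
  exact Group.of_quotient_center_nilpotent (G := ↥C) inferInstance

include h hns hC in
/-- The automiser has order divisible by `p`, or some involution has a centraliser bigger than `C(S)`:
otherwise `C(S)` would be the kernel of a Zassenhaus group. -/
theorem Hyp.false_of_other (hfull : ∀ t ∈ (S : Subgroup G), orderOf t = 2 →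
    centralizer ({t} : Set G) ≤ centralizer ((S : Subgroup G) : Set G)) (hZ : coreS S ≠ ⊥)
    (hord : ∀ x ∈ normalizer ((S : Subgroup G) : Set G), (orderOf x).Prime → orderOf x ≠ 2 →
      x ∉ centralizer ((S : Subgroup G) : Set G) → orderOf x ≠ p) : False := by
  classical
  haveI : Fact (Nat.Prime 2) := ⟨Nat.prime_two⟩
  haveI := Fact.mk h.prime
  set C := centralizer ((S : Subgroup G) : Set G) with hCdef
  set N := normalizer ((S : Subgroup G) : Set G) with hNdef
  have hSC : (S : Subgroup G) ≤ C := h.sylow_le_centralizer_self S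
  obtain ⟨t, ht, ht2⟩ := h.exists_invol S hns
  obtain ⟨z, hz, hz1⟩ := (Subgroup.bot_or_exists_ne_one _).resolve_left hZ
  have hzp : ∀ z ∈ coreS S, z ≠ 1 → orderOf z = p := fun z hz hz1 => by
    obtain ⟨k, hk⟩ := h.coreS_isPGroup S hns ⟨z, hz⟩
    exact orderOf_eq_prime (h.pow_p_eq_one (congrArg Subtype.val hk)) hz1
  have hcore : ∀ z ∈ coreS S, z ≠ 1 → centralizer ({z} : Set G) ≤ C := by
    intro z hz hz1 x hx
    by_contra hxC
    have hxN := h.centralizer_coreS_le hns S hC hz hz1 hx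
    obtain ⟨j, hj, hj2, hjC⟩ := h.exists_prime_pow S hxN hxC
    exact h.not_commute hj hj2 (hord _ (pow_mem hxN j) hj hj2 hjC) (hzp z hz hz1) rfl
      ((show Commute x z from mem_centralizer_singleton_iff.1 hx).pow_left j).symm
  have hinvS : ∀ x ∈ C, orderOf x = 2 → x ∈ (S : Subgroup G) := fun x hx hx2 =>
    h.mem_sylow_of_invol S (centralizer_le_normalizer _ hx) (by rw [← hx2, pow_orderOf_eq_one])
  have hpZ : ∀ x ∈ C, orderOf x = p → x ∈ coreS S := fun x hx hxp =>
    h.mem_coreS S hns hx (hxp ▸ h.prime.odd_of_ne_two h.odd)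
  -- every nontrivial element of `C` has a power of order `2` or `p`
  have hpow : ∀ x ∈ C, x ≠ 1 → ∃ j : ℕ, orderOf (x ^ j) = 2 ∨ orderOf (x ^ j) = p := by
    intro x hx hx1
    rcases h.ord_of_commute (Or.inl rfl) ht2 (mem_centralizer_iff.1 hx t ht) with e | e | e | e
    · exact absurd e hx1
    · exact ⟨1, Or.inl (by rw [pow_one, e])⟩
    · exact ⟨1, Or.inr (by rw [pow_one, e])⟩
    · exact ⟨p, Or.inl (by
        rw [orderOf_pow' x h.prime.ne_zero, e, Nat.gcd_eq_right (dvd_mul_left p 2),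
          Nat.mul_div_cancel _ h.prime.pos])⟩
  have hsimple : ∀ R : Subgroup G, R.Normal → Group.IsSolvable R → R = ⊥ := fun R hR hs => by
    rcases hR.eq_bot_or_eq_top with e | e
    · exact e
    · subst e
      haveI := hs
      exact absurd (Group.isSolvable_of_surjective (f := (topEquiv : (⊤ : Subgroup G) ≃* G).toMonoidHom)
        topEquiv.surjective) hns
  have hEK : CfsgLib.FrobSystem.EvenKernel (fun _ => C) N S := by
    refine { kle := centralizer_le_normalizer _, kconj := ?_, kcent := ?_, kti := ?_, ne_top := ?_,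
             solv := ?_, sylow_le := hSC, sylow_ne := ?_, proper := ?_, radical := hsimple }
    · exact fun a ha x hx => (mem_normalizer_iff.1 (normalizer_le_normalizer_centralizer S ha) x).1 hx
    · intro x hx hx1 y hy
      obtain ⟨j, hj⟩ := hpow x hx hx1
      have hy' : y ∈ centralizer ({x ^ j} : Set G) := mem_centralizer_singleton_iff.2
        ((show Commute y x from mem_centralizer_singleton_iff.1 hy).pow_right j).eq
      rcases hj with hj | hj
      · exact hfull _ (hinvS _ (pow_mem hx j) hj) hj hy'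
      · exact hcore _ (hpZ _ (pow_mem hx j) hj) (fun e => h.prime.ne_one (by rw [← hj, e, orderOf_one])) hy'
    · intro x g hx hx1 hg
      obtain ⟨j, hj⟩ := hpow x hx hx1
      have hg' : g⁻¹ * x ^ j * g ∈ C := by
        have := pow_mem hg j
        rwa [show g⁻¹ * x * g = g⁻¹ * x * g⁻¹⁻¹ by group, conj_pow, inv_inv] at this
      rcases hj with hj | hj
      · exact CfsgLib.StrongEmbed.mem_of_conj_mem (h.embedded hns S hC)
          (le_normalizer (hinvS _ (pow_mem hx j) hj)) hj (centralizer_le_normalizer _ hg')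
      · refine inv_mem_iff.1 (h.coreS_ti hns S hC (hpZ _ (pow_mem hx j) hj)
          (fun e => h.prime.ne_one (by rw [← hj, e, orderOf_one])) ?_)
        rw [inv_inv]
        refine hpZ _ hg' ?_
        rw [show g⁻¹ * x ^ j * g = g⁻¹ * x ^ j * g⁻¹⁻¹ by group, CfsgLib.Invol.orderOf_conj_eq, hj]
    · exact (h.embedded hns S hC).1
    · haveI := h.solvable_centralizer_sylow S hns
      let e : ↥(centS S) ≃* ↥(centralizer ((S : Subgroup G) : Set G)) :=
        subgroupOfEquivOfLe (centralizer_le_normalizer _)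
      haveI : Group.IsSolvable ↥(centS S) :=
        Group.isSolvable_of_isSolvable_injective (f := e.toMonoidHom) e.injective
      haveI : Group.IsSolvable (Aut2 S) := Cfsg.Agent.S0205.result (h.odd_aut S)
      exact Group.isSolvable_of_ker_le_range (centS S).subtype (proj S) (by simp)
    · intro e
      rw [e, mem_bot] at ht
      exact CfsgLib.Invol.ne_one ht2 ht
    · intro e
      obtain ⟨c, r, -, -, -, hcN, hcC⟩ := h.exists_prime_mover S hns
      exact hcC (e.symm ▸ hcN : c ∈ C)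
  haveI : Fintype (G ⧸ N) := Fintype.ofFinite _
  have h346 := Cfsg.Agent.S0346.result hEK.zassenhaus
  rw [← Nat.card_eq_fintype_card, hEK.transitive.1, Nat.add_sub_cancel] at h346
  obtain ⟨q, k, hq, -, hk⟩ := (isPrimePow_nat_iff _).1 h346
  have h2 : 2 ∣ q ^ k := hk ▸ ht2 ▸ orderOf_dvd_natCard _ (hSC ht)
  have hp : p ∣ q ^ k := hk ▸ hzp z hz hz1 ▸ orderOf_dvd_natCard _ (core_le _ hz : z ∈ C)
  have e2 := (Nat.prime_dvd_prime_iff_eq Nat.prime_two hq).1 (Nat.prime_two.dvd_of_dvd_pow h2)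
  have ep := (Nat.prime_dvd_prime_iff_eq h.prime hq).1 (h.prime.dvd_of_dvd_pow hp)
  exact h.odd (ep.trans e2.symm)

end CfsgLib.OneComp
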