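import Cfsg.Agent.OneComp.Embedded

/-!
# Groups whose orders divisible by `2` or `p` are `2`, `p`, `2p`: the case of an automiser of order `np`

Here `n + 1 = |S|` and the automiser has a normal subgroup of prime order `l ∣ n`.
-/

set_option autoImplicit false
set_option linter.style.haveILetI false
set_option linter.unusedSectionVars false

namespace CfsgLib.OneComp

open Subgroup

universe u

variable {G : Type u} [Group G] [Finite G]

/-- The data of `N(S)` when the automiser has order `np`. -/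
structure FrobData (S : Sylow 2 G) (p l n : ℕ) (c b t : G) : Prop where
  lprime : l.Prime
  l_ne_two : l ≠ 2
  l_ne_p : l ≠ p
  p_dvd : p ∣ l - 1
  l_dvd : l ∣ n
  p_not_dvd : ¬ p ∣ n
  c_order : orderOf c = l
  c_mem : c ∈ normalizer ((S : Subgroup G) : Set G)
  c_fix : ∀ s ∈ (S : Subgroup G), Commute c s → s = 1
  b_order : orderOf b = p
  b_mem : b ∈ normalizer ((S : Subgroup G) : Set G)
  b_norm : b ∈ normalizer (zpowers c : Set G)
  t_mem : t ∈ (S : Subgroup G)
  t_order : orderOf t = 2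
  b_t : Commute b t
  cent_sylow : centralizer ((S : Subgroup G) : Set G) ≤ (S : Subgroup G)
  card_S : Nat.card ↥(S : Subgroup G) = n + 1
  card_N : Nat.card ↥(normalizer ((S : Subgroup G) : Set G)) = (n + 1) * (n * p)
  card_inf : Nat.card ↥(normalizer ((S : Subgroup G) : Set G) ⊓ normalizer (zpowers c : Set G) : Subgroup G) = n * p
  card_cent : Nat.card ↥(normalizer ((S : Subgroup G) : Set G) ⊓ centralizer (zpowers c : Set G) : Subgroup G) = n
  b_fix : ∀ s ∈ (S : Subgroup G), Commute b s → s = 1 ∨ s = t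
  orbit : ∀ s ∈ (S : Subgroup G), s ≠ 1 →
    ∃ a ∈ normalizer ((S : Subgroup G) : Set G) ⊓ centralizer (zpowers c : Set G), s = a * t * a⁻¹
  l_cyc : ∀ x ∈ normalizer ((S : Subgroup G) : Set G), ∀ y ∈ normalizer ((S : Subgroup G) : Set G),
    orderOf x = l → orderOf y = l → ∃ i : ℤ, y⁻¹ * x ^ i ∈ centralizer ((S : Subgroup G) : Set G)
  sylow_l : ∀ x ∈ normalizer ((S : Subgroup G) : Set G), orderOf x = l →
    ∃ m ∈ normalizer ((S : Subgroup G) : Set G), zpowers (m * x * m⁻¹) = zpowers c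

variable [IsSimpleGroup G] {p : ℕ} (h : Hyp G p) (hns : ¬ Group.IsSolvable G) (S : Sylow 2 G)
  (hC : ∀ t ∈ (S : Subgroup G), orderOf t = 2 →
    centralizer ({t} : Set G) ≤ normalizer ((S : Subgroup G) : Set G))

include h hns hC in
theorem Hyp.exists_frobData {l n : ℕ} (hl : l.Prime) (hl2 : l ≠ 2) (hlp : l ≠ p)
    (hS : Nat.card ↥(S : Subgroup G) = n + 1) (hcard : Nat.card (Aut2 S) = n * p) (hpn : ¬ p ∣ n)
    (hpl : p ∣ l - 1) (B : Subgroup (Aut2 S)) [B.Normal]
    (hB : Nat.card ↥B = l) (huniq : ∀ q : Aut2 S, orderOf q = l → q ∈ B)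
    (hcent : Nat.card ↥(centralizer (B : Set (Aut2 S))) = n) :
    ∃ c b t, FrobData S p l n c b t := by
  classical
  haveI := Fact.mk hl
  haveI := Fact.mk h.prime
  haveI : Fact (Nat.Prime 2) := ⟨Nat.prime_two⟩
  set N := normalizer ((S : Subgroup G) : Set G) with hN
  set CS := centralizer ((S : Subgroup G) : Set G) with hCSdef
  obtain ⟨t₀, ht₀, ht₀2⟩ := h.exists_invol S hns
  have hCSord : ∀ x ∈ CS, x = 1 ∨ orderOf x = 2 ∨ orderOf x = p ∨ orderOf x = 2 * p := fun x hx =>
    h.ord_of_commute (Or.inl rfl) ht₀2 (mem_centralizer_iff.1 hx t₀ ht₀)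
  -- elements of order `l` are not in `C(S)` and fix nothing there
  have hlC : ∀ x ∈ CS, orderOf x ≠ l := fun x hx e => by
    rcases hCSord x hx with e1 | e1 | e1 | e1
    · rw [e1, orderOf_one] at e; exact hl.ne_one e.symm
    · exact hl2 (e.symm.trans e1)
    · exact hlp (e.symm.trans e1)
    · exact Nat.not_prime_mul (by norm_num) h.prime.ne_one ((e.symm.trans e1) ▸ hl)
  have hlfix : ∀ x ∈ CS, ∀ y, orderOf y = l → Commute x y → x = 1 := fun x hx y hy hc => by
    have key : ∀ (j r : ℕ), (r = 2 ∨ r = p) → orderOf (x ^ j) = r → False := fun j r hr hj =>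
      (h.prime_commute hr hl hj hy (hc.pow_left j)).elim hl2 hlp
    rcases hCSord x hx with e1 | e1 | e1 | e1
    · exact e1
    · exact (key 1 2 (Or.inl rfl) (by rw [pow_one, e1])).elim
    · exact (key 1 p (Or.inr rfl) (by rw [pow_one, e1])).elim
    · exact (key p 2 (Or.inl rfl) (by
        rw [orderOf_pow' x h.prime.ne_zero, e1, Nat.gcd_eq_right (dvd_mul_left p 2),
          Nat.mul_div_cancel _ h.prime.pos])).elim
  have hlS : ¬ l ∣ Nat.card ↥(centS S) := fun hd => by
    rcases h.primes_centS S hns hl hd with e | e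
    · exact hl2 e
    · exact hlp e
  -- the Sylow `l`-subgroup over `B`
  obtain ⟨P⟩ := (inferInstance : Nonempty (Sylow l ↥(B.comap (proj S))))
  set PN := (P : Subgroup ↥(B.comap (proj S))).map (B.comap (proj S)).subtype with hPN
  have hPB : Nat.card ↥(P : Subgroup ↥(B.comap (proj S))) = l := by
    rw [P.card_eq_multiplicity, card_comap_proj S B, hB, Nat.factorization_mul hl.ne_zero Nat.card_pos.ne',
      Finsupp.add_apply, hl.factorization_self, Nat.factorization_eq_zero_of_not_dvd hlS, add_zero, pow_one]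
  have hPcard : Nat.card ↥PN = l := by
    rw [hPN, card_map_of_injective (B.comap (proj S)).subtype_injective, hPB]
  obtain ⟨c₀, hc₀⟩ := exists_prime_orderOf_dvd_card' (G := ↥PN) l (dvd_of_eq hPcard.symm)
  set cN : ↥N := (c₀ : ↥N) with hcN
  set c : G := (cN : G) with hcdef
  have hco : orderOf c = l := by rw [hcdef, hcN, orderOf_coe, orderOf_coe, hc₀]
  have hPNe : zpowers cN = PN := eq_of_le_of_card_ge (zpowers_le.2 c₀.2)
    (by rw [Nat.card_zpowers, hPcard, hcN, orderOf_coe, hc₀])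
  have hPNc : ∀ x : ↥N, x ∈ PN → (x : G) ∈ zpowers c := by
    intro x hx
    rw [← hPNe] at hx
    obtain ⟨i, rfl⟩ := mem_zpowers_iff.1 hx
    exact ⟨i, by push_cast; rfl⟩
  have hprojo : ∀ x : ↥N, orderOf (x : G) = l → orderOf (proj S x) = l := fun x hx =>
    ((Nat.dvd_prime hl).1 ((orderOf_map_dvd _ x).trans (by rw [← orderOf_coe, hx]))).resolve_left fun e =>
      hlC _ (proj_eq_one.1 (orderOf_eq_one_iff.1 e)) hx
  have hBz : zpowers (proj S cN) = B := eq_of_le_of_card_ge (zpowers_le.2 (huniq _ (hprojo cN hco)))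
    (by rw [hB, Nat.card_zpowers, hprojo cN hco])
  have hBl : ∀ x : ↥N, orderOf (x : G) = l → zpowers (proj S x) = B := fun x hx =>
    eq_of_le_of_card_ge (zpowers_le.2 (huniq _ (hprojo x hx))) (by rw [hB, Nat.card_zpowers, hprojo x hx])
  have hl_cyc : ∀ x ∈ N, ∀ y ∈ N, orderOf x = l → orderOf y = l → ∃ i : ℤ, y⁻¹ * x ^ i ∈ CS := by
    intro x hx y hy hxl hyl
    have hm : proj S ⟨y, hy⟩ ∈ zpowers (proj S ⟨x, hx⟩) :=
      hBl ⟨x, hx⟩ hxl ▸ huniq _ (hprojo ⟨y, hy⟩ hyl)
    obtain ⟨i, hi⟩ := mem_zpowers_iff.1 hm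
    refine ⟨i, ?_⟩
    have h1 : proj S ((⟨y, hy⟩ : ↥N)⁻¹ * ⟨x, hx⟩ ^ i) = 1 := by
      rw [map_mul, map_inv, map_zpow, hi, inv_mul_cancel]
    have h2 := proj_eq_one.1 h1
    push_cast at h2
    exact h2
  -- `N(S) ∩ N(⟨c⟩)` maps isomorphically onto the automiser
  set K := N ⊓ normalizer (zpowers c : Set G) with hK
  let f : ↥K →* Aut2 S := (proj S).comp (Subgroup.inclusion inf_le_left)
  have hcN' : c ∈ N := cN.2
  have hfix : ∀ x ∈ K, x ∈ CS → x = 1 := by
    intro x hxK hxC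
    have h1 : x * c * x⁻¹ * c⁻¹ ∈ CS := by
      rw [show x * c * x⁻¹ * c⁻¹ = x * (c * x⁻¹ * c⁻¹) by group]
      exact mul_mem hxC ((mem_normalizer_iff.1 (normalizer_le_normalizer_centralizer S hcN') _).1 (inv_mem hxC))
    have h2 : x * c * x⁻¹ * c⁻¹ ∈ zpowers c :=
      mul_mem ((mem_normalizer_iff.1 hxK.2 c).1 (mem_zpowers c)) (inv_mem (mem_zpowers c))
    have h3 : x * c * x⁻¹ * c⁻¹ = 1 := by
      by_contra hne
      refine hlC _ h1 ?_
      exact ((Nat.dvd_prime hl).1 (hco ▸ Nat.card_zpowers c ▸ orderOf_dvd_natCard _ h2)).resolve_left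
        fun e => hne (orderOf_eq_one_iff.1 e)
    exact hlfix x hxC c hco (mul_inv_eq_iff_eq_mul.1 (mul_inv_eq_one.1 h3))
  have hinj : Function.Injective f := by
    rw [← MonoidHom.ker_eq_bot_iff, eq_bot_iff]
    rintro ⟨x, hxK⟩ hx
    exact mem_bot.2 (Subtype.ext (hfix x hxK (proj_eq_one.1 (MonoidHom.mem_ker.1 hx))))
  have hsurj : Function.Surjective f := by
    intro q
    obtain ⟨m, hm, b', hb', hmb⟩ := h.exists_normalizing S P q
    obtain ⟨i, hi⟩ := mem_zpowers_iff.1 (hBz ▸ hb' : b' ∈ zpowers (proj S cN))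
    set y : ↥N := (cN ^ i)⁻¹ * m with hy
    have hyK : (y : G) ∈ K := by
      refine mem_inf.2 ⟨y.2, ?_⟩
      have hm' : (m : G) ∈ normalizer (zpowers c : Set G) := by
        refine CfsgLib.Signalizer.le_normalizer_of_conj_mem (A := zpowers (m : G)) ?_ (mem_zpowers _)
        rintro z hz x hx
        obtain ⟨k, rfl⟩ := mem_zpowers_iff.1 hx
        obtain ⟨j, rfl⟩ := mem_zpowers_iff.1 hz
        have h1 := (mem_normalizer_iff.1 (zpow_mem hm j) (cN ^ k)).1 (zpow_mem c₀.2 k)
        have h2 := hPNc _ h1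
        push_cast at h2
        exact h2
      rw [hy]
      push_cast
      exact mul_mem (inv_mem (le_normalizer (zpow_mem (mem_zpowers c) i))) hm'
    refine ⟨⟨y, hyK⟩, ?_⟩
    show proj S y = q
    rw [hy, map_mul, map_inv, map_zpow, hi, hmb, inv_mul_cancel_left]
  have hKcard : Nat.card ↥K = n * p := by
    rw [Nat.card_congr (Equiv.ofBijective f ⟨hinj, hsurj⟩), hcard]
  -- the centraliser of `c`
  set A := N ⊓ centralizer (zpowers c : Set G) with hA
  have hAK : A ≤ K := inf_le_inf_left _ (centralizer_le_normalizer _)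
  have hAmap : ∀ x : ↥K, (x : G) ∈ A ↔ f x ∈ centralizer (B : Set (Aut2 S)) := by
    intro x
    constructor
    · intro hx
      rw [← hBz]
      refine mem_centralizer_iff.2 fun z hz => ?_
      obtain ⟨i, rfl⟩ := mem_zpowers_iff.1 hz
      have hc' : Commute (Subgroup.inclusion inf_le_left x : ↥N) (cN ^ i) := Subtype.ext (by
        push_cast
        exact (mem_centralizer_iff.1 hx.2 (c ^ i) ⟨i, rfl⟩).symm)
      have := (hc'.map (proj S)).symm.eq
      rwa [map_zpow] at this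
    · intro hx
      refine mem_inf.2 ⟨x.2.1, mem_centralizer_iff.2 fun z hz => ?_⟩
      obtain ⟨i, rfl⟩ := mem_zpowers_iff.1 hz
      have h1 : (x : G) * c * (x : G)⁻¹ * c⁻¹ ∈ CS := by
        have h0 := mem_centralizer_iff.1 hx (proj S cN) (hBz ▸ mem_zpowers _)
        have h2 : proj S ((Subgroup.inclusion inf_le_left x : ↥N) * cN * (Subgroup.inclusion inf_le_left x : ↥N)⁻¹ * cN⁻¹) = 1 := by
          simp only [map_mul, map_inv]
          show f x * proj S cN * (f x)⁻¹ * (proj S cN)⁻¹ = 1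
          rw [← h0, mul_inv_cancel_right, mul_inv_cancel]
        have h3 := proj_eq_one.1 h2
        push_cast at h3
        exact h3
      have h2 : (x : G) * c * (x : G)⁻¹ * c⁻¹ ∈ zpowers c :=
        mul_mem ((mem_normalizer_iff.1 x.2.2 c).1 (mem_zpowers c)) (inv_mem (mem_zpowers c))
      have h3 := hfix _ (mem_inf.2 ⟨mul_mem (mul_mem (mul_mem x.2.1 hcN') (inv_mem x.2.1)) (inv_mem hcN'),
        le_normalizer h2⟩) h1
      exact ((show Commute (x : G) c from mul_inv_eq_iff_eq_mul.1 (mul_inv_eq_one.1 h3)).zpow_right i).symm.eq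
  have hAcard : Nat.card ↥A = n := by
    rw [← hcent, ← Nat.card_congr (subgroupOfEquivOfLe hAK).toEquiv]
    exact Nat.card_congr (Equiv.subtypeEquiv (Equiv.ofBijective f ⟨hinj, hsurj⟩) fun x => hAmap x)
  obtain ⟨⟨b, hbK⟩, hbo⟩ := exists_prime_orderOf_dvd_card' (G := ↥K) p (hKcard ▸ dvd_mul_left p n)
  rw [← orderOf_coe] at hbo
  simp only at hbo
  have hbnorm : b ∈ normalizer (zpowers c : Set G) := hbK.2
  have hbA : ∀ a ∈ A, b * a * b⁻¹ ∈ A := fun a ha => by
    refine mem_inf.2 ⟨mul_mem (mul_mem hbK.1 ha.1) (inv_mem hbK.1), mem_centralizer_iff.2 fun z hz => ?_⟩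
    have h1 : b⁻¹ * z * b ∈ zpowers c := (mem_normalizer_iff''.1 hbnorm z).1 hz
    have h2 := mem_centralizer_iff.1 ha.2 _ h1
    calc z * (b * a * b⁻¹) = b * ((b⁻¹ * z * b) * a) * b⁻¹ := by group
      _ = b * (a * (b⁻¹ * z * b)) * b⁻¹ := by rw [h2]
      _ = b * a * b⁻¹ * z := by group
  -- elements of `A` fix nothing in `S`
  have hodd : ¬ 2 ∣ n := fun h2 => by
    have hk : Even (n + 1) := by
      obtain ⟨k, hk⟩ := IsPGroup.iff_card.1 S.2
      rw [← hS, hk]
      refine Nat.even_pow.2 ⟨even_two, fun e => ?_⟩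
      rw [e, pow_zero, hS] at hk
      have := h.card_sylow S hns
      omega
    exact Nat.not_even_iff_odd.2 (even_iff_two_dvd.2 h2).add_one hk
  have hAfree : ∀ a ∈ A, ∀ s ∈ (S : Subgroup G), s ≠ 1 → Commute a s → a = 1 := by
    intro a ha s hs hs1 hc
    have hd : orderOf a ∣ n := hAcard ▸ orderOf_dvd_natCard _ ha
    rcases h.ord_of_commute (Or.inl rfl) (orderOf_eq_prime (h.sylow_exp S hs) hs1) hc.symm with e | e | e | e
    · exact e
    · exact absurd (e ▸ hd) hodd
    · exact absurd (e ▸ hd) hpn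
    · exact absurd ((dvd_mul_left p 2).trans (e ▸ hd)) hpn
  -- the core of `C(S)` is trivial
  have hZ : coreS S = ⊥ := by
    set Q := (coreS S).subgroupOf N with hQ
    haveI : Q.Normal := (normal_subgroupOf_iff_le_normalizer
      ((core_le _).trans (centralizer_le_normalizer _))).2 (normalizer_le_normalizer_coreS S)
    have hQp : IsPGroup p ↥Q := (h.coreS_isPGroup S hns).comap_subtype
    have key : PN ≤ centralizer (Q : Set ↥N) := by
      refine centralizes h.prime hQp ?_ h.prime (c := (⟨b, hbK.1⟩ : ↥N))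
        (Subtype.ext (by push_cast; rw [← hbo, pow_orderOf_eq_one])) ?_ ?_ ?_
      · obtain ⟨a, ha⟩ := IsPGroup.iff_card.1 hQp
        rw [ha, hPcard]
        exact ((Nat.coprime_primes h.prime hl).2 (Ne.symm hlp)).pow_left a
      · rw [mem_normalizer_iff]
        intro x
        have hx : ∀ y : ↥N, y ∈ PN ↔ (y : G) ∈ zpowers c := fun y => ⟨hPNc y, fun hy => by
          obtain ⟨i, hi⟩ := mem_zpowers_iff.1 hy
          rw [show y = cN ^ i from Subtype.ext (by push_cast; exact hi.symm), ← hPNe]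
          exact ⟨i, rfl⟩⟩
        rw [hx, hx]
        push_cast
        exact mem_normalizer_iff.1 hbnorm x
      · intro k hk hck
        by_contra hk1
        have ho : orderOf (k : G) = l := by
          refine orderOf_eq_prime ?_ (fun e => hk1 (Subtype.ext e))
          have := pow_card_eq_one' (x := (⟨k, hk⟩ : ↥PN))
          rw [hPcard] at this
          exact congrArg (fun x : ↥PN => ((x : ↥N) : G)) this
        exact h.not_commute hl hl2 hlp hbo ho (hck.map N.subtype)
      · intro a ha k hk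
        have h1 : (QuotientGroup.mk' Q (a * (k * (⟨b, hbK.1⟩ : ↥N) * k⁻¹))) ^ p = 1 := by
          rw [map_mul, show QuotientGroup.mk' Q a = 1 from (QuotientGroup.eq_one_iff a).2 ha, one_mul,
            ← map_pow, conj_pow, show (⟨b, hbK.1⟩ : ↥N) ^ p = 1 from
              Subtype.ext (by push_cast; rw [← hbo, pow_orderOf_eq_one]),
            mul_one, mul_inv_cancel, map_one]
        rw [← map_pow] at h1
        obtain ⟨i, hi⟩ := hQp ⟨_, (QuotientGroup.eq_one_iff _).1 h1⟩
        refine Subtype.ext ?_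
        push_cast
        refine h.pow_p_eq_one (k := i + 1) ?_
        rw [pow_succ', pow_mul]
        exact congrArg (fun x : ↥Q => ((x : ↥N) : G)) hi
    by_contra hne
    obtain ⟨z, hz, hz1⟩ := (Subgroup.bot_or_exists_ne_one _).resolve_left hne
    have hzN : z ∈ N := centralizer_le_normalizer _ (core_le _ hz)
    have hc := mem_centralizer_iff.1 (key c₀.2) ⟨z, hzN⟩ hz
    exact hz1 (hlfix z (core_le _ hz) c hco (congrArg Subtype.val hc))
  have hCS : CS ≤ (S : Subgroup G) := by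
    intro x hx
    have hxN := centralizer_le_normalizer _ hx
    have hodd : ∀ z ∈ CS, Odd (orderOf z) → z = 1 := fun z hz ho => by
      have := h.mem_coreS S hns hz ho
      rwa [hZ, mem_bot] at this
    refine h.mem_sylow_of_invol S hxN ?_
    rcases hCSord x hx with h1 | h1 | h1 | h1
    · rw [h1, one_pow]
    · rw [← h1, pow_orderOf_eq_one]
    · rw [hodd x hx (h1 ▸ h.prime.odd_of_ne_two h.odd), one_pow]
    · refine hodd _ (pow_mem hx 2) ?_
      rw [orderOf_pow' x (by norm_num), h1, Nat.gcd_eq_right (dvd_mul_right 2 p),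
        Nat.mul_div_cancel_left p (by norm_num)]
      exact h.prime.odd_of_ne_two h.odd
  have hCSeq : CS = (S : Subgroup G) := le_antisymm hCS (h.sylow_le_centralizer_self S)
  have hNcard : Nat.card ↥N = (n + 1) * (n * p) := by
    rw [← (centS S).card_mul_index, Nat.card_congr (subgroupOfEquivOfLe (centralizer_le_normalizer _)).toEquiv,
      ← hCSdef, hCSeq, hS, index_eq_card, hcard]
  -- `b` fixes an involution of `S`
  haveI : Fintype ↥(((S : Subgroup G) : Set G) \ {1}) := Fintype.ofFinite _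
  have hΩ : Nat.card ↥(((S : Subgroup G) : Set G) \ {1}) = n := by
    rw [Nat.card_coe_set_eq, Set.ncard_sdiff_singleton_of_mem (one_mem _), ← Nat.card_coe_set_eq,
      SetLike.coe_sort_coe, hS, Nat.add_sub_cancel]
  let σ : Equiv.Perm ↥(((S : Subgroup G) : Set G) \ {1}) :=
    { toFun := fun s => ⟨b * s * b⁻¹, (mem_normalizer_iff.1 hbK.1 _).1 s.2.1,
        fun e => s.2.2 (conj_eq_one_iff.1 e)⟩
      invFun := fun s => ⟨b⁻¹ * s * b, (mem_normalizer_iff''.1 hbK.1 _).1 s.2.1,
        fun e => s.2.2 (conj_eq_one_iff.1 (by rw [inv_inv]; exact e : b⁻¹ * s * b⁻¹⁻¹ = 1))⟩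
      left_inv := fun s => Subtype.ext (by simp [mul_assoc])
      right_inv := fun s => Subtype.ext (by simp [mul_assoc]) }
  have hσ : σ ^ p ^ 1 = 1 := by
    have hk : ∀ (k : ℕ) s, (((σ ^ k) s : ↥(((S : Subgroup G) : Set G) \ {1})) : G) = b ^ k * s * (b ^ k)⁻¹ := by
      intro k
      induction k with
      | zero => intro s; simp
      | succ k ih =>
        intro s
        rw [pow_succ', Equiv.Perm.mul_apply]
        show b * _ * b⁻¹ = _
        rw [ih, pow_succ']
        group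
    refine Equiv.ext fun s => Subtype.ext ?_
    rw [hk, pow_one, ← hbo, pow_orderOf_eq_one, one_mul, inv_one, mul_one]
    rfl
  obtain ⟨⟨t, ht, ht1⟩, htb⟩ := Equiv.Perm.exists_fixed_point_of_prime
    (by rw [← Nat.card_eq_fintype_card, hΩ]; exact hpn) hσ
  have hbt : Commute b t := mul_inv_eq_iff_eq_mul.1 (congrArg Subtype.val htb)
  have ht2 : orderOf t = 2 := orderOf_eq_prime (h.sylow_exp S ht) ht1
  -- `A` is transitive on the involutions of `S`
  let g : ↥A → ↥(((S : Subgroup G) : Set G) \ {1}) := fun a =>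
    ⟨(a : G) * t * (a : G)⁻¹, (mem_normalizer_iff.1 a.2.1 t).1 ht, fun e => ht1 (conj_eq_one_iff.1 e)⟩
  have hginj : Function.Injective g := by
    intro a a' e
    have e' : (a : G) * t * (a : G)⁻¹ = (a' : G) * t * (a' : G)⁻¹ := congrArg Subtype.val e
    refine (inv_mul_eq_one.1 (Subtype.ext ?_) : a' = a).symm
    push_cast
    refine hAfree _ (mul_mem (inv_mem a'.2) a.2) t ht ht1 ?_
    show (a' : G)⁻¹ * a * t = t * ((a' : G)⁻¹ * a)
    calc (a' : G)⁻¹ * a * t = (a' : G)⁻¹ * ((a : G) * t * (a : G)⁻¹) * a := by group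
      _ = (a' : G)⁻¹ * ((a' : G) * t * (a' : G)⁻¹) * a := by rw [e']
      _ = t * ((a' : G)⁻¹ * a) := by group
  have horb : ∀ s ∈ (S : Subgroup G), s ≠ 1 → ∃ a ∈ A, s = a * t * a⁻¹ := by
    intro s hs hs1
    obtain ⟨a, ha⟩ := (hginj.bijective_of_nat_card_le (by rw [hΩ, hAcard])).2 ⟨s, hs, hs1⟩
    exact ⟨a, a.2, (congrArg Subtype.val ha).symm⟩
  refine ⟨c, b, t, hl, hl2, hlp, hpl, ?_, hpn, hco, hcN', (h.mover_of_ne S hl hl2 hlp hco hcN').fix, hbo,
    hbK.1, hbnorm, ht, ht2, hbt, hCS, hS, hNcard, hKcard, hAcard, ?_, horb, hl_cyc, ?_⟩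
  · rw [← hAcard]
    refine hco ▸ orderOf_dvd_natCard _ ⟨hcN', mem_centralizer_iff.2 fun z hz => ?_⟩
    obtain ⟨i, rfl⟩ := mem_zpowers_iff.1 hz
    exact ((Commute.refl c).zpow_left i).eq
  · intro s hs hbs
    by_cases hs1 : s = 1
    · exact Or.inl hs1
    obtain ⟨a, ha, rfl⟩ := horb s hs hs1
    refine Or.inr ?_
    have e : b * a * b⁻¹ = a := by
      refine congrArg Subtype.val (hginj (a₁ := ⟨_, hbA a ha⟩) (a₂ := ⟨a, ha⟩) (Subtype.ext ?_))
      show b * a * b⁻¹ * t * (b * a * b⁻¹)⁻¹ = a * t * a⁻¹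
      calc b * a * b⁻¹ * t * (b * a * b⁻¹)⁻¹ = b * (a * ((b⁻¹ * (t * b))) * a⁻¹) * b⁻¹ := by group
        _ = b * (a * t * a⁻¹) * b⁻¹ := by rw [← hbt.eq, inv_mul_cancel_left]
        _ = a * t * a⁻¹ := by rw [hbs.eq, mul_inv_cancel_right]
    have hba : Commute b a := mul_inv_eq_iff_eq_mul.1 e
    have ha1 : a = 1 := by
      have hd : orderOf a ∣ n := hAcard ▸ orderOf_dvd_natCard _ ha
      rcases h.ord_of_commute (Or.inr rfl) hbo hba with h1 | h1 | h1 | h1
      · exact h1
      · exact absurd (hAcard ▸ orderOf_dvd_natCard _ ha) fun h' => hodd (h1 ▸ h')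
      · exact absurd (h1 ▸ hd) hpn
      · exact absurd ((dvd_mul_left p 2).trans (h1 ▸ hd)) hpn
    rw [ha1, one_mul, inv_one, mul_one]
  · intro x hx hxl
    set y : ↥N := ⟨x, hx⟩ with hy
    have hyB : y ∈ B.comap (proj S) := huniq _ (hprojo y hxl)
    obtain ⟨Q, hQ⟩ := (IsPGroup.of_card (n := 1) (by rw [Nat.card_zpowers, ← orderOf_coe, ← orderOf_coe, pow_one]; exact hxl) :
      IsPGroup l ↥(zpowers (⟨y, hyB⟩ : ↥(B.comap (proj S))))).exists_le_sylow
    obtain ⟨m, hm⟩ := MulAction.exists_smul_eq ↥(B.comap (proj S)) Q P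
    have h1 : m * ⟨y, hyB⟩ * m⁻¹ ∈ (P : Subgroup ↥(B.comap (proj S))) := by
      rw [← hm]
      exact ⟨⟨y, hyB⟩, hQ (mem_zpowers _), rfl⟩
    have h2 := hPNc _ (mem_map_of_mem (B.comap (proj S)).subtype h1)
    push_cast at h2
    refine ⟨((m : ↥N) : G), (m : ↥N).2, eq_of_le_of_card_ge (zpowers_le.2 h2) ?_⟩
    rw [Nat.card_zpowers, Nat.card_zpowers, hco, CfsgLib.Invol.orderOf_conj_eq, hxl]

end CfsgLib.OneComp
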