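import Cfsg.Agent.OneComp.Basic
import Cfsg.Agent.OddCores.Constrained
import Cfsg.Agent.OddLocal.TransitivityCases
import Cfsg.Agent.Solvable.CoprimeAct
import Cfsg.Agent.Transfer.Basic
import Cfsg.Agent.Transfer.Alperin
import Cfsg.Agent.Invol.StrongEmbedded

/-!
# Groups with a single composite element order `2p`: the normaliser of a Sylow 2-subgroup
-/

set_option autoImplicit false
set_option linter.style.haveILetI false
set_option linter.unusedSectionVars false

namespace CfsgLib.OneComp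

open Subgroup

universe u

variable {G : Type u} [Group G] [Finite G]

theorem le_core {X C : Subgroup G} (hX : X ≤ C) (hn : C ≤ normalizer (X : Set G))
    (hodd : Odd (Nat.card ↥X)) : X ≤ core C := by
  intro x hx
  haveI : (X.subgroupOf C).Normal := (normal_subgroupOf_iff_le_normalizer hX).2 hn
  have h1 : X.subgroupOf C ≤ Cfsg.oddCore ↥C := le_sSup ⟨inferInstance, by
    rw [Nat.card_congr (subgroupOfEquivOfLe hX).toEquiv]
    exact Nat.coprime_two_right.2 hodd⟩
  exact ⟨⟨x, hX hx⟩, h1 (mem_subgroupOf.2 hx), rfl⟩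

theorem normalizer_le_normalizer_core (C : Subgroup G) :
    normalizer (C : Set G) ≤ normalizer (core C : Set G) := by
  refine CfsgLib.Signalizer.le_normalizer_of_conj_mem fun g hg x hx => ?_
  set X := (core C).map (MulAut.conj g).toMonoidHom
  suffices X ≤ core C from this ⟨x, hx, rfl⟩
  have hgC : C.map (MulAut.conj g).toMonoidHom = C := mem_normalizer_iff_map_conj_eq.1 hg
  refine le_core ((map_mono (core_le C)).trans hgC.le) ?_ ?_
  · exact hgC.ge.trans ((map_mono (le_normalizer_core C)).trans (le_normalizer_map _))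
  · rw [show Nat.card ↥X = Nat.card ↥(core C) from (Nat.card_congr
      ((core C).equivMapOfInjective _ (MulAut.conj g).injective).toEquiv).symm]
    exact odd_core C

/-- An element of odd order centralising an abelian Sylow `2`-subgroup of a solvable group lies in the
core. -/
theorem mem_core_of_centralizes {C : Subgroup G} [Group.IsSolvable ↥C] (S : Sylow 2 G)
    (hS : IsMulCommutative ↥(S : Subgroup G)) (hSC : (S : Subgroup G) ≤ C) {z : G} (hz : z ∈ C)
    (hodd : Odd (orderOf z)) (hzS : z ∈ centralizer ((S : Subgroup G) : Set G)) : z ∈ core C := by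
  haveI : Fact (Nat.Prime 2) := ⟨Nat.prime_two⟩
  set O := Cfsg.oddCore ↥C
  haveI : O.Normal := Cfsg.pPrimeCore_normal 2 ↥C
  let f := QuotientGroup.mk' O
  have hf : Function.Surjective f := QuotientGroup.mk'_surjective O
  haveI : Group.IsSolvable (↥C ⧸ O) := Group.isSolvable_of_surjective hf
  let P : Sylow 2 ↥C := S.subtype hSC
  let P' := P.mapSurjective hf
  haveI := hS
  have hcomm : (P' : Subgroup (↥C ⧸ O)) ≤ centralizer (P' : Set (↥C ⧸ O)) := by
    rintro _ ⟨a, ha, rfl⟩
    refine mem_centralizer_iff.2 ?_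
    rintro _ ⟨b, hb, rfl⟩
    rw [← map_mul, ← map_mul]
    exact congr_arg f (Subtype.ext (setLike_mul_comm (s := (S : Subgroup G)) hb ha))
  have heq : (P' : Subgroup (↥C ⧸ O)) = Cfsg.pCore 2 (↥C ⧸ O) :=
    CfsgLib.Fitting.abelian_sylow_eq_pCore (CfsgLib.Fitting.pPrimeCore_quotient_eq_bot 2) P' hcomm
  have h1 : f ⟨z, hz⟩ ∈ centralizer ((P' : Subgroup (↥C ⧸ O)) : Set (↥C ⧸ O)) := by
    refine mem_centralizer_iff.2 ?_
    rintro _ ⟨b, hb, rfl⟩
    rw [← map_mul, ← map_mul]
    exact congr_arg f (Subtype.ext (mem_centralizer_iff.1 hzS b hb))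
  rw [heq] at h1
  have h2 := CfsgLib.Fitting.centralizer_pCore_le (CfsgLib.Fitting.pPrimeCore_quotient_eq_bot 2) h1
  obtain ⟨k, hk⟩ := CfsgLib.Solvable.isPGroup_pCore 2 ⟨_, h2⟩
  have hk' : f ⟨z, hz⟩ ^ 2 ^ k = 1 := congrArg Subtype.val hk
  have ho : orderOf (f ⟨z, hz⟩) ∣ orderOf z := by
    refine (orderOf_map_dvd f _).trans ?_
    rw [← orderOf_coe]
  have : f ⟨z, hz⟩ = 1 := orderOf_eq_one_iff.1 (Nat.eq_one_of_dvd_coprimes
    ((Nat.coprime_two_right.2 hodd).pow_right k) ho (orderOf_dvd_of_pow_eq_one hk'))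
  exact ⟨⟨z, hz⟩, (QuotientGroup.eq_one_iff _).1 this, rfl⟩

/-- Burnside: the normaliser of an abelian Sylow subgroup controls fusion in it. -/
theorem burnside {q : ℕ} [Fact q.Prime] (S : Sylow q G) (hS : IsMulCommutative ↥(S : Subgroup G))
    {x u : G} (hx : x ∈ (S : Subgroup G)) (hy : u * x * u⁻¹ ∈ (S : Subgroup G)) :
    ∃ n ∈ normalizer ((S : Subgroup G) : Set G), n * x * n⁻¹ = u * x * u⁻¹ :=
  CfsgLib.TransferBasic.exists_normalizer_conj S (le_centralizer_iff_isMulCommutative.2 hS) le_rfl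
    (fun g hg => eq_of_le_of_card_ge hg
      (Nat.card_congr ((S : Subgroup G).equivMapOfInjective _ (MulAut.conj g).injective).toEquiv).le)
    hx hy

theorem mem_sylow_of_normalizes {q : ℕ} [Fact q.Prime] (S : Sylow q G) {x : G} {k : ℕ}
    (hx : x ^ q ^ k = 1) (hn : x ∈ normalizer ((S : Subgroup G) : Set G)) : x ∈ (S : Subgroup G) := by
  obtain ⟨j, -, hj⟩ := (Nat.dvd_prime_pow (Fact.out : q.Prime)).1 (orderOf_dvd_of_pow_eq_one hx)
  have hP : IsPGroup q (zpowers x) := IsPGroup.of_card ((Nat.card_zpowers x).trans hj)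
  exact (S.3 (hP.to_sup_of_normal_right' S.2 (zpowers_le.2 hn)) le_sup_right).le
    (mem_sup_left (mem_zpowers x))

/-- A subgroup containing the normaliser and the centralisers of the involutions of an abelian Sylow
2-subgroup is strongly embedded. -/
theorem stronglyEmbedded (S : Sylow 2 G) (hS : IsMulCommutative ↥(S : Subgroup G))
    (hne : (S : Subgroup G) ≠ ⊥) {M : Subgroup G} (hM : M ≠ ⊤)
    (hN : normalizer ((S : Subgroup G) : Set G) ≤ M)
    (hC : ∀ t ∈ (S : Subgroup G), orderOf t = 2 → centralizer ({t} : Set G) ≤ M) :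
    Cfsg.IsStronglyEmbedded M := by
  haveI : Fact (Nat.Prime 2) := ⟨Nat.prime_two⟩
  have hSM : (S : Subgroup G) ≤ M := le_normalizer.trans hN
  haveI : Nontrivial ↥(S : Subgroup G) := (Subgroup.nontrivial_iff_ne_bot _).2 hne
  have h2S : 2 ∣ Nat.card ↥(S : Subgroup G) := S.2.card_eq_or_dvd.resolve_left Finite.one_lt_card.ne'
  refine ⟨hM, even_iff_two_dvd.2 (h2S.trans (card_dvd_of_le hSM)), fun g hg => ?_⟩
  by_contra hev
  obtain ⟨⟨i, hi⟩, hi2⟩ := exists_prime_orderOf_dvd_card' (p := 2)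
    (even_iff_two_dvd.1 (Nat.not_odd_iff_even.1 hev))
  rw [← orderOf_coe] at hi2
  simp only at hi2
  obtain ⟨hiM, hiM'⟩ := CfsgLib.StrongEmbed.mem_inf_conj_iff.1 hi
  have hconj : ∀ x ∈ M, orderOf x = 2 → ∃ m ∈ M, m * x * m⁻¹ ∈ (S : Subgroup G) := by
    intro x hx hx2
    have hP : IsPGroup 2 (zpowers (⟨x, hx⟩ : ↥M)) := IsPGroup.of_card (n := 1) (by
      rw [Nat.card_zpowers, ← orderOf_coe, hx2, pow_one])
    obtain ⟨Q, hQ⟩ := hP.exists_le_sylow
    obtain ⟨m, hm⟩ := MulAction.exists_smul_eq (↥M) Q (S.subtype hSM)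
    refine ⟨m, m.2, ?_⟩
    have h1 : m * ⟨x, hx⟩ * m⁻¹ ∈ ((S.subtype hSM : Sylow 2 ↥M) : Subgroup ↥M) := by
      rw [← hm]
      exact ⟨⟨x, hx⟩, hQ (mem_zpowers _), rfl⟩
    exact h1
  obtain ⟨m, hm, hmS⟩ := hconj i hiM hi2
  obtain ⟨m', hm', hmS'⟩ := hconj (g⁻¹ * i * g) hiM' (by
    rw [show g⁻¹ * i * g = g⁻¹ * i * g⁻¹⁻¹ by group, CfsgLib.Invol.orderOf_conj_eq, hi2])
  set s := m' * (g⁻¹ * i * g) * m'⁻¹ with hs
  set y := m * g * m'⁻¹ with hy
  have hys : y * s * y⁻¹ = m * i * m⁻¹ := by rw [hy, hs]; group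
  obtain ⟨n, hn, hns⟩ := burnside S hS hmS' (u := y) (hys ▸ hmS)
  have hs2 : orderOf s = 2 := by
    rw [hs, show m' * (g⁻¹ * i * g) * m'⁻¹ = (m' * g⁻¹) * i * (m' * g⁻¹)⁻¹ by group,
      CfsgLib.Invol.orderOf_conj_eq, hi2]
  have hc : n⁻¹ * y ∈ centralizer ({s} : Set G) := by
    refine mem_centralizer_singleton_iff.2 ?_
    calc n⁻¹ * y * s = n⁻¹ * (y * s * y⁻¹) * y := by group
      _ = n⁻¹ * (n * s * n⁻¹) * y := by rw [hns]
      _ = s * (n⁻¹ * y) := by group
  have hyM : y ∈ M := by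
    have h1 := mul_mem (hN hn) (hC s hmS' hs2 hc)
    rwa [mul_inv_cancel_left] at h1
  apply hg
  have h2 := mul_mem (mul_mem (inv_mem hm) hyM) hm'
  rwa [hy, show m⁻¹ * (m * g * m'⁻¹) * m' = g by group] at h2

namespace Hyp

variable {p : ℕ} (h : Hyp G p)
include h

/-- The subgroup `S` centralises the `p`-groups it normalises together with a fixed-point-free
element. -/
theorem centralizes_pgroup (S : Sylow 2 G) {c : G} {l : ℕ} (hl : l.Prime) (hl2 : l ≠ 2)
    (hc : orderOf c = l) (hcS : c ∈ normalizer ((S : Subgroup G) : Set G))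
    (hfix : ∀ s ∈ (S : Subgroup G), Commute c s → s = 1) {Q : Subgroup G} (hQ : IsPGroup p ↥Q)
    (hcQ : c ∈ normalizer (Q : Set G)) (hSQ : (S : Subgroup G) ≤ normalizer (Q : Set G)) :
    (S : Subgroup G) ≤ centralizer (Q : Set G) := by
  haveI := Fact.mk h.prime
  haveI : Fact (Nat.Prime 2) := ⟨Nat.prime_two⟩
  set N := normalizer (Q : Set G) with hN
  haveI : (Q.subgroupOf N).Normal := (normal_subgroupOf_iff_le_normalizer le_normalizer).2 le_rfl
  have key : ((S : Subgroup G).subgroupOf N) ≤ centralizer ((Q.subgroupOf N : Subgroup ↥N) : Set ↥N) := by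
    refine centralizes h.prime (hQ.comap_of_injective N.subtype N.subtype_injective) ?_ hl
      (c := (⟨c, hcQ⟩ : ↥N)) ?_ ?_ ?_ ?_
    · rw [Nat.card_congr (subgroupOfEquivOfLe le_normalizer).toEquiv,
        Nat.card_congr (subgroupOfEquivOfLe hSQ).toEquiv]
      obtain ⟨a, ha⟩ := IsPGroup.iff_card.1 hQ
      obtain ⟨b, hb⟩ := IsPGroup.iff_card.1 S.2
      rw [ha, hb]
      exact Nat.Coprime.pow a b ((Nat.coprime_primes h.prime Nat.prime_two).2 h.odd)
    · exact Subtype.ext (by simpa [hc] using pow_orderOf_eq_one c)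
    · rw [mem_normalizer_iff]
      intro x
      exact mem_normalizer_iff.1 hcS x
    · intro k hk hck
      exact Subtype.ext (hfix k hk (congrArg Subtype.val hck))
    · intro a ha k hk
      refine Subtype.ext ?_
      set d : ↥N := k * ⟨c, hcQ⟩ * k⁻¹ with hd
      set x : G := (a : G) * (d : G) with hx
      show x ^ l = 1
      have hdl : d ^ l = 1 := by
        rw [hd, conj_pow]
        have : (⟨c, hcQ⟩ : ↥N) ^ l = 1 := Subtype.ext (by simpa [hc] using pow_orderOf_eq_one c)
        rw [this, mul_one, mul_inv_cancel]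
      have hxQ : x ^ l ∈ Q := by
        have h1 : ((QuotientGroup.mk' (Q.subgroupOf N)) (a * d)) ^ l = 1 := by
          rw [map_mul, show QuotientGroup.mk' (Q.subgroupOf N) a = 1 from (QuotientGroup.eq_one_iff a).2 ha,
            one_mul, ← map_pow, hdl, map_one]
        rw [← map_pow] at h1
        exact mem_subgroupOf.1 ((QuotientGroup.eq_one_iff _).1 h1)
      obtain ⟨j, hj⟩ := hQ ⟨_, hxQ⟩
      have hxj : x ^ (l * p ^ j) = 1 := by rw [pow_mul]; exact congrArg Subtype.val hj
      by_cases hlp : l = p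
      · subst hlp
        exact h.pow_p_eq_one (k := j + 1) (by rw [pow_succ']; exact hxj)
      by_cases hpx : p ∣ orderOf x
      · exfalso
        rcases h.pee x hpx with h1 | h1
        · have hxQ' : x ∈ Q := by
            obtain ⟨m, hm⟩ := exists_pow_eq_self_of_coprime (x := x) (n := l)
              (by rw [h1]; exact (Nat.coprime_primes hl h.prime).2 hlp)
            exact hm ▸ pow_mem hxQ m
          have hdQ : (d : G) ∈ Q := by
            have := mul_mem (inv_mem (mem_subgroupOf.1 ha)) hxQ'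
            rwa [hx, inv_mul_cancel_left] at this
          obtain ⟨i, hi⟩ := hQ ⟨_, hdQ⟩
          have hdo : orderOf (d : G) = l := by
            rw [hd, Subgroup.coe_mul, Subgroup.coe_mul, Subgroup.coe_inv,
              CfsgLib.Invol.orderOf_conj_eq, hc]
          have : l ∣ p ^ i := hdo ▸ orderOf_dvd_of_pow_eq_one (congrArg Subtype.val hi)
          exact hlp ((Nat.prime_dvd_prime_iff_eq hl h.prime).1 (hl.dvd_of_dvd_pow this))
        · have h2 : 2 ∣ l * p ^ j := (h1 ▸ dvd_mul_right 2 p).trans (orderOf_dvd_of_pow_eq_one hxj)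
          rcases Nat.prime_two.dvd_mul.1 h2 with h3 | h3
          · exact hl2 ((Nat.prime_dvd_prime_iff_eq Nat.prime_two hl).1 h3).symm
          · exact h.odd ((Nat.prime_dvd_prime_iff_eq Nat.prime_two h.prime).1
              (Nat.prime_two.dvd_of_dvd_pow h3)).symm
      refine orderOf_dvd_iff_pow_eq_one.1 (Nat.Coprime.dvd_of_dvd_mul_right ?_ (orderOf_dvd_of_pow_eq_one hxj))
      exact (h.prime.coprime_iff_not_dvd.2 hpx).symm.pow_right j
  intro s hs
  refine mem_centralizer_iff.2 fun q hq => ?_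
  exact congrArg Subtype.val (mem_centralizer_iff.1 (key (x := ⟨s, hSQ hs⟩) hs)
    ⟨q, le_normalizer hq⟩ hq)

theorem core_centralizer_isPGroup {t : G} {r : ℕ} (hr : r = 2 ∨ r = p) (ht : orderOf t = r)
    {C : Subgroup G} (hC : C ≤ centralizer ({t} : Set G)) : IsPGroup p ↥(core C) :=
  h.isPGroup_of_odd (odd_core C) fun _ hs hd =>
    h.primes_of_le_centralizer hr ht ((core_le C).trans hC) hs hd

end Hyp

end CfsgLib.OneComp
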