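import Cfsg.Agent.OneComp.Cores
import Cfsg.Agent.S0508
import Mathlib.GroupTheory.SpecificGroups.KleinFour
import Mathlib.GroupTheory.FixedPointFree

/-!
# Groups with a single composite element order `2p`: four-group Sylow 2-subgroups with `C(S) = S`
-/

set_option autoImplicit false
set_option linter.style.haveILetI false
set_option linter.unusedSectionVars false

namespace CfsgLib.OneComp

open Subgroup

universe u

variable {G : Type u} [Group G] [Finite G] [IsSimpleGroup G] {p : ℕ} (h : Hyp G p) (S : Sylow 2 G)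
  (hns : ¬ Group.IsSolvable G) (h4 : Nat.card ↥(S : Subgroup G) = 4) (hZ : coreS S = ⊥)

include h hns hZ in
theorem Hyp.odd_eq_one {z : G} (hz : z ∈ centralizer ((S : Subgroup G) : Set G))
    (hodd : Odd (orderOf z)) : z = 1 :=
  (mem_bot (G := G)).1 (hZ ▸ h.mem_coreS S hns hz hodd)

include h hns hZ h4 in
/-- An element normalising `S` and a nontrivial `S`-invariant `p`-group centralises `S`. -/
theorem Hyp.normalizer_inf {D : Subgroup G} (hD : IsPGroup p ↥D) (hne : D ≠ ⊥)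
    (hSD : (S : Subgroup G) ≤ normalizer (D : Set G)) :
    normalizer (D : Set G) ⊓ normalizer ((S : Subgroup G) : Set G) ≤
      centralizer ((S : Subgroup G) : Set G) := by
  haveI : Fact (Nat.Prime 2) := ⟨Nat.prime_two⟩
  haveI := Fact.mk h.prime
  rintro x ⟨hxD, hxS⟩
  by_contra hxC
  have hSC := h.sylow_le_centralizer_self S
  obtain ⟨d, r, hr, hr2, hd, hdD, hdS, hdC⟩ : ∃ d r, r.Prime ∧ r ≠ 2 ∧ orderOf d = r ∧
      d ∈ normalizer (D : Set G) ∧ d ∈ normalizer ((S : Subgroup G) : Set G) ∧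
      d ∉ centralizer ((S : Subgroup G) : Set G) := by
    obtain ⟨j, hj, hj2, hjC⟩ := h.exists_prime_pow S hxS hxC
    exact ⟨x ^ j, _, hj, hj2, rfl, pow_mem hxD j, pow_mem hxS j, hjC⟩
  have hm := h.mover_four S h4 hr hr2 hd hdS hdC
  have hSD' := h.centralizes_pgroup S hm.prime hm.ne_two hm.order hm.mem hm.fix hD hdD hSD
  obtain ⟨y, hy, hy1⟩ := (Subgroup.bot_or_exists_ne_one _).resolve_left hne
  refine hy1 (h.odd_eq_one S hns hZ (le_centralizer_iff.1 hSD' hy) ?_)
  obtain ⟨k, hk⟩ := hD ⟨y, hy⟩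
  exact (h.prime.odd_of_ne_two h.odd).pow.of_dvd_nat (orderOf_dvd_of_pow_eq_one (congrArg Subtype.val hk))

include h h4 in
/-- Two involutions of `S` generate it. -/
theorem Hyp.le_centralizer_of_two {s t : G} (hs : s ∈ (S : Subgroup G)) (ht : t ∈ (S : Subgroup G))
    (hs1 : s ≠ 1) (ht1 : t ≠ 1) (hst : s ≠ t) {X : Subgroup G} (hsX : s ∈ X) (htX : t ∈ X) :
    (S : Subgroup G) ≤ X := by
  intro a ha
  by_contra haX
  have hst1 : s * t ≠ 1 := fun e => hst (by
    rw [mul_eq_one_iff_eq_inv.1 e]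
    exact (inv_eq_of_mul_eq_one_left (by rw [← sq]; exact h.sylow_exp S ht)))
  have hsub : ({1, s, t, s * t, a} : Set G) ⊆ ((S : Subgroup G) : Set G) := by
    rintro z (rfl | rfl | rfl | rfl | rfl)
    exacts [one_mem _, hs, ht, mul_mem hs ht, ha]
  have a1 : a ≠ 1 := fun e => haX (e ▸ one_mem _)
  have as : a ≠ s := fun e => haX (e ▸ hsX)
  have att : a ≠ t := fun e => haX (e ▸ htX)
  have ast : a ≠ s * t := fun e => haX (e ▸ mul_mem hsX htX)
  have h3 := Set.ncard_le_ncard hsub (Set.toFinite _)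
  rw [Set.ncard_insert_of_notMem (by simp [Ne.symm hs1, Ne.symm ht1, Ne.symm hst1, Ne.symm a1]) (Set.toFinite _),
    Set.ncard_insert_of_notMem (by simp [hst, ht1, Ne.symm as]) (Set.toFinite _),
    Set.ncard_insert_of_notMem (by simp [hs1, Ne.symm att]) (Set.toFinite _),
    Set.ncard_pair (Ne.symm ast), ← Nat.card_coe_set_eq, SetLike.coe_sort_coe, h4] at h3
  omega

include h hns hZ h4 in
/-- The `p`-elements of the normaliser of a nontrivial invariant `p`-group form an invariant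
`p`-group. -/
theorem Hyp.exists_local_pgroup {D : Subgroup G} (hD : IsPGroup p ↥D) (hne : D ≠ ⊥)
    (hSD : (S : Subgroup G) ≤ normalizer (D : Set G)) :
    ∃ K : Subgroup G, IsPGroup p ↥K ∧ (S : Subgroup G) ≤ normalizer (K : Set G) ∧
      K ≤ normalizer (D : Set G) ∧ (∀ x ∈ normalizer (D : Set G), Odd (orderOf x) → x ∈ K) ∧
      normalizer (D : Set G) ≤ K ⊔ (S : Subgroup G) := by
  haveI : Fact (Nat.Prime 2) := ⟨Nat.prime_two⟩
  set X := normalizer (D : Set G) with hX
  let T : Sylow 2 ↥X := S.subtype hSD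
  have hle : normalizer ((T : Subgroup ↥X) : Set ↥X) ≤ centralizer ((T : Subgroup ↥X) : Set ↥X) := by
    intro x hx
    refine mem_centralizer_iff.2 fun s hs => Subtype.ext ?_
    have hxS : (x : G) ∈ normalizer ((S : Subgroup G) : Set G) := by
      refine CfsgLib.Signalizer.le_normalizer_of_conj_mem (A := zpowers (x : G)) ?_ (mem_zpowers _)
      rintro b hb s hs
      obtain ⟨k, rfl⟩ := mem_zpowers_iff.1 hb
      have := (mem_normalizer_iff.1 (zpow_mem hx k) ⟨s, hSD hs⟩).1 hs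
      exact this
    exact mem_centralizer_iff.1 (h.normalizer_inf S hns h4 hZ hD hne hSD ⟨x.2, hxS⟩) (s : G) hs
  set f := MonoidHom.transferSylow T hle
  have hc : IsComplement' f.ker (T : Subgroup ↥X) := MonoidHom.ker_transferSylow_isComplement' T hle
  have hodd : Odd (Nat.card ↥f.ker) := by
    rw [← Nat.not_even_iff_odd, even_iff_two_dvd]
    exact hc.index_eq_card ▸ T.not_dvd_index
  clear_value f
  refine ⟨f.ker.map X.subtype, h.isPGroup_of_normalized S (by omega) ?_ ?_, ?_, map_subtype_le _, ?_, ?_⟩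
  · rwa [card_map_of_injective X.subtype_injective]
  · intro s hs
    refine CfsgLib.Signalizer.le_normalizer_of_conj_mem (A := (S : Subgroup G)) ?_ hs
    rintro b hb _ ⟨k, hk, rfl⟩
    exact ⟨⟨b, hSD hb⟩ * k * ⟨b, hSD hb⟩⁻¹, (MonoidHom.normal_ker f).conj_mem k hk _, rfl⟩
  · intro s hs
    refine CfsgLib.Signalizer.le_normalizer_of_conj_mem (A := (S : Subgroup G)) ?_ hs
    rintro b hb _ ⟨k, hk, rfl⟩
    exact ⟨⟨b, hSD hb⟩ * k * ⟨b, hSD hb⟩⁻¹, (MonoidHom.normal_ker f).conj_mem k hk _, rfl⟩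
  · intro x hx hodd'
    refine ⟨⟨x, hx⟩, ?_, rfl⟩
    refine orderOf_eq_one_iff.1 ?_
    obtain ⟨k, hk⟩ := T.2 (f ⟨x, hx⟩)
    refine Nat.eq_one_of_dvd_coprimes ((Nat.coprime_two_right.2 hodd').pow_right k)
      ((orderOf_map_dvd f _).trans (by rw [← orderOf_coe])) (orderOf_dvd_of_pow_eq_one hk)
  · intro x hx
    obtain ⟨⟨⟨k, hk⟩, ⟨s, hs⟩⟩, hks⟩ := hc.2 ⟨x, hx⟩
    have e : (k : G) * (s : G) = x := congrArg Subtype.val hks
    rw [← e]
    exact mul_mem (mem_sup_left ⟨k, hk, rfl⟩) (mem_sup_right hs)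

/-- An `S`-invariant `p`-group not contained in a larger one. -/
def MaxInv (S : Sylow 2 G) (p : ℕ) (P : Subgroup G) : Prop :=
  Maximal (fun Q : Subgroup G => IsPGroup p ↥Q ∧ (S : Subgroup G) ≤ normalizer (Q : Set G)) P

theorem le_normalizer_inf {A X Y : Subgroup G} (hX : A ≤ normalizer (X : Set G))
    (hY : A ≤ normalizer (Y : Set G)) : A ≤ normalizer ((X ⊓ Y : Subgroup G) : Set G) :=
  CfsgLib.Signalizer.le_normalizer_of_conj_mem fun b hb _ hu =>
    ⟨CfsgLib.Signalizer.conj_mem_of_le_normalizer hX b hb _ hu.1,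
      CfsgLib.Signalizer.conj_mem_of_le_normalizer hY b hb _ hu.2⟩

theorem le_normalizer_normalizer {A X : Subgroup G} (hX : A ≤ normalizer (X : Set G)) :
    A ≤ normalizer (normalizer (X : Set G) : Set G) :=
  hX.trans le_normalizer

include h hns hZ h4 in
theorem Hyp.maxInv_unique {P Q : Subgroup G} (hP : MaxInv S p P) (hQ : MaxInv S p Q) (hne : P ⊓ Q ≠ ⊥) :
    P = Q := by
  classical
  haveI := Fact.mk h.prime
  by_contra hPQ
  obtain ⟨D, ⟨P, Q, hP, hQ, hPQ, hne, rfl⟩, hmax⟩ := Set.Finite.exists_maximalFor id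
    {D : Subgroup G | ∃ P Q, MaxInv S p P ∧ MaxInv S p Q ∧ P ≠ Q ∧ P ⊓ Q ≠ ⊥ ∧ D = P ⊓ Q}
    (Set.toFinite _) ⟨_, P, Q, hP, hQ, hPQ, hne, rfl⟩
  set D := P ⊓ Q with hD
  obtain ⟨K, hK, hSK, -, hKmem, -⟩ := h.exists_local_pgroup S hns h4 hZ (hP.1.1.to_le inf_le_left) hne
    (le_normalizer_inf hP.1.2 hQ.1.2)
  obtain ⟨T, hKT, hT⟩ := exists_maximal_ge_of_wellFoundedGT
    (fun Q : Subgroup G => IsPGroup p ↥Q ∧ (S : Subgroup G) ≤ normalizer (Q : Set G)) K ⟨hK, hSK⟩
  have key : ∀ A : Subgroup G, MaxInv S p A → D < A → A = T := fun A hA hlt => by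
    by_contra hAT
    have h1 := CfsgLib.Fusion.lt_inf_normalizer hA.1.1 hlt
    have h2 : A ⊓ normalizer (D : Set G) ≤ A ⊓ T := fun x hx => ⟨hx.1, hKT (hKmem x hx.2 (by
      obtain ⟨k, hk⟩ := hA.1.1 ⟨x, hx.1⟩
      exact (h.prime.odd_of_ne_two h.odd).pow.of_dvd_nat
        (orderOf_dvd_of_pow_eq_one (congrArg Subtype.val hk))))⟩
    exact (h1.trans_le h2).not_ge (hmax ⟨A, T, hA, hT, hAT,
      ne_bot_of_gt (bot_lt_iff_ne_bot.2 hne |>.trans (h1.trans_le h2)), rfl⟩ (h1.trans_le h2).le)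
  have hDP : D < P := lt_of_le_of_ne inf_le_left fun e => hPQ
    (le_antisymm (inf_eq_left.1 e) (hP.2 hQ.1 (inf_eq_left.1 e)))
  have hDQ : D < Q := lt_of_le_of_ne inf_le_right fun e => hPQ
    (le_antisymm (hQ.2 hP.1 (inf_eq_right.1 e)) (inf_eq_right.1 e))
  exact hPQ ((key P hP hDP).trans (key Q hQ hDQ).symm)

include h hns hZ h4 in
theorem Hyp.normalizer_inf_centralizer {t : G} (ht : t ∈ (S : Subgroup G)) (ht2 : orderOf t = 2) :
    centralizer ({t} : Set G) ⊓ normalizer ((S : Subgroup G) : Set G) ≤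
      centralizer ((S : Subgroup G) : Set G) := by
  haveI : Fact (Nat.Prime 2) := ⟨Nat.prime_two⟩
  rintro x ⟨hxt, hxS⟩
  by_contra hxC
  have hSC := h.sylow_le_centralizer_self S
  obtain ⟨j, hj, hj2, hjC⟩ := h.exists_prime_pow S hxS hxC
  exact CfsgLib.Invol.ne_one ht2 ((h.mover_four S h4 hj hj2 rfl (pow_mem hxS j) hjC).fix t ht
    ((show Commute x t from mem_centralizer_singleton_iff.1 hxt).pow_left j))

include h hns hZ h4 in
/-- The odd elements of the centraliser of an involution lie in its core. -/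
theorem Hyp.odd_mem_core {t x : G} (ht : t ∈ (S : Subgroup G)) (ht2 : orderOf t = 2)
    (hx : x ∈ centralizer ({t} : Set G)) (hodd : Odd (orderOf x)) :
    x ∈ core (centralizer ({t} : Set G)) := by
  haveI := h.solvable_centralizer ht2
  set C := centralizer ({t} : Set G) with hC
  obtain ⟨o, ho, n, hnC, hn, rfl⟩ := exists_core_mul S (h.sylow_comm S) (h.sylow_le_centralizer S ht) hx
  -- `n` centralises `S` and is congruent to `x` modulo the core
  refine mul_mem ho ?_
  haveI : (Cfsg.oddCore ↥C).Normal := Cfsg.pPrimeCore_normal 2 ↥C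
  set O := Cfsg.oddCore ↥C
  obtain ⟨o', ho', rfl⟩ := ho
  have hnS := h.normalizer_inf_centralizer S hns h4 hZ ht ht2 ⟨hnC, hn⟩
  have hn2 : n ^ 2 = 1 := by
    rcases h.ord_of_commute (Or.inl rfl) ht2
      ((show Commute n t from mem_centralizer_singleton_iff.1 hnC).symm) with h1 | h1 | h1 | h1
    · rw [h1, one_pow]
    · rw [← h1, pow_orderOf_eq_one]
    · rw [h.odd_eq_one S hns hZ hnS (h1 ▸ h.prime.odd_of_ne_two h.odd), one_pow]
    · exact h.odd_eq_one S hns hZ (pow_mem hnS 2) (by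
        rw [orderOf_pow' n (by norm_num), h1, Nat.gcd_eq_right (dvd_mul_right 2 p),
          Nat.mul_div_cancel_left p (by norm_num)]
        exact h.prime.odd_of_ne_two h.odd)
  refine ⟨⟨n, hnC⟩, (QuotientGroup.eq_one_iff _).1 (orderOf_eq_one_iff.1 (Nat.eq_one_of_dvd_coprimes
    (Nat.coprime_two_right.2 hodd) ?_ ?_)), rfl⟩
  · have e : QuotientGroup.mk' O ⟨n, hnC⟩ = QuotientGroup.mk' O (o' * ⟨n, hnC⟩) := by
      rw [map_mul, show QuotientGroup.mk' O o' = 1 from (QuotientGroup.eq_one_iff _).2 ho', one_mul]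
    exact (dvd_of_eq (congrArg orderOf e)).trans ((orderOf_map_dvd _ _).trans (by rw [← orderOf_coe]; rfl))
  · exact (orderOf_map_dvd (QuotientGroup.mk' O) _).trans
      (orderOf_dvd_of_pow_eq_one (Subtype.ext hn2))

include h hns hZ h4 in
theorem Hyp.core_inverted {t s : G} (ht : t ∈ (S : Subgroup G)) (ht2 : orderOf t = 2)
    (hs : s ∈ (S : Subgroup G)) (hs1 : s ≠ 1) (hst : s ≠ t) :
    ∀ y ∈ core (centralizer ({t} : Set G)), s * y * s⁻¹ = y⁻¹ := by
  set R := core (centralizer ({t} : Set G)) with hR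
  have hsR : s ∈ normalizer (R : Set G) := le_normalizer_core _ (h.sylow_le_centralizer S ht hs)
  let φ : ↥R →* ↥R := ((MulAut.conj s).toMonoidHom.comp R.subtype).codRestrict R fun y =>
    (mem_normalizer_iff.1 hsR y).1 y.2
  have hφ : ∀ y, ((φ y : ↥R) : G) = s * y * s⁻¹ := fun _ => rfl
  have hfix : MonoidHom.FixedPointFree φ := fun y hy => by
    refine Subtype.ext (h.odd_eq_one S hns hZ ?_ ((odd_core _).of_dvd_nat (orderOf_dvd_natCard _ y.2)))
    refine mem_centralizer_iff.2 fun a ha => ?_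
    have h1 : (S : Subgroup G) ≤ centralizer ({(y : G)} : Set G) := h.le_centralizer_of_two S h4 hs ht hs1
      (CfsgLib.Invol.ne_one ht2) hst
      (mem_centralizer_singleton_iff.2 (mul_inv_eq_iff_eq_mul.1 (by rw [← hφ, hy])))
      (mem_centralizer_singleton_iff.2 (mem_centralizer_singleton_iff.1 (core_le _ y.2)).symm)
    exact mem_centralizer_singleton_iff.1 (h1 ha)
  have hinv : Function.Involutive φ := fun y => Subtype.ext (by
    rw [hφ, hφ, show s * (s * (y : G) * s⁻¹) * s⁻¹ = (s * s) * y * (s * s)⁻¹ by group,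
      ← sq, h.sylow_exp S hs]
    group)
  intro y hy
  have := congrFun (hfix.coe_eq_inv_of_involutive hinv) ⟨y, hy⟩
  exact congrArg Subtype.val this

include h hns hZ h4 in
theorem Hyp.core_maxInv {t : G} (ht : t ∈ (S : Subgroup G)) (ht2 : orderOf t = 2)
    (hne : core (centralizer ({t} : Set G)) ≠ ⊥) : MaxInv S p (core (centralizer ({t} : Set G))) := by
  haveI := Fact.mk h.prime
  haveI : Fact (Nat.Prime 2) := ⟨Nat.prime_two⟩
  set R := core (centralizer ({t} : Set G)) with hR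
  have hR1 : IsPGroup p ↥R ∧ (S : Subgroup G) ≤ normalizer (R : Set G) :=
    ⟨h.core_centralizer_isPGroup (Or.inl rfl) ht2 le_rfl,
      (h.sylow_le_centralizer S ht).trans (le_normalizer_core _)⟩
  obtain ⟨P, hRP, hP⟩ := exists_maximal_ge_of_wellFoundedGT
    (fun Q : Subgroup G => IsPGroup p ↥Q ∧ (S : Subgroup G) ≤ normalizer (Q : Set G)) R hR1
  suffices P ≤ R by rwa [show R = P from le_antisymm hRP this]
  have hodd : ∀ x ∈ P, Odd (orderOf x) := fun x hx => by
    obtain ⟨k, hk⟩ := hP.1.1 ⟨x, hx⟩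
    exact (h.prime.odd_of_ne_two h.odd).pow.of_dvd_nat (orderOf_dvd_of_pow_eq_one (congrArg Subtype.val hk))
  refine le_of_fixed (h.sylow_elementary S) (by omega) hP.1.2 ?_ fun e he he2 => ?_
  · obtain ⟨n, hn⟩ := IsPGroup.iff_card.1 hP.1.1
    exact hn ▸ (h.prime.odd_of_ne_two h.odd).pow
  by_cases het : e = t
  · subst het
    exact fun x hx => h.odd_mem_core S hns h4 hZ ht ht2 hx.2 (hodd x hx.1)
  rintro x ⟨hx, hxe⟩
  by_contra hxR
  have hx1 : x ≠ 1 := fun e => hxR (e ▸ one_mem _)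
  set U := core (centralizer ({e} : Set G)) with hU
  have hxU : x ∈ U := h.odd_mem_core S hns h4 hZ he he2 hxe (hodd x hx)
  obtain ⟨Q, hUQ, hQ⟩ := exists_maximal_ge_of_wellFoundedGT
    (fun Q : Subgroup G => IsPGroup p ↥Q ∧ (S : Subgroup G) ≤ normalizer (Q : Set G)) U
    ⟨h.core_centralizer_isPGroup (Or.inl rfl) he2 le_rfl,
      (h.sylow_le_centralizer S he).trans (le_normalizer_core _)⟩
  have hPQ : P = Q := h.maxInv_unique S hns h4 hZ hP hQ fun e0 =>
    hx1 ((mem_bot (G := G)).1 (e0 ▸ (⟨hx, hUQ hxU⟩ : x ∈ P ⊓ Q)))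
  -- an element of `N(S)` moving `t` to `e`
  obtain ⟨c, l, hc⟩ := h.exists_mover_four S hns h4
  obtain ⟨g, hgS, hgt⟩ : ∃ g ∈ normalizer ((S : Subgroup G) : Set G), g * t * g⁻¹ = e := by
    have hcm : ∀ a ∈ (S : Subgroup G), c * a * c⁻¹ ∈ (S : Subgroup G) := fun a ha =>
      (mem_normalizer_iff.1 hc.mem a).1 ha
    have hne1 : c * t * c⁻¹ ≠ t := fun e1 =>
      CfsgLib.Invol.ne_one ht2 (hc.fix t ht (mul_inv_eq_iff_eq_mul.1 e1))
    by_cases hb : c * t * c⁻¹ = e
    · exact ⟨c, hc.mem, hb⟩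
    refine ⟨c ^ 2, pow_mem hc.mem 2, ?_⟩
    set b := c * t * c⁻¹ with hbdef
    set a := c * b * c⁻¹ with hadef
    have hae : c ^ 2 * t * (c ^ 2)⁻¹ = a := by rw [hadef, hbdef, sq]; group
    rw [hae]
    have ha2 : orderOf a = 2 := by rw [hadef, CfsgLib.Invol.orderOf_conj_eq, hbdef, CfsgLib.Invol.orderOf_conj_eq, ht2]
    have hb2 : orderOf b = 2 := by rw [hbdef, CfsgLib.Invol.orderOf_conj_eq, ht2]
    have haS : a ∈ (S : Subgroup G) := hcm b (hcm t ht)
    have hab : a ≠ b := fun e1 => CfsgLib.Invol.ne_one hb2 (hc.fix b (hcm t ht) (mul_inv_eq_iff_eq_mul.1 e1))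
    have hat : a ≠ t := fun e1 => by
      have hsq : Commute (c ^ 2) t := mul_inv_eq_iff_eq_mul.1 (hae.trans e1)
      obtain ⟨j, hj⟩ := hc.prime.odd_of_ne_two hc.ne_two
      refine CfsgLib.Invol.ne_one ht2 (hc.fix t ht ?_)
      have e2 : c = ((c ^ 2) ^ j)⁻¹ := by
        rw [eq_inv_iff_mul_eq_one, ← pow_mul, ← pow_succ', ← hj, ← hc.order, pow_orderOf_eq_one]
      rw [e2]
      exact (hsq.pow_left j).inv_left
    by_contra hne2
    have hsub : ({1, t, b, a, e} : Set G) ⊆ ((S : Subgroup G) : Set G) := by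
      rintro z (rfl | rfl | rfl | rfl | rfl)
      exacts [one_mem _, ht, hcm t ht, haS, he]
    have h3 := Set.ncard_le_ncard hsub (Set.toFinite _)
    rw [Set.ncard_insert_of_notMem (by simp [(CfsgLib.Invol.ne_one ht2).symm, (CfsgLib.Invol.ne_one hb2).symm,
        (CfsgLib.Invol.ne_one ha2).symm, (CfsgLib.Invol.ne_one he2).symm]) (Set.toFinite _),
      Set.ncard_insert_of_notMem (by simp [Ne.symm hne1, Ne.symm hat, Ne.symm het]) (Set.toFinite _),
      Set.ncard_insert_of_notMem (by simp [Ne.symm hab, hb]) (Set.toFinite _),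
      Set.ncard_pair hne2, ← Nat.card_coe_set_eq, SetLike.coe_sort_coe, h4] at h3
    omega
  -- `g` normalises `P`
  have hPne : P ≠ ⊥ := fun e0 => hne (le_bot_iff.1 (e0 ▸ hRP))
  set P' := P.map (MulAut.conj g).toMonoidHom with hP'
  have hgS' : ∀ a ∈ (S : Subgroup G), g⁻¹ * a * g ∈ (S : Subgroup G) := fun a ha =>
    (mem_normalizer_iff''.1 hgS a).1 ha
  have hP'1 : IsPGroup p ↥P' ∧ (S : Subgroup G) ≤ normalizer (P' : Set G) := by
    refine ⟨hP.1.1.map _, CfsgLib.Signalizer.le_normalizer_of_conj_mem ?_⟩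
    rintro b hb _ ⟨y, hy, rfl⟩
    refine ⟨(g⁻¹ * b * g) * y * (g⁻¹ * b * g)⁻¹, (mem_normalizer_iff.1 (hP.1.2 (hgS' b hb)) y).1 hy, ?_⟩
    simp only [MulEquiv.coe_toMonoidHom, MulAut.conj_apply]
    group
  obtain ⟨T, hT', hT⟩ := exists_maximal_ge_of_wellFoundedGT
    (fun Q : Subgroup G => IsPGroup p ↥Q ∧ (S : Subgroup G) ≤ normalizer (Q : Set G)) P' hP'1
  obtain ⟨y, hy, hy1⟩ := (Subgroup.bot_or_exists_ne_one _).resolve_left hne
  have hgy : g * y * g⁻¹ ∈ Q := hUQ (h.odd_mem_core S hns h4 hZ he he2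
    (mem_centralizer_singleton_iff.2 (by
      rw [← hgt]
      have := mem_centralizer_singleton_iff.1 (core_le _ hy)
      calc g * y * g⁻¹ * (g * t * g⁻¹) = g * (y * t) * g⁻¹ := by group
        _ = g * (t * y) * g⁻¹ := by rw [this]
        _ = _ := by group))
    (by rw [CfsgLib.Invol.orderOf_conj_eq]; exact hodd y (hRP hy)))
  have hgyT : g * y * g⁻¹ ∈ T ⊓ P := mem_inf.2 ⟨hT' ⟨y, hRP hy, rfl⟩, hPQ ▸ hgy⟩
  have hTP : T = P := h.maxInv_unique S hns h4 hZ hT hP fun e0 => hy1 (conj_eq_one_iff.1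
    ((mem_bot (G := G)).1 (e0 ▸ hgyT)))
  have hgP : g ∈ normalizer (P : Set G) := mem_normalizer_iff_map_conj_eq.2 (eq_of_le_of_card_ge (hT'.trans hTP.le)
    (Nat.card_congr (P.equivMapOfInjective _ (MulAut.conj g).injective).toEquiv).le)
  have hgC := h.normalizer_inf S hns h4 hZ hP.1.1 hPne hP.1.2 ⟨hgP, hgS⟩
  refine het ?_
  rw [← hgt, (mem_centralizer_iff.1 hgC t ht).symm, mul_inv_cancel_right]

include h hns hZ h4 in
/-- A four-group Sylow 2-subgroup with `C(S) = S` leads to `PSL₂(q)`. -/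
theorem Hyp.psl_of_four :
    ∃ (F : Type) (_ : Field F) (_ : Fintype F), Odd (Fintype.card F) ∧
      Nonempty (G ≃* Matrix.ProjectiveSpecialLinearGroup (Fin 2) F) := by
  haveI : Fact (Nat.Prime 2) := ⟨Nat.prime_two⟩
  haveI := Fact.mk h.prime
  obtain ⟨t, ht, ht2⟩ := h.exists_invol S hns
  have hK : IsKleinFour ↥(S : Subgroup G) := ⟨h4, by
    refine (Nat.dvd_prime Nat.prime_two).1 (Monoid.exponent_dvd_of_forall_pow_eq_one
      fun s => Subtype.ext (h.sylow_exp S s.2)) |>.resolve_left fun e => ?_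
    rw [Monoid.exp_eq_one_iff] at e
    exact CfsgLib.Invol.ne_one ht2 (congrArg Subtype.val (e.elim ⟨t, ht⟩ 1))⟩
  haveI := hK
  set R := core (centralizer ({t} : Set G)) with hR
  have htR : t ∈ centralizer (R : Set G) := mem_centralizer_iff.2 fun y hy =>
    mem_centralizer_singleton_iff.1 (core_le _ hy)
  refine Cfsg.Agent.S0508.result S 2 le_rfl IsKleinFour.nonempty_mulEquiv t ht2 ht
    (fun s hs => CfsgLib.Signalizer.commute (h.sylow_elementary S) hs ht) R rfl ?_ ?_ ?_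
  · intro hne
    have heq : (S : Subgroup G) ⊓ centralizer (R : Set G) = zpowers t := by
      refine le_antisymm (fun s hs => ?_) (le_inf (zpowers_le.2 ht) (zpowers_le.2 htR))
      by_cases hst : s = t
      · exact hst ▸ mem_zpowers t
      by_cases hs1 : s = 1
      · exact hs1 ▸ one_mem _
      exfalso
      have hS : (S : Subgroup G) ≤ centralizer (R : Set G) :=
        h.le_centralizer_of_two S h4 hs.1 ht hs1 (CfsgLib.Invol.ne_one ht2) hst hs.2 htR
      obtain ⟨y, hy, hy1⟩ := (Subgroup.bot_or_exists_ne_one _).resolve_left hne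
      exact hy1 (h.odd_eq_one S hns hZ (le_centralizer_iff.1 hS hy)
        ((odd_core _).of_dvd_nat (orderOf_dvd_natCard _ hy)))
    rw [heq]
    refine ⟨inferInstance, ?_⟩
    have := Subgroup.card_mul_index ((zpowers t).subgroupOf (S : Subgroup G))
    rw [Nat.card_congr (subgroupOfEquivOfLe (zpowers_le.2 ht)).toEquiv, Nat.card_zpowers, ht2, h4] at this
    show ((zpowers t).subgroupOf (S : Subgroup G)).index = 2
    omega
  · intro s hs hsR y hy
    exact h.core_inverted S hns h4 hZ ht ht2 hs (fun e => hsR (e ▸ one_mem _)) (fun e => hsR (e ▸ htR)) y hy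
  · intro Y hYR hY
    have hne : R ≠ ⊥ := fun e => hY (le_bot_iff.1 (e ▸ hYR))
    have hRmax := h.core_maxInv S hns h4 hZ ht ht2 hne
    have hcomm : ∀ a ∈ R, ∀ b ∈ R, a * b = b * a := by
      intro a ha b hb
      obtain ⟨s, hs, hs1, hst⟩ : ∃ s ∈ (S : Subgroup G), s ≠ 1 ∧ s ≠ t := by
        by_contra hall
        push Not at hall
        have hle : (S : Subgroup G) ≤ zpowers t := fun s hs => by
          by_cases hs1 : s = 1
          · exact hs1 ▸ one_mem _
          · exact hall s hs hs1 ▸ mem_zpowers t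
        have := card_dvd_of_le hle
        rw [Nat.card_zpowers, ht2, h4] at this
        omega
      have hi := h.core_inverted S hns h4 hZ ht ht2 hs hs1 hst
      have h1 := hi (a * b) (mul_mem ha hb)
      rw [show s * (a * b) * s⁻¹ = (s * a * s⁻¹) * (s * b * s⁻¹) by group, hi a ha, hi b hb, ← mul_inv_rev,
        inv_inj] at h1
      exact h1.symm
    have hYp : IsPGroup p ↥Y := hRmax.1.1.to_le hYR
    have hSY : (S : Subgroup G) ≤ normalizer (Y : Set G) := by
      refine CfsgLib.Signalizer.le_normalizer_of_conj_mem fun s hs y hy => ?_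
      by_cases hs1 : s = 1
      · simpa [hs1] using hy
      by_cases hst : s = t
      · rw [hst, ← mem_centralizer_singleton_iff.1 (core_le _ (hYR hy)), mul_inv_cancel_right]
        exact hy
      · rw [h.core_inverted S hns h4 hZ ht ht2 hs hs1 hst y (hYR hy)]
        exact inv_mem hy
    obtain ⟨K, hK, hSK, -, hKmem, hKsup⟩ := h.exists_local_pgroup S hns h4 hZ hYp hY hSY
    have hRK : R ≤ K := fun r hr => hKmem r
      (mem_normalizer_iff.2 fun y => by
        constructor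
        · intro hy
          rwa [hcomm r hr y (hYR hy), mul_inv_cancel_right]
        · intro hy
          have hy' : y ∈ R := by
            have := mul_mem (mul_mem (inv_mem hr) (hYR hy)) hr
            rwa [show r⁻¹ * (r * y * r⁻¹) * r = y by group] at this
          rwa [hcomm r hr y hy', mul_inv_cancel_right] at hy)
      ((odd_core _).of_dvd_nat (orderOf_dvd_natCard _ hr))
    refine hKsup.trans (sup_le ((hRmax.2 ⟨hK, hSK⟩ hRK).trans (core_le _)) (h.sylow_le_centralizer S ht))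

end CfsgLib.OneComp
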