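import Cfsg.Agent.OneComp.Count
import Cfsg.Agent.OneComp.Wall
import Cfsg.Agent.SmallSimple.ThirtySixForty.Main
import Cfsg.Agent.S3370

/-!
# Simple groups with a single composite element order `2p`
-/

set_option autoImplicit false
set_option linter.style.haveILetI false
set_option linter.unusedSectionVars false

namespace CfsgLib.OneComp

open Subgroup

universe u

variable {G : Type u} [Group G] [Finite G] [IsSimpleGroup G] {p : ℕ} (h : Hyp G p)
  (hns : ¬ Group.IsSolvable G) (S : Sylow 2 G)
  (hC : ∀ t ∈ (S : Subgroup G), orderOf t = 2 →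
    centralizer ({t} : Set G) ≤ normalizer ((S : Subgroup G) : Set G))
  {l n : ℕ} {c b t : G} (D : FrobData S p l n c b t)

include h hns hC D in
theorem FrobData.false : False := by
  classical
  haveI : Fact (Nat.Prime 2) := ⟨Nat.prime_two⟩
  obtain ⟨rfl, rfl, rfl⟩ := D.arith h hns S hC
  haveI : Fact (Nat.Prime 7) := ⟨by norm_num⟩
  set M := normalizer ((S : Subgroup G) : Set G) with hM
  set N := normalizer (zpowers c : Set G) with hN
  set C := centralizer (zpowers c : Set G) with hCdef
  obtain ⟨F, hF, hidx⟩ := D.index_eq h hns S hC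
  have hG : Nat.card G = M.index * 168 := by
    rw [← M.card_mul_index, D.card_N, mul_comm]
  have hcC : c ∈ C := mem_centralizer_iff.2 fun z hz => by
    obtain ⟨i, rfl⟩ := mem_zpowers_iff.1 hz
    exact ((Commute.refl c).zpow_left i).eq
  obtain ⟨x, hx⟩ := (D.c_order ▸ orderOf_dvd_natCard C hcC : 7 ∣ Nat.card ↥C)
  have hF2 : F = 2 * x := by
    rw [hx] at hF; omega
  have hx0 : 0 < x := Nat.pos_of_ne_zero fun e => by
    rw [e, mul_zero] at hx
    exact Nat.card_pos.ne' hx
  have hi' : M.index + 7 = 16 * x := by rw [hidx, hF2]; omega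
  have hx7 : x ∣ 7 := by
    have hco := D.cent_coprime h S
    have hd : 7 * x ∣ M.index * 168 := hx ▸ hG ▸ card_subgroup_dvd_card C
    have hd' : x ∣ M.index * 24 := by
      have : 7 * x ∣ 7 * (M.index * 24) := by rwa [show 7 * (M.index * 24) = M.index * 168 by ring]
      exact Nat.dvd_of_mul_dvd_mul_left (by norm_num) this
    have h168 : x ∣ 168 := by
      have h1 : x ∣ (M.index + 7) * 24 := hi' ▸ dvd_mul_of_dvd_left (dvd_mul_left x 16) 24
      rw [add_mul] at h1
      exact (Nat.dvd_add_right hd').1 h1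
    refine Nat.Coprime.dvd_of_dvd_mul_left ?_ (show x ∣ 24 * 7 from h168)
    have hxC : x ∣ Nat.card ↥C := hx ▸ dvd_mul_left x 7
    have h2 : x.Coprime 2 := (Nat.coprime_two_right.2 hco.1).coprime_dvd_left hxC
    have h3 : x.Coprime 3 := ((Nat.prime_three.coprime_iff_not_dvd.2 hco.2).symm).coprime_dvd_left hxC
    exact (h2.pow_right 3).mul_right h3
  obtain ⟨a', rfl, ha'⟩ : ∃ a', x = 7 ^ a' ∧ a' ≤ 1 := by
    rcases (Nat.dvd_prime (by norm_num)).1 hx7 with e | e
    · exact ⟨0, e, zero_le_one⟩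
    · exact ⟨1, e, le_rfl⟩
  rcases Nat.lt_or_ge a' 1 with h0 | h0
  · -- order 1512
    have : a' = 0 := by omega
    subst this
    have hi : M.index = 9 := by rw [hidx, hF2]; norm_num
    have hnc : ¬ IsMulCommutative G := fun hc => hns <| by
      letI : CommGroup G := { (inferInstance : Group G) with mul_comm := hc.is_comm.comm }
      infer_instance
    have h6 := CfsgLib.ThirtySixForty.card_mem_of_lt hnc (by rw [hG, hi]; norm_num)
    rw [hG, hi] at h6
    norm_num at h6
  · -- order 17640
    have : a' = 1 := by omega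
    subst this
    have hi : M.index = 105 := by rw [hidx, hF2]; norm_num
    have hC49 : Nat.card ↥C = 49 := by rw [hx]; norm_num
    have hCp : IsPGroup 7 ↥C := IsPGroup.of_card (n := 2) (by rw [hC49]; norm_num)
    have hCidx : ¬ 7 ∣ C.index := by
      have h2 := C.card_mul_index
      rw [hC49, hG, hi] at h2
      omega
    let P : Sylow 7 G := hCp.toSylow hCidx
    set NC := normalizer (C : Set G) with hNC
    have hNle : N ≤ NC := by
      refine CfsgLib.Signalizer.le_normalizer_of_conj_mem fun g hg x hx => mem_centralizer_iff.2 fun z hz => ?_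
      have h2 := mem_centralizer_iff.1 hx _ ((mem_normalizer_iff''.1 hg z).1 hz)
      calc z * (g * x * g⁻¹) = g * ((g⁻¹ * z * g) * x) * g⁻¹ := by group
        _ = g * (x * (g⁻¹ * z * g)) * g⁻¹ := by rw [h2]
        _ = g * x * g⁻¹ * z := by group
    have hn7 : NC.index % 7 = 1 := by
      have h2 := card_sylow_modEq_one 7 G
      rw [P.card_eq_index_normalizer] at h2
      exact h2
    have hdiv : NC.index ∣ 60 := by
      have h2 := index_dvd_of_le hNle
      have h3 := N.card_mul_index
      rw [hN, D.card_normalizer_cyclic h hns S hC, ← hCdef, hC49, hG, hi] at h3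
      rwa [show N.index = 60 by rw [hN]; omega] at h2
    have h8 : 2 ^ 3 ∣ Nat.card ↥NC := by
      have h2 := NC.card_mul_index
      rw [hG, hi] at h2
      have h3 : NC.index = 1 ∨ NC.index = 15 := by
        have h4 := Nat.le_of_dvd (by norm_num) hdiv
        have h5 := Nat.mem_divisors.2 ⟨hdiv, by norm_num⟩
        have e : Nat.divisors 60 = {1, 2, 3, 4, 5, 6, 10, 12, 15, 20, 30, 60} := by decide
        rw [e] at h5
        simp only [Finset.mem_insert, Finset.mem_singleton] at h5
        omega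
      rcases h3 with e | e <;> rw [e] at h2 <;> omega
    obtain ⟨E₀, hE₀⟩ := Sylow.exists_subgroup_card_pow_prime 2 h8
    set E := E₀.map NC.subtype with hE
    have hE2 : IsPGroup 2 ↥E := (IsPGroup.of_card hE₀).map _
    have hEsq : ∀ x ∈ E, x ^ 2 = 1 := fun x hx => by
      obtain ⟨k, hk⟩ := hE2 ⟨x, hx⟩
      exact h.sq_of_two_pow (congrArg Subtype.val hk)
    have hEab : Cfsg.IsElementaryAbelian 2 E := by
      refine ⟨⟨⟨fun x y => Subtype.ext ?_⟩⟩, hEsq⟩
      have hx := hEsq x x.2
      have hy := hEsq y y.2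
      have hxy := hEsq _ (mul_mem x.2 y.2)
      rw [sq] at hx hy hxy
      show (x : G) * y = y * x
      calc (x : G) * y = (x * y)⁻¹ := (inv_eq_of_mul_eq_one_left hxy).symm
        _ = (y : G)⁻¹ * (x : G)⁻¹ := mul_inv_rev _ _
        _ = y * x := by rw [inv_eq_of_mul_eq_one_left hx, inv_eq_of_mul_eq_one_left hy]
    have hbot : C ≤ ⊥ := by
      refine le_of_fixed hEab ?_ (map_subtype_le _) ?_ fun e he he2 x hx => ?_
      · rw [hE, card_map_of_injective NC.subtype_injective, hE₀]; norm_num
      · rw [hC49]; exact ⟨24, rfl⟩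
      · refine (mem_bot (G := G)).2 ?_
        by_contra hx1
        obtain ⟨j, hj⟩ := hCp ⟨x, hx.1⟩
        obtain ⟨i, -, hi⟩ := (Nat.dvd_prime_pow (by norm_num : Nat.Prime 7)).1
          (orderOf_dvd_of_pow_eq_one (congrArg Subtype.val hj : x ^ 7 ^ j = 1))
        have hi0 : i ≠ 0 := fun e => hx1 (orderOf_eq_one_iff.1 (by rw [hi, e, pow_zero]))
        rcases h.prime_commute (Or.inl rfl) (by norm_num) he2
          (orderOf_pow_orderOf_div (orderOf_pos x).ne' ((dvd_pow_self 7 hi0).trans hi.symm.dvd))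
          ((show Commute x e from mem_centralizer_singleton_iff.1 hx.2).symm.pow_right _) with e1 | e1 <;> omega
    rw [le_bot_iff.1 hbot, card_bot] at hC49
    norm_num at hC49

include h hns hC in
theorem Hyp.false_of_embedded {x : G} (hx : orderOf x = 2 * p) : False := by
  classical
  haveI : Fact (Nat.Prime 2) := ⟨Nat.prime_two⟩
  haveI := Fact.mk h.prime
  obtain ⟨t, ht, ht2⟩ := h.exists_invol S hns
  have h4 := h.card_sylow S hns
  have hidx : ∀ s ∈ (S : Subgroup G), orderOf s = 2 →
      Nat.card (Aut2 S) * Nat.card ↥(centralizer ((S : Subgroup G) : Set G)) =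
        (Nat.card ↥(S : Subgroup G) - 1) * Nat.card ↥(centralizer ({s} : Set G)) := by
    intro s hs hs2
    rw [← h.card_normalizer hns S hC hs hs2, ← (centS S).card_mul_index, index_eq_card,
      Nat.card_congr (subgroupOfEquivOfLe (centralizer_le_normalizer _)).toEquiv, mul_comm]
  -- the centralisers equal `C(S)` as soon as `|Aut S| = |S| - 1`
  have hfull : Nat.card (Aut2 S) = Nat.card ↥(S : Subgroup G) - 1 →
      ∀ s ∈ (S : Subgroup G), orderOf s = 2 →
        centralizer ({s} : Set G) ≤ centralizer ((S : Subgroup G) : Set G) := by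
    intro heq s hs hs2
    refine (eq_of_le_of_card_ge (centralizer_le_centralizer_singleton S hs) (le_of_eq ?_)).ge
    have h1 := hidx s hs hs2
    rw [heq] at h1
    exact (Nat.eq_of_mul_eq_mul_left (by omega) h1).symm
  have hord : ∀ y ∈ normalizer ((S : Subgroup G) : Set G), (orderOf y).Prime →
      y ∉ centralizer ((S : Subgroup G) : Set G) → orderOf y ∣ Nat.card (Aut2 S) := by
    intro y hy hyp hyC
    have h1 : orderOf (proj S ⟨y, hy⟩) ∣ orderOf y := (orderOf_map_dvd _ _).trans (by rw [← orderOf_coe])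
    rcases (Nat.dvd_prime hyp).1 h1 with e | e
    · exact absurd (proj_eq_one.1 (orderOf_eq_one_iff.1 e)) hyC
    · exact e ▸ orderOf_dvd_natCard _
  obtain ⟨m, hm⟩ := card_dvd_of_le (centralizer_le_centralizer_singleton S ht)
  have hQ : Nat.card (Aut2 S) = (Nat.card ↥(S : Subgroup G) - 1) * m := by
    have h1 := hidx t ht ht2
    rw [hm] at h1
    refine Nat.eq_of_mul_eq_mul_right (Nat.card_pos (α := ↥(centralizer ((S : Subgroup G) : Set G)))) ?_
    rw [h1]; ring
  have hcentS : ∀ s ∈ (S : Subgroup G), orderOf s = 2 →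
      ¬ p ∣ Nat.card (Aut2 S) → centralizer ({s} : Set G) ≤ centralizer ((S : Subgroup G) : Set G) := by
    intro s hs hs2 hpQ y hy
    by_contra hyC
    obtain ⟨j, hj, hj2, hjC⟩ := h.exists_prime_pow S (hC s hs hs2 hy) hyC
    have hyj : Commute s (y ^ j) := (show Commute y s from mem_centralizer_singleton_iff.1 hy).symm.pow_right j
    rcases h.prime_commute (Or.inl rfl) hj hs2 rfl hyj with e | e
    · exact hj2 e
    · exact hpQ (e ▸ hord _ (pow_mem (hC s hs hs2 hy) j) hj hjC)
  by_cases hpQ : p ∣ Nat.card (Aut2 S)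
  swap
  · have hf := fun s hs hs2 => hcentS s hs hs2 hpQ
    refine h.false_of_other hns S hC hf (h.coreS_ne_bot hns S hC hf hx) fun y hy hyp _ hyC e => hpQ ?_
    exact e ▸ hord y hy hyp hyC
  by_cases hP : IsPGroup p (Aut2 S)
  · -- the automiser is a `p`-group
    obtain ⟨a, ha⟩ := IsPGroup.iff_card.1 hP
    have hSp : Nat.card ↥(S : Subgroup G) - 1 = p := by
      obtain ⟨i, hi, hi'⟩ := (Nat.dvd_prime_pow h.prime).1 (ha ▸ hQ ▸ dvd_mul_right _ m :
        Nat.card ↥(S : Subgroup G) - 1 ∣ p ^ a)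
      obtain ⟨k, hk⟩ := IsPGroup.iff_card.1 S.2
      have hk2 : 2 ≤ k := by
        by_contra h2
        have : 2 ^ k ≤ 2 ^ 1 := Nat.pow_le_pow_right (by norm_num) (by omega)
        omega
      have := Cfsg.Agent.S3370.mersenne_exp h.prime h.odd hk2 (by omega : 2 ^ k = p ^ i + 1)
      rw [this, pow_one] at hi'
      exact hi'
    have hcardQ : Nat.card (Aut2 S) = p := by
      -- a faithful `p`-group on `p` involutions
      let Ω := ↥(((S : Subgroup G) : Set G) \ {1})
      let f : ↥(normalizer ((S : Subgroup G) : Set G)) →* Equiv.Perm Ω :=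
        { toFun := fun n =>
            { toFun := fun s => ⟨(n : G) * s * (n : G)⁻¹, (mem_normalizer_iff.1 n.2 _).1 s.2.1,
                fun e => s.2.2 (conj_eq_one_iff.1 e)⟩
              invFun := fun s => ⟨(n : G)⁻¹ * s * n, (mem_normalizer_iff''.1 n.2 _).1 s.2.1,
                fun e => s.2.2 (conj_eq_one_iff.1 (by rw [inv_inv]; exact e : (n : G)⁻¹ * s * (n : G)⁻¹⁻¹ = 1))⟩
              left_inv := fun s => Subtype.ext (by simp [mul_assoc])
              right_inv := fun s => Subtype.ext (by simp [mul_assoc]) }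
          map_one' := Equiv.ext fun s => Subtype.ext (by simp)
          map_mul' := fun n n' => Equiv.ext fun s => Subtype.ext (by simp [mul_assoc]) }
      have hker : f.ker = centS S := by
        ext n
        rw [MonoidHom.mem_ker, mem_subgroupOf]
        constructor
        · intro hn
          refine mem_centralizer_iff.2 fun s hs => ?_
          by_cases hs1 : s = 1
          · rw [hs1, one_mul, mul_one]
          have := congrArg Subtype.val (Equiv.ext_iff.1 hn ⟨s, hs, hs1⟩)
          simp only [f, MonoidHom.coe_mk, OneHom.coe_mk, Equiv.coe_fn_mk, Equiv.Perm.coe_one, id] at this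
          exact (mul_inv_eq_iff_eq_mul.1 this).symm
        · intro hn
          refine Equiv.ext fun s => Subtype.ext ?_
          show (n : G) * s * (n : G)⁻¹ = s
          rw [← mem_centralizer_iff.1 hn s s.2.1, mul_inv_cancel_right]
      have hdvd : Nat.card (Aut2 S) ∣ p.factorial := by
        show (centS S).index ∣ _
        rw [← hker, index_ker]
        refine (card_subgroup_dvd_card f.range).trans (dvd_of_eq ?_)
        rw [Nat.card_perm, Nat.card_coe_set_eq, Set.ncard_sdiff_singleton_of_mem (one_mem _),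
          ← Nat.card_coe_set_eq, SetLike.coe_sort_coe, hSp]
      have h1 : p ∣ Nat.card (Aut2 S) := by rw [hQ, hSp]; exact dvd_mul_right p m
      rcases Nat.lt_or_ge a 2 with h2 | h2
      · interval_cases a
        · rw [ha, pow_zero] at h1
          exact absurd (Nat.le_of_dvd one_pos h1) (by have := h.two_lt; omega)
        · rw [ha, pow_one]
      · exfalso
        have h3 : p ^ 2 ∣ p.factorial := (pow_dvd_pow p h2).trans (ha ▸ hdvd)
        rw [sq, ← Nat.mul_factorial_pred h.prime.ne_zero] at h3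
        have h4 := Nat.dvd_of_mul_dvd_mul_left h.prime.pos h3
        have h5 := h.prime.dvd_factorial.1 h4
        have := h.two_lt
        omega
    have hf := hfull (hcardQ.trans hSp.symm)
    refine h.false_of_p hns S hC hf (h.coreS_ne_bot hns S hC hf hx) fun y hy hyp _ hyC => ?_
    exact (Nat.prime_dvd_prime_iff_eq hyp h.prime).1 (hcardQ ▸ hord y hy hyp hyC)
  -- another prime divides the order of the automiser
  obtain ⟨s, hs, hsp, hsQ⟩ : ∃ s, s.Prime ∧ s ≠ p ∧ s ∣ Nat.card (Aut2 S) := by
    by_contra hall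
    push Not at hall
    exact hP (IsPGroup.of_card (Nat.eq_prime_pow_of_unique_prime_dvd Nat.card_pos.ne'
      fun {q} hq hd => by_contra fun hqp => hall q hq hqp hd))
  haveI : Nontrivial (Aut2 S) := (Finite.one_lt_card_iff_nontrivial).1
    (lt_of_lt_of_le h.prime.one_lt (Nat.le_of_dvd Nat.card_pos hpQ))
  haveI : Group.IsSolvable (Aut2 S) := Cfsg.Agent.S0205.result (h.odd_aut S)
  haveI : Group.IsSolvable ↥(⊤ : Subgroup (Aut2 S)) := inferInstance
  obtain ⟨B, hBn, hB1, -, hBc, -, l, hl, hexp, hBl⟩ :=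
    CfsgLib.Solvable.exists_normal_elementary_le (N := (⊤ : Subgroup (Aut2 S))) top_ne_bot inferInstance
  haveI := hBn
  obtain ⟨b₀, hb₀, hb₀1⟩ := (Subgroup.bot_or_exists_ne_one _).resolve_left hB1
  have hb₀o : orderOf b₀ = l := by
    haveI := Fact.mk hl
    exact orderOf_eq_prime (hexp b₀ hb₀) hb₀1
  have hl2 := h.ne_two_of_dvd S hb₀o.symm.dvd hl
  have hlp : l ≠ p := by
    rintro rfl
    haveI := Fact.mk hs
    obtain ⟨q, hq⟩ := exists_prime_orderOf_dvd_card' s hsQ
    exact hB1 (h.no_normal S hl hl2 hBl hq hs hsp (Or.inl rfl) fun d hd hdN _ =>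
      h.mover_of_ne S hs (h.ne_two_of_dvd S hq.symm.dvd hs) hsp hd hdN)
  haveI := Fact.mk hl
  have hBcomm : ∀ a ∈ B, ∀ b ∈ B, a * b = b * a := fun a ha b hb =>
    congrArg Subtype.val (hBc.is_comm.comm (⟨a, ha⟩ : ↥B) ⟨b, hb⟩)
  have hBcard : Nat.card ↥B = l := le_antisymm (h.abelian_card_le S hns hl hl2 hlp hBcomm hexp)
    (hb₀o ▸ Nat.le_of_dvd Nat.card_pos (orderOf_dvd_natCard _ hb₀))
  haveI : IsCyclic ↥B := isCyclic_of_prime_card hBcard
  set φ : Aut2 S →* MulAut ↥B := MulAut.conjNormal with hφ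
  have hker : φ.ker = centralizer (B : Set (Aut2 S)) := by
    ext q
    rw [MonoidHom.mem_ker]
    constructor
    · intro hq
      refine mem_centralizer_iff.2 fun a ha => ?_
      have h1 := congrArg Subtype.val (DFunLike.congr_fun hq ⟨a, ha⟩)
      simp only [hφ, MulAut.conjNormal_apply, MulAut.one_apply] at h1
      exact (mul_inv_eq_iff_eq_mul.1 h1).symm
    · intro hq
      refine MulEquiv.ext fun a => Subtype.ext ?_
      simp only [hφ, MulAut.conjNormal_apply, MulAut.one_apply]
      rw [← mem_centralizer_iff.1 hq a a.2, mul_inv_cancel_right]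
  have hCp : ¬ p ∣ Nat.card ↥φ.ker := fun hd => by
    obtain ⟨⟨z, hzk⟩, hz⟩ := exists_prime_orderOf_dvd_card' p hd
    rw [← orderOf_coe] at hz
    simp only at hz
    have hc : Commute z b₀ := (mem_centralizer_iff.1 (hker ▸ hzk) b₀ hb₀).symm
    refine h.not_mul_dvd S hl hlp (q := z * b₀) ?_
    rw [hc.orderOf_mul_eq_mul_orderOf_of_coprime (by
      rw [hz, hb₀o]; exact (Nat.coprime_primes h.prime hl).2 (Ne.symm hlp)), hz, hb₀o]
  haveI : IsCyclic (MulAut ↥B) := by
    haveI : IsCyclic (ZMod (Nat.card ↥B))ˣ := by rw [hBcard]; infer_instance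
    exact isCyclic_of_surjective (IsCyclic.mulAutMulEquiv ↥B).symm.toMonoidHom
      (IsCyclic.mulAutMulEquiv ↥B).symm.surjective
  obtain ⟨⟨g, hg⟩, hgen⟩ := IsCyclic.exists_generator (α := ↥φ.range)
  have htot : Nat.card (Aut2 S) = Nat.card ↥φ.ker * Nat.card ↥φ.range := by
    rw [← index_ker, card_mul_index]
  have hrange : Nat.card ↥φ.range = p := by
    have hpr : p ∣ Nat.card ↥φ.range := (h.prime.dvd_mul.1 (htot ▸ hpQ)).resolve_left hCp
    obtain ⟨q, hq⟩ := hg
    have hgo : orderOf (φ q) = Nat.card ↥φ.range := by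
      rw [hq, ← orderOf_eq_card_of_forall_mem_zpowers hgen, ← orderOf_coe]
    refine Nat.dvd_antisymm ?_ hpr
    refine hgo ▸ (orderOf_map_dvd φ q).trans ?_
    -- an element of the automiser of order divisible by `p` has order `p`
    have hpq : p ∣ orderOf q := (hgo ▸ hpr).trans (orderOf_map_dvd φ q)
    obtain ⟨k, hk⟩ := hpq
    by_cases hk1 : k = 1
    · rw [hk, hk1, mul_one]
    exfalso
    obtain ⟨r, hr, hrk⟩ := Nat.exists_prime_and_dvd hk1
    by_cases hrp : r = p
    · obtain ⟨x, hx⟩ := QuotientGroup.mk'_surjective (centS S) q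
      have h1 : p * p ∣ orderOf (x : G) := by
        rw [orderOf_coe]
        refine (hk ▸ mul_dvd_mul_left p (hrp ▸ hrk) : p * p ∣ orderOf q).trans ?_
        rw [← hx]
        exact orderOf_map_dvd _ x
      rcases h.pee _ ((dvd_mul_right p p).trans h1) with e | e <;> rw [e] at h1 <;>
        have := Nat.le_of_dvd (by have := h.prime.pos; omega) h1 <;>
        nlinarith [h.two_lt]
    · exact h.not_mul_dvd S hr hrp (q := q) (hk ▸ mul_dvd_mul_left p hrk)
  have hpl : p ∣ l - 1 := by
    have h1 := card_subgroup_dvd_card φ.range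
    rwa [hrange, IsCyclic.card_mulAut, hBcard, Nat.totient_prime hl] at h1
  have huniq : ∀ q : Aut2 S, orderOf q = l → q ∈ B := by
    intro q hq
    have hqk : q ∈ φ.ker := by
      refine MonoidHom.mem_ker.2 (orderOf_eq_one_iff.1 (Nat.eq_one_of_dvd_coprimes
        ((Nat.coprime_primes hl h.prime).2 hlp) (hq ▸ orderOf_map_dvd φ q) ?_))
      have h1 := orderOf_dvd_natCard (⟨φ q, q, rfl⟩ : ↥φ.range)
      rwa [← orderOf_coe, hrange] at h1
    have hqB : q ∈ centralizer (B : Set (Aut2 S)) := hker ▸ hqk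
    set E := B ⊔ zpowers q with hE
    have hEc : ∀ a ∈ E, ∀ b ∈ E, a * b = b * a := by
      have hle : E ≤ centralizer (E : Set (Aut2 S)) := by
        have hgen : ∀ a ∈ E, a ∈ centralizer (B : Set (Aut2 S)) ∧ Commute a q := by
          intro a ha
          obtain ⟨x, hx, y, hy, rfl⟩ := mem_sup_of_normal_left.1 ha
          obtain ⟨i, rfl⟩ := mem_zpowers_iff.1 hy
          refine ⟨mul_mem (mem_centralizer_iff.2 fun b hb => hBcomm b hb x hx) (zpow_mem hqB i), ?_⟩
          exact Commute.mul_left (mem_centralizer_iff.1 hqB x hx) ((Commute.refl q).zpow_left i)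
        intro a ha
        refine mem_centralizer_iff.2 fun b hb => ?_
        obtain ⟨x, hx, y, hy, rfl⟩ := mem_sup_of_normal_left.1 hb
        obtain ⟨i, rfl⟩ := mem_zpowers_iff.1 hy
        exact (Commute.mul_left (mem_centralizer_iff.1 (hgen a ha).1 x hx)
          ((hgen a ha).2.symm.zpow_left i)).eq
      exact fun a ha b hb => mem_centralizer_iff.1 (hle hb) a ha
    have hEexp : ∀ a ∈ E, a ^ l = 1 := by
      intro a ha
      obtain ⟨x, hx, y, hy, rfl⟩ := mem_sup_of_normal_left.1 ha
      rw [Commute.mul_pow (hEc x (mem_sup_left hx) y (mem_sup_right hy)), hexp x hx, one_mul]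
      obtain ⟨i, rfl⟩ := mem_zpowers_iff.1 hy
      rw [← zpow_natCast, ← zpow_mul, mul_comm, zpow_mul, zpow_natCast, ← hq, pow_orderOf_eq_one, one_zpow]
    have hBE : B = E := eq_of_le_of_card_ge le_sup_left (hBcard ▸ h.abelian_card_le S hns hl hl2 hlp hEc hEexp)
    exact hBE.symm ▸ mem_sup_right (mem_zpowers q)
  rw [hrange] at htot
  -- the index `m` is `p`
  have hSn : 0 < Nat.card ↥(S : Subgroup G) - 1 := by omega
  have hCS0 : 0 < Nat.card ↥(centralizer ((S : Subgroup G) : Set G)) := Nat.card_pos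
  have hm0 : 0 < m := Nat.pos_of_ne_zero fun e => by
    rw [hQ, e, mul_zero] at htot
    exact (Nat.mul_pos Nat.card_pos h.prime.pos).ne' htot.symm
  have hmp : m = p := by
    have hm1 : m ≠ 1 := by
      intro e
      rw [e, mul_one] at hQ
      obtain ⟨q, hq⟩ := exists_prime_orderOf_dvd_card' p hpQ
      refine hB1 (h.no_normal S hl hl2 hBl hq h.prime (Ne.symm hlp) (Or.inr rfl) fun d hd hdN hdC => ?_)
      refine ⟨h.prime, h.odd, hd, hdN, fun s hs hds => ?_⟩
      by_contra hs1
      have hs2 := orderOf_eq_prime (h.sylow_exp S hs) hs1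
      exact hdC (hfull hQ s hs hs2 (mem_centralizer_singleton_iff.2 hds.eq))
    refine ((Nat.dvd_prime h.prime).1 ?_).resolve_left hm1
    -- `m` divides `|Aut|`, and its prime divisors are `2` and `p`
    have hmQ : m ∣ Nat.card ↥φ.ker * p := htot ▸ hQ ▸ dvd_mul_left m _
    refine Nat.Coprime.dvd_of_dvd_mul_left ?_ hmQ
    refine Nat.coprime_of_dvd fun r hr hrm hrk => ?_
    have hrC : r ∣ Nat.card ↥(centralizer ({t} : Set G)) := hm ▸ dvd_mul_of_dvd_right hrm _
    rcases h.primes_of_le_centralizer (Or.inl rfl) ht2 le_rfl hr hrC with rfl | rfl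
    · exact Nat.not_even_iff_odd.2 (h.odd_aut S) (even_iff_two_dvd.2 (htot ▸ dvd_mul_of_dvd_left hrk p))
    · exact hCp hrk
  rw [hmp, htot] at hQ
  have hn : Nat.card ↥φ.ker = Nat.card ↥(S : Subgroup G) - 1 := Nat.eq_of_mul_eq_mul_right h.prime.pos hQ
  obtain ⟨c, b, t', D⟩ := h.exists_frobData hns S hC (n := Nat.card ↥φ.ker) hl hl2 hlp (by omega) htot hCp hpl B
    hBcard huniq (by rw [hker])
  exact D.false h hns S hC

include h hns in
/-- A simple group whose only composite element order is `2p` is some `PSL₂(q)` with `q` odd. -/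
theorem Hyp.psl {x : G} (hx : orderOf x = 2 * p) :
    ∃ (F : Type) (_ : Field F) (_ : Fintype F), Odd (Fintype.card F) ∧
      Nonempty (G ≃* Matrix.ProjectiveSpecialLinearGroup (Fin 2) F) := by
  haveI : Fact (Nat.Prime 2) := ⟨Nat.prime_two⟩
  obtain ⟨S⟩ := (inferInstance : Nonempty (Sylow 2 G))
  by_cases hbig : 8 ≤ Nat.card ↥(S : Subgroup G) ∨ coreS S ≠ ⊥
  · exfalso
    refine h.false_of_embedded hns S (fun t ht ht2 => ?_) hx
    exact h.centralizer_le S ht ht2
      ((h.core_centralizer_le S hns hbig ht ht2).trans ((core_le _).trans (centralizer_le_normalizer _))) le_rfl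
  · push Not at hbig
    refine h.psl_of_four S hns ?_ hbig.2
    have h4 := h.card_sylow S hns
    obtain ⟨k, hk⟩ := IsPGroup.iff_card.1 S.2
    rcases Nat.lt_or_ge k 3 with hk3 | hk3
    · interval_cases k <;> omega
    · have : 2 ^ 3 ≤ 2 ^ k := Nat.pow_le_pow_right (by norm_num) hk3
      omega

end CfsgLib.OneComp
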