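import Mathlib.GroupTheory.PGroup
import Mathlib.GroupTheory.QuotientGroup.Basic
import Mathlib.GroupTheory.Coset.Card
import Mathlib.GroupTheory.Subgroup.Centralizer
import Mathlib.GroupTheory.SpecificGroups.Cyclic
import Mathlib.Algebra.Group.End
import Mathlib.Algebra.Group.Subgroup.Finite
import Mathlib.GroupTheory.GroupAction.Quotient
import Mathlib.Tactic.Linarith
import Mathlib.Tactic.Group

/-!
# A norm argument for fixed-point-free elements

If the translates `a * (k * c * k⁻¹)` all have `l`-th power one, where `c` has prime order dividing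
`l` and acts without fixed points on `K`, then `K` centralises every `p`-group on which it acts
coprimely.
-/

set_option autoImplicit false

namespace CfsgLib.OneComp

open Subgroup

universe u

variable {H : Type u} [Group H]

/-- The abelian case, for any exponent. -/
theorem centralizes_abelian_of [Finite H] {A K : Subgroup H} [A.Normal] [hA : IsMulCommutative ↥A]
    (hcop : (Nat.card ↥A).Coprime (Nat.card ↥K)) {c : H} {l : ℕ} (hl : 0 < l) (hcl : c ^ l = 1)
    (hcK : c ∈ normalizer (K : Set H))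
    (hfix' : ∀ i, 1 ≤ i → i < l → ∀ k ∈ K, Commute (c ^ i) k → k = 1)
    (hyp : ∀ a ∈ A, ∀ k ∈ K, (a * (k * c * k⁻¹)) ^ l = 1) :
    K ≤ centralizer (A : Set H) := by
  classical
  haveI : Fintype ↥K := Fintype.ofFinite _
  letI : CommGroup ↥A := { (inferInstance : Group ↥A) with mul_comm := fun a b => hA.is_comm.comm a b }
  set φ : H →* MulAut ↥A := MulAut.conjNormal with hφ
  have hcn : ∀ (i : ℕ), c ^ i ∈ normalizer (K : Set H) := fun i => pow_mem hcK i
  -- the twisting bijection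
  have hσ : ∀ i, 1 ≤ i → i < l → ∀ x : ↥A,
      ∏ k : ↥K, φ ((k : H) * c ^ i * (k : H)⁻¹) x = ∏ k : ↥K, φ ((k : H) * c ^ i) x := by
    intro i h1 h2 x
    let f : ↥K → ↥K := fun k => ⟨(k : H) * (c ^ i * (k : H)⁻¹ * (c ^ i)⁻¹),
      mul_mem k.2 ((mem_normalizer_iff.1 (hcn i) _).1 (inv_mem k.2))⟩
    have hf : Function.Injective f := by
      intro k k' h
      have h' : (k : H) * (c ^ i * (k : H)⁻¹ * (c ^ i)⁻¹) = k' * (c ^ i * (k' : H)⁻¹ * (c ^ i)⁻¹) :=
        congrArg Subtype.val h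
      have hc : Commute (c ^ i) ((k : H)⁻¹ * k') := by
        show c ^ i * ((k : H)⁻¹ * k') = (k : H)⁻¹ * k' * c ^ i
        have := congrArg (fun z => (k : H)⁻¹ * z * (c ^ i) * k') h'
        simpa [mul_assoc] using this
      have := hfix' i h1 h2 _ (mul_mem (inv_mem k.2) k'.2) hc
      exact Subtype.ext (inv_mul_eq_one.1 this)
    refine Fintype.prod_bijective f (Finite.injective_iff_bijective.1 hf) _ _ fun k => ?_
    congr 2
    show _ = (k : H) * (c ^ i * (k : H)⁻¹ * (c ^ i)⁻¹) * c ^ i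
    group
  intro z hz
  refine mem_centralizer_iff.2 fun a ha => ?_
  -- the norm identity
  have key : ∀ x : ↥A, ∏ k : ↥K, φ (k : H) x = x ^ Fintype.card ↥K := by
    intro x
    have hsum : ∀ k ∈ K, ∏ i ∈ Finset.range l, φ ((k * c * k⁻¹) ^ i) x = 1 := by
      intro k hk
      have h := hyp x x.2 k hk
      have hexp : ∀ m : ℕ, ((x : H) * (k * c * k⁻¹)) ^ m =
          ((∏ i ∈ Finset.range m, φ ((k * c * k⁻¹) ^ i) x : ↥A) : H) * (k * c * k⁻¹) ^ m := by
        intro m
        induction m with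
        | zero => simp
        | succ m ihm =>
          rw [pow_succ, ihm, Finset.prod_range_succ, Subgroup.coe_mul, hφ, MulAut.conjNormal_apply]
          group
      rw [hexp l, conj_pow, hcl, mul_one, mul_inv_cancel, mul_one] at h
      exact Subtype.ext h
    have hcx : ∏ i ∈ Finset.range l, φ (c ^ i) x = 1 := by
      simpa using hsum 1 (one_mem _)
    have hins : Finset.range l = insert 0 (Finset.Ico 1 l) := by
      ext i
      simp only [Finset.mem_range, Finset.mem_insert, Finset.mem_Ico]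
      omega
    have h0 : (0 : ℕ) ∉ Finset.Ico 1 l := by simp
    have hrest : ∏ i ∈ Finset.Ico 1 l, φ (c ^ i) x = x⁻¹ := by
      rw [hins, Finset.prod_insert h0, pow_zero, map_one, MulAut.one_apply] at hcx
      exact eq_inv_of_mul_eq_one_right hcx
    have h1 : ∏ k : ↥K, ∏ i ∈ Finset.range l, φ (((k : H) * c * (k : H)⁻¹) ^ i) x = 1 :=
      Finset.prod_eq_one fun k _ => hsum k k.2
    rw [Finset.prod_comm, hins, Finset.prod_insert h0] at h1
    simp only [pow_zero, map_one, MulAut.one_apply, Finset.prod_const, Finset.card_univ] at h1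
    have h2 : ∏ i ∈ Finset.Ico 1 l, ∏ k : ↥K, φ (((k : H) * c * (k : H)⁻¹) ^ i) x
        = (∏ k : ↥K, φ (k : H) x)⁻¹ := by
      calc ∏ i ∈ Finset.Ico 1 l, ∏ k : ↥K, φ (((k : H) * c * (k : H)⁻¹) ^ i) x
          = ∏ i ∈ Finset.Ico 1 l, ∏ k : ↥K, φ (k : H) (φ (c ^ i) x) := by
            refine Finset.prod_congr rfl fun i hi => ?_
            obtain ⟨a1, a2⟩ := Finset.mem_Ico.1 hi
            simp only [← MulAut.mul_apply, ← map_mul, conj_pow]
            exact hσ i a1 a2 x
        _ = ∏ k : ↥K, φ (k : H) (∏ i ∈ Finset.Ico 1 l, φ (c ^ i) x) := by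
            rw [Finset.prod_comm]
            exact Finset.prod_congr rfl fun k _ => (map_prod (φ (k : H)) _ _).symm
        _ = _ := by
            rw [hrest]
            simp only [map_inv, Finset.prod_inv_distrib]
    rw [h2, mul_inv_eq_one] at h1
    exact h1.symm
  -- `z` fixes the norm, hence `a`
  have hpow : φ z ((⟨a, ha⟩ : ↥A) ^ Fintype.card ↥K) = (⟨a, ha⟩ : ↥A) ^ Fintype.card ↥K := by
    rw [← key, map_prod]
    refine Fintype.prod_bijective (fun k : ↥K => ⟨z, hz⟩ * k) (Group.mulLeft_bijective _) _ _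
      fun k => ?_
    rw [← MulAut.mul_apply, ← map_mul]
    rfl
  rw [map_pow] at hpow
  have hcop' : (Nat.card ↥A).Coprime (Fintype.card ↥K) := by rwa [← Nat.card_eq_fintype_card]
  have h3 : φ z ⟨a, ha⟩ = ⟨a, ha⟩ := (powCoprime hcop').injective hpow
  have h4 : z * a * z⁻¹ = a := congrArg Subtype.val h3
  exact (mul_inv_eq_iff_eq_mul.1 h4).symm

/-- The abelian case. -/
theorem centralizes_abelian [Finite H] {A K : Subgroup H} [A.Normal] [IsMulCommutative ↥A]
    (hcop : (Nat.card ↥A).Coprime (Nat.card ↥K)) {c : H} {l : ℕ} (hl : l.Prime) (hcl : c ^ l = 1)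
    (hcK : c ∈ normalizer (K : Set H)) (hfix : ∀ k ∈ K, Commute c k → k = 1)
    (hyp : ∀ a ∈ A, ∀ k ∈ K, (a * (k * c * k⁻¹)) ^ l = 1) :
    K ≤ centralizer (A : Set H) := by
  refine centralizes_abelian_of hcop hl.pos hcl hcK (fun i h1 h2 k hk hc => ?_) hyp
  refine hfix k hk ?_
  obtain ⟨j, hj⟩ := exists_pow_eq_self_of_coprime (x := c) (n := i)
    ((Nat.Coprime.coprime_dvd_right (orderOf_dvd_of_pow_eq_one hcl))
      ((Nat.Prime.coprime_iff_not_dvd hl).2 fun h => by
        have := Nat.le_of_dvd (by omega) h; omega).symm)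
  exact hj ▸ hc.pow_left j

theorem centralizes_aux : ∀ (n : ℕ) (H : Type u) [Group H] [Finite H] (p : ℕ) (Q K : Subgroup H) (c : H)
    (l : ℕ), Nat.card ↥Q = n → p.Prime → IsPGroup p ↥Q → Q.Normal →
    (Nat.card ↥Q).Coprime (Nat.card ↥K) → l.Prime → c ^ l = 1 → c ∈ normalizer (K : Set H) →
    (∀ k ∈ K, Commute c k → k = 1) → (∀ a ∈ Q, ∀ k ∈ K, (a * (k * c * k⁻¹)) ^ l = 1) →
    K ≤ centralizer (Q : Set H) := by
  intro n
  induction n using Nat.strong_induction_on with
  | _ n ih =>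
  intro H _ _ p Q K c l hn hp hQ hQn hcop hl hcl hcK hfix hyp
  haveI := Fact.mk hp
  by_cases hQ1 : Q = ⊥
  · subst hQ1
    intro k _
    exact mem_centralizer_iff.2 fun a ha => by rw [mem_bot.1 ha, one_mul, mul_one]
  haveI : Nontrivial ↥Q := (Subgroup.nontrivial_iff_ne_bot Q).2 hQ1
  set Z : Subgroup H := (center ↥Q).map Q.subtype with hZ
  haveI hZn : Z.Normal := by
    haveI := hQn
    exact ConjAct.normal_of_characteristic_of_normal
  have hZQ : Z ≤ Q := map_subtype_le _
  haveI : IsMulCommutative ↥Z := ⟨⟨by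
    rintro ⟨_, a, ha, rfl⟩ ⟨_, b, hb, rfl⟩
    exact Subtype.ext (congrArg (Subtype.val : ↥Q → H) (mem_center_iff.1 hb a))⟩⟩
  have hcopZ : (Nat.card ↥Z).Coprime (Nat.card ↥K) := hcop.coprime_dvd_left (card_dvd_of_le hZQ)
  have hKZ : K ≤ centralizer (Z : Set H) :=
    centralizes_abelian hcopZ hl hcl hcK hfix fun a ha => hyp a (hZQ ha)
  have hZ1 : 1 < Nat.card ↥Z := by
    rw [card_map_of_injective Q.subtype_injective]
    haveI := hQ.center_nontrivial
    exact Finite.one_lt_card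
  set f := QuotientGroup.mk' Z
  have hlt : Nat.card ↥(Q.map f) < n := by
    rw [← hn, ← relIndex_ker, QuotientGroup.ker_mk']
    have hi : Nat.card ↥Z * Z.relIndex Q = Nat.card ↥Q := by
      rw [relIndex, ← Nat.card_congr (subgroupOfEquivOfLe hZQ).toEquiv]
      exact (Z.subgroupOf Q).card_mul_index
    have hpos : 0 < Z.relIndex Q := Nat.pos_of_ne_zero fun h => by
      have := (Nat.card_pos (α := ↥Q)).ne'
      rw [h, mul_zero] at hi
      exact this hi.symm
    nlinarith [hi, hZ1, hpos]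
  have hKbar := ih _ hlt (H ⧸ Z) p (Q.map f) (K.map f) (f c) l rfl hp (hQ.map f)
    (hQn.map f (QuotientGroup.mk'_surjective Z))
    ((hcop.coprime_dvd_left (card_map_dvd _ _)).coprime_dvd_right (card_map_dvd _ _))
    hl (by rw [← map_pow, hcl, map_one]) (le_normalizer_map f ⟨c, hcK, rfl⟩)
    (by
      rintro _ ⟨k, hk, rfl⟩ hc
      have h1 : f (c * k * c⁻¹ * k⁻¹) = 1 := by
        simp only [map_mul, map_inv]
        rw [hc.eq, mul_inv_cancel_right, mul_inv_cancel]
      have h2 : c * k * c⁻¹ * k⁻¹ ∈ Z := (QuotientGroup.eq_one_iff _).1 h1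
      have h3 : c * k * c⁻¹ * k⁻¹ ∈ K := mul_mem ((mem_normalizer_iff.1 hcK k).1 hk) (inv_mem hk)
      have h4 : c * k * c⁻¹ * k⁻¹ ∈ Z ⊓ K := ⟨h2, h3⟩
      rw [inf_eq_bot_of_coprime hcopZ, mem_bot] at h4
      rw [hfix k hk (mul_inv_eq_iff_eq_mul.1 (mul_inv_eq_one.1 h4)), map_one])
    (by
      rintro _ ⟨a, ha, rfl⟩ _ ⟨k, hk, rfl⟩
      rw [← map_inv, ← map_mul, ← map_mul, ← map_mul, ← map_pow, hyp a ha k hk, map_one])
  intro k hk
  refine mem_centralizer_iff.2 fun a ha => ?_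
  set z := a⁻¹ * (k * a * k⁻¹) with hz
  have hzZ : z ∈ Z := by
    refine (QuotientGroup.eq_one_iff _).1 ?_
    show f z = 1
    simp only [hz, map_mul, map_inv]
    rw [← mem_centralizer_iff.1 (hKbar ⟨k, hk, rfl⟩) (f a) ⟨a, ha, rfl⟩, mul_inv_cancel_right,
      inv_mul_cancel]
  have hck : k * z * k⁻¹ = z := mul_inv_eq_iff_eq_mul.2 (mem_centralizer_iff.1 (hKZ hk) z hzZ).symm
  have hit : ∀ j : ℕ, k ^ j * a * (k ^ j)⁻¹ = a * z ^ j := by
    intro j
    induction j with
    | zero => simp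
    | succ j ihj =>
      calc k ^ (j + 1) * a * (k ^ (j + 1))⁻¹ = k * (k ^ j * a * (k ^ j)⁻¹) * k⁻¹ := by
            rw [pow_succ']; group
        _ = k * (a * z ^ j) * k⁻¹ := by rw [ihj]
        _ = (k * a * k⁻¹) * (k * z * k⁻¹) ^ j := by rw [conj_pow]; group
        _ = a * z * z ^ j := by rw [hck, hz]; group
        _ = a * z ^ (j + 1) := by rw [mul_assoc, ← pow_succ']
  have hzk := hit (Nat.card ↥K)
  rw [show k ^ Nat.card ↥K = 1 from congrArg Subtype.val (pow_card_eq_one' (x := (⟨k, hk⟩ : ↥K))),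
    one_mul, inv_one, mul_one, eq_comm, mul_eq_left] at hzk
  have : z = 1 := orderOf_eq_one_iff.1 (Nat.eq_one_of_dvd_coprimes hcopZ
    (Subgroup.orderOf_dvd_natCard Z hzZ) (orderOf_dvd_of_pow_eq_one hzk))
  rw [hz, inv_mul_eq_one] at this
  exact (eq_mul_inv_iff_mul_eq.1 this)

/-- A `p`-group normalised by `K` and meeting the power condition is centralised by `K`. -/
theorem centralizes [Finite H] {p : ℕ} (hp : p.Prime) {Q K : Subgroup H} [hQn : Q.Normal]
    (hQ : IsPGroup p ↥Q) (hcop : (Nat.card ↥Q).Coprime (Nat.card ↥K)) {c : H} {l : ℕ} (hl : l.Prime)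
    (hcl : c ^ l = 1) (hcK : c ∈ normalizer (K : Set H)) (hfix : ∀ k ∈ K, Commute c k → k = 1)
    (hyp : ∀ a ∈ Q, ∀ k ∈ K, (a * (k * c * k⁻¹)) ^ l = 1) : K ≤ centralizer (Q : Set H) :=
  centralizes_aux _ H p Q K c l rfl hp hQ hQn hcop hl hcl hcK hfix hyp

end CfsgLib.OneComp
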