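import Cfsg.Agent.OneComp.Cores
import Cfsg.Agent.Solvable.PGroupBasic
import Mathlib.RingTheory.ZMod.UnitsCyclic
import Mathlib.GroupTheory.SpecificGroups.Cyclic

/-!
# Groups with a single composite element order `2p`: the automiser of a Sylow 2-subgroup
-/

set_option autoImplicit false
set_option linter.style.haveILetI false
set_option linter.unusedSectionVars false

namespace CfsgLib.OneComp

open Subgroup
open scoped commutatorElement

universe u

variable {G : Type u} [Group G] [Finite G]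

/-- `C(S)` as a subgroup of `N(S)`. -/
abbrev centS (S : Sylow 2 G) : Subgroup ↥(normalizer ((S : Subgroup G) : Set G)) :=
  (centralizer ((S : Subgroup G) : Set G)).subgroupOf (normalizer ((S : Subgroup G) : Set G))

instance centS_normal (S : Sylow 2 G) : (centS S).Normal :=
  (normal_subgroupOf_iff_le_normalizer (centralizer_le_normalizer _)).2
    (normalizer_le_normalizer_centralizer S)

/-- The automiser of `S`. -/
abbrev Aut2 (S : Sylow 2 G) := ↥(normalizer ((S : Subgroup G) : Set G)) ⧸ centS S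

/-- The projection to the automiser. -/
abbrev proj (S : Sylow 2 G) : ↥(normalizer ((S : Subgroup G) : Set G)) →* Aut2 S := QuotientGroup.mk' (centS S)

theorem proj_eq_one {S : Sylow 2 G} {x : ↥(normalizer ((S : Subgroup G) : Set G))} :
    proj S x = 1 ↔ (x : G) ∈ centralizer ((S : Subgroup G) : Set G) :=
  (QuotientGroup.eq_one_iff x).trans mem_subgroupOf

variable {p : ℕ} (h : Hyp G p) (S : Sylow 2 G)

include h in
theorem Hyp.orderOf_pow_succ {x : G} (hx : orderOf x = 2 * p) : orderOf (x ^ (p + 1)) = p := by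
  obtain ⟨j, hj⟩ := h.prime.odd_of_ne_two h.odd
  rw [orderOf_pow' x (by omega), hx, show Nat.gcd (2 * p) (p + 1) = 2 from ?_,
    Nat.mul_div_cancel_left p (by norm_num)]
  rw [show p + 1 = 2 * (j + 1) by omega, Nat.gcd_mul_left]
  have : Nat.Coprime p (j + 1) := h.prime.coprime_iff_not_dvd.2 fun hd => by
    have := Nat.le_of_dvd (by omega) hd
    have := h.two_lt
    omega
  rw [this, mul_one]

include h in
theorem Hyp.odd_aut : Odd (Nat.card (Aut2 S)) := by
  rw [← Nat.not_even_iff_odd, even_iff_two_dvd]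
  intro hd
  haveI : Fact (Nat.Prime 2) := ⟨Nat.prime_two⟩
  obtain ⟨q, hq⟩ := exists_prime_orderOf_dvd_card' 2 hd
  obtain ⟨x, rfl⟩ := QuotientGroup.mk'_surjective (centS S) q
  have hne : proj S x ≠ 1 := fun e => by
    rw [show QuotientGroup.mk' (centS S) x = proj S x from rfl, e, orderOf_one] at hq
    omega
  have h2 : 2 ∣ orderOf (x : G) := by
    rw [orderOf_coe]
    exact hq.symm.dvd.trans (orderOf_map_dvd _ x)
  have hSC := h.sylow_le_centralizer_self S
  refine hne ?_
  rcases h.two _ h2 with h1 | h1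
  · exact proj_eq_one.2 (hSC (mem_sylow_of_normalizes S (k := 1)
      (orderOf_dvd_iff_pow_eq_one.1 (by rw [pow_one]; exact h1.dvd)) x.2))
  · have hp1 : proj S x ^ p = 1 := by
      rw [← map_pow, proj_eq_one]
      refine hSC (mem_sylow_of_normalizes S (k := 1) ?_ (x ^ p).2)
      show ((x : G) ^ p) ^ 2 ^ 1 = 1
      rw [pow_one, ← pow_mul, mul_comm, ← h1, pow_orderOf_eq_one]
    refine orderOf_eq_one_iff.1 (Nat.eq_one_of_dvd_coprimes
      ((Nat.coprime_primes Nat.prime_two h.prime).2 (Ne.symm h.odd)) hq.dvd (orderOf_dvd_of_pow_eq_one hp1))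

include h in
theorem Hyp.ne_two_of_dvd {q : Aut2 S} {s : ℕ} (hd : s ∣ orderOf q) (hs : s.Prime) : s ≠ 2 := fun e =>
  Nat.not_even_iff_odd.2 ((h.odd_aut S).of_dvd_nat (hd.trans (orderOf_dvd_natCard q)))
    (even_iff_two_dvd.2 (e ▸ dvd_rfl))

include h in
/-- The order of an element of the automiser is not a multiple of `ps`. -/
theorem Hyp.not_mul_dvd {q : Aut2 S} {s : ℕ} (hs : s.Prime) (hsp : s ≠ p) : ¬ p * s ∣ orderOf q := by
  intro hd
  have hs2 := h.ne_two_of_dvd S ((dvd_mul_left s p).trans hd) hs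
  obtain ⟨x, rfl⟩ := QuotientGroup.mk'_surjective (centS S) q
  have hx : p * s ∣ orderOf (x : G) := by
    rw [orderOf_coe]
    exact hd.trans (orderOf_map_dvd _ x)
  rcases h.pee _ ((dvd_mul_right p s).trans hx) with h1 | h1 <;>
    have h3 : s ∣ 2 * p := ((dvd_mul_left s p).trans hx).trans (h1.dvd.trans (by simp))
  all_goals
    rcases hs.dvd_mul.1 h3 with e | e
    · exact hs2 ((Nat.prime_dvd_prime_iff_eq hs Nat.prime_two).1 e)
    · exact hsp ((Nat.prime_dvd_prime_iff_eq hs h.prime).1 e)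

include h in
/-- An element of prime order acting without fixed points on an odd subgroup and on `S` forces the
subgroup to centralise `S`. -/
theorem Hyp.norm_step {K : Subgroup ↥(normalizer ((S : Subgroup G) : Set G))} (hK : Odd (Nat.card ↥K))
    {d : ↥(normalizer ((S : Subgroup G) : Set G))} {s : ℕ} (hd : Mover S (d : G) s)
    (hdK : d ∈ normalizer (K : Set ↥(normalizer ((S : Subgroup G) : Set G))))
    (hfix : ∀ k ∈ K, Commute d k → k = 1) : K ≤ centS S := by
  haveI : Fact (Nat.Prime 2) := ⟨Nat.prime_two⟩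
  haveI : ((S : Subgroup G).subgroupOf (normalizer ((S : Subgroup G) : Set G))).Normal := normal_in_normalizer
  have hSC := h.sylow_le_centralizer_self S
  have key : K ≤ centralizer (((S : Subgroup G).subgroupOf (normalizer ((S : Subgroup G) : Set G)) :
      Subgroup ↥(normalizer ((S : Subgroup G) : Set G))) : Set ↥(normalizer ((S : Subgroup G) : Set G))) := by
    refine centralizes Nat.prime_two (S.2.comap_subtype) ?_ hd.prime (c := d)
      (Subtype.ext (by push_cast; rw [← hd.order, pow_orderOf_eq_one])) hdK hfix ?_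
    · obtain ⟨n, hn⟩ := IsPGroup.iff_card.1 S.2
      rw [Nat.card_congr (subgroupOfEquivOfLe le_normalizer).toEquiv, hn]
      exact (Nat.coprime_two_left.2 hK).pow_left n
    intro a ha k hk
    set d' := k * d * k⁻¹ with hd'
    have hd'o : orderOf (d' : G) = s := by
      rw [hd']; push_cast; rw [CfsgLib.Invol.orderOf_conj_eq, hd.order]
    set y : G := (a : G) * (d' : G) with hy
    have hyN : y ∈ normalizer ((S : Subgroup G) : Set G) := (a * d').2
    have hys : y ^ s ∈ (S : Subgroup G) := by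
      have h1 : (QuotientGroup.mk' ((S : Subgroup G).subgroupOf (normalizer ((S : Subgroup G) : Set G))) (a * d')) ^ s = 1 := by
        rw [map_mul, show QuotientGroup.mk' ((S : Subgroup G).subgroupOf (normalizer ((S : Subgroup G) : Set G))) a = 1
          from (QuotientGroup.eq_one_iff a).2 ha, one_mul, ← map_pow,
          show d' ^ s = 1 from Subtype.ext (by push_cast; rw [← hd'o, pow_orderOf_eq_one]), map_one]
      rw [← map_pow] at h1
      exact mem_subgroupOf.1 ((QuotientGroup.eq_one_iff _).1 h1)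
    have hy2' : y ^ (s * 2) = 1 := by rw [pow_mul]; exact h.sylow_exp S hys
    refine Subtype.ext ?_
    show y ^ s = 1
    by_cases hy2 : 2 ∣ orderOf y
    swap
    · exact orderOf_dvd_iff_pow_eq_one.1 (Nat.Coprime.dvd_of_dvd_mul_right
        (Nat.prime_two.coprime_iff_not_dvd.2 hy2).symm (orderOf_dvd_of_pow_eq_one hy2'))
    rcases h.two y hy2 with h1 | h1
    · exfalso
      have hyS : y ∈ (S : Subgroup G) := mem_sylow_of_normalizes S (k := 1)
        (by rw [pow_one, ← h1, pow_orderOf_eq_one]) hyN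
      have hdS : (d' : G) ∈ (S : Subgroup G) := by
        have := mul_mem (inv_mem (mem_subgroupOf.1 ha)) hyS
        rwa [hy, inv_mul_cancel_left] at this
      have h3 : s ∣ 2 := hd'o ▸ orderOf_dvd_of_pow_eq_one (h.sylow_exp S hdS)
      exact hd.ne_two ((Nat.prime_dvd_prime_iff_eq hd.prime Nat.prime_two).1 h3)
    · exfalso
      -- the involution of `⟨y⟩` is fixed by the conjugate of `d`
      have hypS : y ^ p ∈ (S : Subgroup G) := mem_sylow_of_normalizes S (k := 1)
        (by rw [pow_one, ← pow_mul, mul_comm, ← h1, pow_orderOf_eq_one]) (pow_mem hyN p)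
      have hne : y ^ p ≠ 1 := fun e => by
        have := Nat.le_of_dvd h.prime.pos (h1 ▸ orderOf_dvd_of_pow_eq_one e)
        have := h.prime.pos
        omega
      have hc1 : Commute (y ^ p) (d' : G) := by
        have ha' : Commute (y ^ p) (a : G)⁻¹ :=
          (show Commute (y ^ p) (a : G) from
            CfsgLib.Signalizer.commute (h.sylow_elementary S) hypS (mem_subgroupOf.1 ha)).inv_right
        have e : (d' : G) = (a : G)⁻¹ * y := by rw [hy, inv_mul_cancel_left]
        rw [e]
        exact ha'.mul_right (Commute.pow_self y p)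
      have hc2 : Commute (d : G) ((k : G)⁻¹ * y ^ p * k) := by
        have e : (d' : G) = (k : G) * d * (k : G)⁻¹ := by rw [hd']; push_cast; rfl
        rw [e] at hc1
        calc (d : G) * ((k : G)⁻¹ * y ^ p * k) = (k : G)⁻¹ * (((k : G) * d * (k : G)⁻¹) * y ^ p) * k := by group
          _ = (k : G)⁻¹ * (y ^ p * ((k : G) * d * (k : G)⁻¹)) * k := by rw [hc1.eq]
          _ = (k : G)⁻¹ * y ^ p * k * d := by group
      have := hd.fix _ ((mem_normalizer_iff''.1 k.2 (y ^ p)).1 hypS) hc2
      exact hne (conj_eq_one_iff.1 (by rw [inv_inv]; exact this : (k : G)⁻¹ * y ^ p * ((k : G)⁻¹)⁻¹ = 1))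
  intro x hx
  refine mem_subgroupOf.2 (mem_centralizer_iff.2 fun a ha => ?_)
  exact congrArg Subtype.val (mem_centralizer_iff.1 (key hx) ⟨a, le_normalizer ha⟩ ha)

theorem card_comap_proj (B : Subgroup (Aut2 S)) :
    Nat.card ↥(B.comap (proj S)) = Nat.card ↥B * Nat.card ↥(centS S) := by
  have hi : (B.comap (proj S)).index = B.index := index_comap_of_surjective _ (QuotientGroup.mk'_surjective _)
  have h1 := (B.comap (proj S)).card_mul_index
  have h2 := B.card_mul_index
  have h3 := (centS S).card_mul_index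
  rw [hi] at h1
  have h4 : Nat.card (Aut2 S) = (centS S).index := rfl
  refine mul_right_cancel₀ (b := B.index) ?_ ?_
  · exact fun e => by simp [e] at h2; exact Nat.card_pos.ne h2
  rw [h1, mul_right_comm, h2, h4, mul_comm, h3]

variable [IsSimpleGroup G] (hns : ¬ Group.IsSolvable G)

include h hns in
theorem Hyp.primes_centS {r : ℕ} (hr : r.Prime) (hd : r ∣ Nat.card ↥(centS S)) : r = 2 ∨ r = p := by
  obtain ⟨t, ht, ht2⟩ := h.exists_invol S hns
  refine h.primes_of_le_centralizer (Or.inl rfl) ht2 (centralizer_le_centralizer_singleton S ht) hr ?_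
  rwa [← Nat.card_congr (subgroupOfEquivOfLe (centralizer_le_normalizer _)).toEquiv]

include h hns in
/-- An abelian subgroup of the automiser of exponent a prime other than `p` is cyclic. -/
theorem Hyp.abelian_card_le {B : Subgroup (Aut2 S)} {l : ℕ} (hl : l.Prime) (hl2 : l ≠ 2) (hlp : l ≠ p)
    (hB : ∀ a ∈ B, ∀ b ∈ B, a * b = b * a) (hexp : ∀ b ∈ B, b ^ l = 1) : Nat.card ↥B ≤ l := by
  haveI := Fact.mk hl
  haveI : Fact (Nat.Prime 2) := ⟨Nat.prime_two⟩
  by_contra hlt
  push Not at hlt
  have hBp : IsPGroup l ↥B := fun b => ⟨1, Subtype.ext (by simpa using hexp b b.2)⟩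
  obtain ⟨a, ha⟩ := IsPGroup.iff_card.1 hBp
  set X := B.comap (proj S)
  obtain ⟨P⟩ := (inferInstance : Nonempty (Sylow l ↥X))
  have hPcard : l ^ a ∣ Nat.card ↥(P : Subgroup ↥X) :=
    P.pow_dvd_card_of_pow_dvd_card ⟨_, by rw [card_comap_proj S B, ha]⟩
  set f : ↥X →* G := (normalizer ((S : Subgroup G) : Set G)).subtype.comp X.subtype with hf
  have hinjf : Function.Injective f := (Subtype.coe_injective).comp Subtype.coe_injective
  have key : ∀ x : ↥X, x ∈ (P : Subgroup ↥X) → proj S x = 1 → x = 1 := by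
    intro x hx hx1
    by_contra hne
    obtain ⟨k, hk⟩ := P.2 ⟨x, hx⟩
    obtain ⟨j, -, hj⟩ := (Nat.dvd_prime_pow hl).1 (orderOf_dvd_of_pow_eq_one
      (show x ^ l ^ k = 1 from congrArg Subtype.val hk))
    have hj0 : j ≠ 0 := fun e => hne (orderOf_eq_one_iff.1 (by rw [hj, e, pow_zero]))
    have hd : l ∣ Nat.card ↥(centS S) := by
      refine ((dvd_pow_self l hj0).trans hj.symm.dvd).trans ?_
      rw [← orderOf_coe]
      exact orderOf_dvd_natCard _ ((QuotientGroup.eq_one_iff _).1 hx1)
    exact (h.primes_centS S hns hl hd).elim hl2 hlp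
  set E := (P : Subgroup ↥X).map f with hE
  have hEcard : Nat.card ↥E = Nat.card ↥(P : Subgroup ↥X) := card_map_of_injective hinjf
  have hEab : Cfsg.IsElementaryAbelian l E := by
    have hcomm : ∀ x ∈ (P : Subgroup ↥X), ∀ y ∈ (P : Subgroup ↥X), x * y = y * x := by
      intro x hx y hy
      refine mul_inv_eq_one.1 (key _ (mul_mem (mul_mem hx hy) (inv_mem (mul_mem hy hx))) ?_)
      show proj S ((x : ↥(normalizer ((S : Subgroup G) : Set G))) * y * ((y : ↥(normalizer ((S : Subgroup G) : Set G))) * x)⁻¹) = 1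
      rw [map_mul, map_mul, map_inv, map_mul, hB _ x.2 _ y.2, mul_inv_cancel]
    refine ⟨⟨⟨?_⟩⟩, ?_⟩
    · rintro ⟨_, x, hx, rfl⟩ ⟨_, y, hy, rfl⟩
      exact Subtype.ext (by rw [Subgroup.coe_mul, Subgroup.coe_mul, ← map_mul, ← map_mul, hcomm x hx y hy])
    · rintro _ ⟨x, hx, rfl⟩
      rw [← map_pow, key (x ^ l) (pow_mem hx l) (by rw [Subgroup.coe_pow, map_pow, hexp _ x.2]), map_one]
  have hE2 : l ^ 2 ≤ Nat.card ↥E := by
    rw [hEcard]
    refine le_trans ?_ (Nat.le_of_dvd Nat.card_pos hPcard)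
    refine Nat.pow_le_pow_right hl.pos ?_
    by_contra h2
    push Not at h2
    interval_cases a
    · rw [pow_zero] at ha; have := hl.one_lt; omega
    · rw [pow_one] at ha; omega
  have hS1 : (S : Subgroup G) ≤ ⊥ := by
    refine CfsgLib.Signalizer.le_of_forall_centralizer (p := l) hEab le_rfl hE2 ?_ ?_ ?_
    · rintro _ ⟨x, hx, rfl⟩
      exact x.1.2
    · obtain ⟨n, hn⟩ := IsPGroup.iff_card.1 S.2
      exact fun hd => hl2 ((Nat.prime_dvd_prime_iff_eq hl Nat.prime_two).1 (hl.dvd_of_dvd_pow (hn ▸ hd)))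
    · rintro e he he1 s ⟨hs, hse⟩
      obtain ⟨x, hx, rfl⟩ := he
      exact (mem_bot (G := G)).2 ((h.mover_of_ne S hl hl2 hlp
        (orderOf_eq_prime (hEab.2 _ ⟨x, hx, rfl⟩) he1) x.1.2).fix s hs
        (mem_centralizer_singleton_iff.1 hse).symm)
  have := h.card_sylow S hns
  rw [le_bot_iff.1 hS1, card_bot] at this
  omega

omit [IsSimpleGroup G] in
include h in
/-- A Sylow subgroup of the preimage of a normal subgroup is normalised by an element over any
element of the automiser. -/
theorem Hyp.exists_normalizing {B : Subgroup (Aut2 S)} [B.Normal] {r : ℕ} [Fact r.Prime]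
    (P : Sylow r ↥(B.comap (proj S))) (q : Aut2 S) :
    ∃ n, n ∈ normalizer (((P : Subgroup ↥(B.comap (proj S))).map (B.comap (proj S)).subtype :
        Subgroup ↥(normalizer ((S : Subgroup G) : Set G))) : Set ↥(normalizer ((S : Subgroup G) : Set G))) ∧
      ∃ b ∈ B, proj S n = b * q := by
  obtain ⟨x, rfl⟩ := QuotientGroup.mk'_surjective (centS S) q
  have htop := Sylow.normalizer_sup_eq_top P
  have hx : x ∈ normalizer (((P : Subgroup ↥(B.comap (proj S))).map (B.comap (proj S)).subtype :
      Subgroup ↥(normalizer ((S : Subgroup G) : Set G))) : Set ↥(normalizer ((S : Subgroup G) : Set G))) ⊔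
      B.comap (proj S) := htop ▸ mem_top x
  rw [sup_comm] at hx
  obtain ⟨y, hy, n, hn, hyn⟩ := mem_sup_of_normal_left.1 hx
  refine ⟨n, hn, (proj S y)⁻¹, inv_mem hy, ?_⟩
  show proj S n = (proj S y)⁻¹ * proj S x
  rw [← hyn, map_mul, inv_mul_cancel_left]

omit [IsSimpleGroup G] in
include h in
/-- A power of an element lying over one of order divisible by a prime `s` has order `s` and moves `S`. -/
theorem Hyp.exists_pow_lift {x : ↥(normalizer ((S : Subgroup G) : Set G))} {s : ℕ} (hs : s.Prime)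
    (hd : s ∣ orderOf (proj S x)) :
    ∃ j : ℕ, orderOf ((x ^ j : ↥(normalizer ((S : Subgroup G) : Set G))) : G) = s ∧
      ((x ^ j : ↥(normalizer ((S : Subgroup G) : Set G))) : G) ∉ centralizer ((S : Subgroup G) : Set G) := by
  haveI : Fact (Nat.Prime 2) := ⟨Nat.prime_two⟩
  have hs2 := h.ne_two_of_dvd S hd hs
  have hne : proj S x ≠ 1 := fun e => by
    rw [e, orderOf_one] at hd
    exact hs.ne_one (Nat.dvd_one.1 hd)
  have hxC : (x : G) ∉ centralizer ((S : Subgroup G) : Set G) := fun hc => hne (proj_eq_one.2 hc)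
  have hsx : s ∣ orderOf (x : G) := by rw [orderOf_coe]; exact hd.trans (orderOf_map_dvd _ x)
  have ho : orderOf ((x ^ (orderOf (x : G) / s) : ↥(normalizer ((S : Subgroup G) : Set G))) : G) = s := by
    push_cast
    exact orderOf_pow_orderOf_div (orderOf_pos _).ne' hsx
  refine ⟨_, ho, fun hc => ?_⟩
  by_cases hsp : s = p
  · subst hsp
    have h1 : orderOf (proj S x) ∣ orderOf (x : G) / s :=
      orderOf_dvd_of_pow_eq_one (by rw [← map_pow]; exact proj_eq_one.2 hc)
    have h2 := hd.trans h1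
    rcases h.pee _ hsx with e | e <;> rw [e] at h2
    · rw [Nat.div_self hs.pos] at h2
      exact hs.ne_one (Nat.dvd_one.1 h2)
    · rw [Nat.mul_div_cancel _ hs.pos] at h2
      exact hs2 ((Nat.prime_dvd_prime_iff_eq hs Nat.prime_two).1 h2)
  · obtain ⟨j, hj, hj2, hjC⟩ := h.exists_prime_pow S x.2 hxC
    have hS1 : (S : Subgroup G) ≠ ⊥ := fun e => hjC (by
      refine mem_centralizer_iff.2 fun a ha => ?_
      rw [show a = 1 from (mem_bot (G := G)).1 (e ▸ ha : a ∈ (⊥ : Subgroup G)), one_mul, mul_one])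
    obtain ⟨t, ht, ht1⟩ := (Subgroup.bot_or_exists_ne_one _).resolve_left hS1
    exact (h.prime_commute (Or.inl rfl) hs (orderOf_eq_prime (h.sylow_exp S ht) ht1) ho
      (mem_centralizer_iff.1 hc t ht)).elim hs2 hsp

omit [IsSimpleGroup G] in
include h in
/-- No nontrivial normal subgroup of prime power order admits a fixed-point-free element of another prime
order, one of the two primes being `p`. -/
theorem Hyp.no_normal {B : Subgroup (Aut2 S)} [B.Normal] {r s : ℕ} (hr : r.Prime) (hr2 : r ≠ 2)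
    (hB : IsPGroup r ↥B) {q : Aut2 S} (hq : orderOf q = s) (hs : s.Prime) (hsr : s ≠ r)
    (hps : r = p ∨ s = p)
    (hmv : ∀ d, orderOf d = s → d ∈ normalizer ((S : Subgroup G) : Set G) →
      d ∉ centralizer ((S : Subgroup G) : Set G) → Mover S d s) : B = ⊥ := by
  haveI := Fact.mk hr
  have hs2 := h.ne_two_of_dvd S hq.symm.dvd hs
  obtain ⟨P⟩ := (inferInstance : Nonempty (Sylow r ↥(B.comap (proj S))))
  set PN := (P : Subgroup ↥(B.comap (proj S))).map (B.comap (proj S)).subtype with hPN
  obtain ⟨n, hn, b, hb, hnb⟩ := h.exists_normalizing S P q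
  have hdn : s ∣ orderOf (proj S n) := by
    have h3 : QuotientGroup.mk' B (proj S n) = QuotientGroup.mk' B q := by
      rw [hnb, map_mul, show QuotientGroup.mk' B b = 1 from (QuotientGroup.eq_one_iff b).2 hb, one_mul]
    have h4 : orderOf (QuotientGroup.mk' B q) = s := ((Nat.dvd_prime hs).1 (hq ▸ orderOf_map_dvd _ q)).resolve_left
      fun e => by
        obtain ⟨k, hk⟩ := hB ⟨q, (QuotientGroup.eq_one_iff q).1 (orderOf_eq_one_iff.1 e)⟩
        have h1 : s ∣ r ^ k := hq ▸ orderOf_dvd_of_pow_eq_one (congrArg Subtype.val hk)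
        exact hsr ((Nat.prime_dvd_prime_iff_eq hs hr).1 (hs.dvd_of_dvd_pow h1))
    rw [← h4, ← h3]
    exact orderOf_map_dvd _ _
  obtain ⟨j, hj, hjC⟩ := h.exists_pow_lift S hs hdn
  have hPr : IsPGroup r ↥PN := P.2.map _
  have hodd : Odd (Nat.card ↥PN) := by
    obtain ⟨a, ha⟩ := IsPGroup.iff_card.1 hPr
    exact ha ▸ (hr.odd_of_ne_two hr2).pow
  have hd : Mover S ((n ^ j : ↥(normalizer ((S : Subgroup G) : Set G))) : G) s := hmv _ hj (n ^ j).2 hjC
  have hle : PN ≤ centS S := h.norm_step S hodd hd (pow_mem hn j) fun k hk hc => by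
    by_contra hk1
    obtain ⟨a, ha⟩ := hPr ⟨k, hk⟩
    have hk' : (k : G) ^ r ^ a = 1 :=
      congrArg (fun x : ↥PN => ((x : ↥(normalizer ((S : Subgroup G) : Set G))) : G)) ha
    obtain ⟨i, -, hi⟩ := (Nat.dvd_prime_pow hr).1 (orderOf_dvd_of_pow_eq_one hk')
    have hi0 : i ≠ 0 := fun e => hk1 (Subtype.ext (orderOf_eq_one_iff.1 (by rw [hi, e, pow_zero])))
    have ho := orderOf_pow_orderOf_div (orderOf_pos (k : G)).ne' ((dvd_pow_self r hi0).trans hi.symm.dvd)
    have hc' : Commute ((n ^ j : ↥(normalizer ((S : Subgroup G) : Set G))) : G)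
        ((k : G) ^ (orderOf (k : G) / r)) :=
      (hc.map (normalizer ((S : Subgroup G) : Set G)).subtype).pow_right _
    rcases hps with rfl | rfl
    · exact h.not_commute hs hs2 hsr ho hj hc'.symm
    · exact h.not_commute hr hr2 (Ne.symm hsr) hj ho hc'
  rw [← card_eq_one]
  obtain ⟨a, ha⟩ := IsPGroup.iff_card.1 hB
  rcases Nat.eq_zero_or_pos a with rfl | ha0
  · rw [ha, pow_zero]
  exfalso
  set m := (Nat.card ↥(centS S)).factorization r with hm
  have h1 : r ^ (a + m) ∣ Nat.card ↥(B.comap (proj S)) := by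
    rw [card_comap_proj S B, ha, pow_add]
    exact Nat.mul_dvd_mul_left _ (Nat.ordProj_dvd _ _)
  have h2 : r ^ (a + m) ∣ Nat.card ↥(centS S) := by
    refine (P.pow_dvd_card_of_pow_dvd_card h1).trans ?_
    rw [← card_map_of_injective (B.comap (proj S)).subtype_injective]
    exact card_dvd_of_le hle
  have := (hr.pow_dvd_iff_le_factorization Nat.card_pos.ne').1 h2
  omega

end CfsgLib.OneComp
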