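import Cfsg.Agent.OneComp.Local
import Cfsg.Agent.S0205

/-!
# Groups with a single composite element order `2p`: strong embedding and a moving element
-/

set_option autoImplicit false
set_option linter.style.haveILetI false
set_option linter.unusedSectionVars false

namespace CfsgLib.OneComp

open Subgroup
open CfsgLib.SFTCor (gen)

universe u

variable {G : Type u} [Group G] [Finite G]

/-- An element of prime order normalising `S` and fixing none of its non-identity elements. -/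
structure Mover (S : Sylow 2 G) (c : G) (l : ℕ) : Prop where
  prime : l.Prime
  ne_two : l ≠ 2
  order : orderOf c = l
  mem : c ∈ normalizer ((S : Subgroup G) : Set G)
  fix : ∀ s ∈ (S : Subgroup G), Commute c s → s = 1

theorem normalizer_not_le_centralizer (hns : ¬ Group.IsSolvable G) (S : Sylow 2 G)
    (hS : IsMulCommutative ↥(S : Subgroup G)) :
    ¬ normalizer ((S : Subgroup G) : Set G) ≤ centralizer ((S : Subgroup G) : Set G) := by
  intro hle
  haveI : Fact (Nat.Prime 2) := ⟨Nat.prime_two⟩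
  have hc := MonoidHom.ker_transferSylow_isComplement' S hle
  set f := MonoidHom.transferSylow S hle
  refine hns ?_
  have hodd : Odd (Nat.card ↥f.ker) := by
    have hi : f.ker.index = Nat.card ↥(S : Subgroup G) := hc.symm.index_eq_card
    have h1 := f.ker.card_mul_index
    have h2 := (S : Subgroup G).card_mul_index
    rw [hi] at h1
    have h3 : Nat.card ↥f.ker = (S : Subgroup G).index := by
      refine Nat.eq_of_mul_eq_mul_right (Nat.card_pos (α := ↥(S : Subgroup G))) ?_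
      rw [h1, ← h2, mul_comm]
    rw [h3]
    exact Nat.odd_iff.2 (Nat.two_dvd_ne_zero.1 S.not_dvd_index)
  haveI := Cfsg.Agent.S0205.result hodd
  haveI := S.2.isNilpotent
  exact Group.isSolvable_of_ker_le_range f.ker.subtype f (range_subtype _).ge

variable {p : ℕ} (h : Hyp G p) (S : Sylow 2 G)

include h in
theorem Hyp.sylow_comm : IsMulCommutative ↥(S : Subgroup G) := (h.sylow_elementary S).1

include h in
/-- An element normalising but not centralising `S` has a power of odd prime order with the same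
property. -/
theorem Hyp.exists_prime_pow {x : G} (hx : x ∈ normalizer ((S : Subgroup G) : Set G))
    (hxC : x ∉ centralizer ((S : Subgroup G) : Set G)) :
    ∃ j : ℕ, (orderOf (x ^ j)).Prime ∧ orderOf (x ^ j) ≠ 2 ∧
      x ^ j ∉ centralizer ((S : Subgroup G) : Set G) := by
  haveI : Fact (Nat.Prime 2) := ⟨Nat.prime_two⟩
  have hSC : (S : Subgroup G) ≤ centralizer ((S : Subgroup G) : Set G) :=
    le_centralizer_iff_isMulCommutative.2 (h.sylow_comm S)
  have hx1 : orderOf x ≠ 1 := fun e => hxC (orderOf_eq_one_iff.1 e ▸ one_mem _)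
  rcases h.ord_cases (x := x) with h1 | h1 | h1 | ⟨h2, hp⟩
  · exact absurd (hSC (mem_sylow_of_normalizes S (k := 1) (by rw [pow_one, ← h1, pow_orderOf_eq_one]) hx)) hxC
  · exact ⟨1, by rw [pow_one, h1]; exact h.prime, by rw [pow_one, h1]; exact h.odd, by rwa [pow_one]⟩
  · have ho : orderOf (x ^ 2) = p := by
      rw [orderOf_pow' x (by norm_num), h1, Nat.gcd_eq_right (dvd_mul_right 2 p),
        Nat.mul_div_cancel_left p (by norm_num)]
    refine ⟨2, ho ▸ h.prime, ho ▸ h.odd, fun hc => hxC ?_⟩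
    obtain ⟨j, hj⟩ := h.prime.odd_of_ne_two h.odd
    have hxS : x ^ p ∈ (S : Subgroup G) := mem_sylow_of_normalizes S (k := 1)
      (by rw [pow_one, ← pow_mul, mul_comm, ← h1, pow_orderOf_eq_one]) (pow_mem hx p)
    have e : x = x ^ p * ((x ^ 2) ^ j)⁻¹ := by rw [hj, pow_succ', ← pow_mul, mul_inv_cancel_right]
    rw [e]
    exact mul_mem (hSC hxS) (inv_mem (pow_mem hc j))
  obtain ⟨r, hr, hrx⟩ := Nat.exists_prime_and_dvd hx1
  have ho : orderOf (x ^ (orderOf x / r)) = r := orderOf_pow_orderOf_div (orderOf_pos x).ne' hrx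
  have hr2 : r ≠ 2 := fun e => h2 (e ▸ hrx)
  refine ⟨orderOf x / r, by rwa [ho], by rwa [ho], fun hc => ?_⟩
  have hS1 : (S : Subgroup G) ≠ ⊥ := fun e => hxC (by
    rw [e]; exact mem_centralizer_iff.2 fun s hs => by rw [mem_bot.1 hs, one_mul, mul_one])
  obtain ⟨t, ht, ht1⟩ := (Subgroup.bot_or_exists_ne_one _).resolve_left hS1
  rcases h.prime_commute (Or.inl rfl) hr (orderOf_eq_prime (h.sylow_exp S ht) ht1) ho
    (mem_centralizer_iff.1 hc t ht) with e | e
  · exact hr2 e
  · exact hp (e ▸ hrx)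

include h in
theorem Hyp.exists_prime_mover (hns : ¬ Group.IsSolvable G) :
    ∃ (c : G) (r : ℕ), r.Prime ∧ r ≠ 2 ∧ orderOf c = r ∧ c ∈ normalizer ((S : Subgroup G) : Set G) ∧
      c ∉ centralizer ((S : Subgroup G) : Set G) := by
  haveI : Fact (Nat.Prime 2) := ⟨Nat.prime_two⟩
  have hS := h.sylow_comm S
  obtain ⟨x, hx, hxC⟩ := SetLike.not_le_iff_exists.1 (normalizer_not_le_centralizer hns S hS)
  have hSC : (S : Subgroup G) ≤ centralizer ((S : Subgroup G) : Set G) :=
    le_centralizer_iff_isMulCommutative.2 hS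
  obtain ⟨j, hj, hj2, hjC⟩ := h.exists_prime_pow S hx hxC
  exact ⟨x ^ j, _, hj, hj2, rfl, pow_mem hx j, hjC⟩

include h in
theorem Hyp.card_sylow (hns : ¬ Group.IsSolvable G) :
    4 ≤ Nat.card ↥(S : Subgroup G) := by
  haveI : Fact (Nat.Prime 2) := ⟨Nat.prime_two⟩
  obtain ⟨c, r, hr, hr2, hcr, hcN, hcC⟩ := h.exists_prime_mover S hns
  by_contra hlt
  push Not at hlt
  refine hcC (mem_centralizer_iff.2 fun s hs => ?_)
  obtain ⟨k, hk⟩ := IsPGroup.iff_card.1 S.2
  have hk1 : k ≤ 1 := by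
    by_contra h2
    have : 2 ^ 2 ≤ 2 ^ k := Nat.pow_le_pow_right (by norm_num) (by omega)
    omega
  have hs' : c * s * c⁻¹ ∈ (S : Subgroup G) := (mem_normalizer_iff.1 hcN s).1 hs
  by_cases hs1 : s = 1
  · rw [hs1, one_mul, mul_one]
  have hsub : ({1, s, c * s * c⁻¹} : Set G) ⊆ ((S : Subgroup G) : Set G) := by
    rintro a (rfl | rfl | rfl)
    exacts [one_mem _, hs, hs']
  by_contra hne
  have hne' : c * s * c⁻¹ ≠ s := fun e => hne (mul_inv_eq_iff_eq_mul.1 e).symm
  have h3 := Set.ncard_le_ncard hsub (Set.toFinite _)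
  rw [Set.ncard_insert_of_notMem (by
      rintro (e | e)
      · exact hs1 e.symm
      · exact hs1 (conj_eq_one_iff.1 (Set.mem_singleton_iff.1 e).symm)) (Set.toFinite _),
    Set.ncard_pair hne'.symm, ← Nat.card_coe_set_eq, SetLike.coe_sort_coe, hk] at h3
  have : 2 ^ k ≤ 2 ^ 1 := Nat.pow_le_pow_right (by norm_num) hk1
  omega

include h in
/-- An element of prime order other than `p` normalising `S` moves every involution. -/
theorem Hyp.mover_of_ne {c : G} {r : ℕ} (hr : r.Prime) (hr2 : r ≠ 2) (hrp : r ≠ p) (hc : orderOf c = r)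
    (hcN : c ∈ normalizer ((S : Subgroup G) : Set G)) : Mover S c r := by
  refine ⟨hr, hr2, hc, hcN, fun s hs hcs => ?_⟩
  by_contra h1
  rcases h.prime_commute (Or.inl rfl) hr (orderOf_eq_prime (h.sylow_exp S hs) h1) hc hcs.symm with e | e
  · exact hr2 e
  · exact hrp e

include h in
theorem Hyp.mover_four (h4 : Nat.card ↥(S : Subgroup G) = 4) {c : G} {r : ℕ} (hr : r.Prime) (hr2 : r ≠ 2)
    (hcr : orderOf c = r) (hcN : c ∈ normalizer ((S : Subgroup G) : Set G))
    (hcC : c ∉ centralizer ((S : Subgroup G) : Set G)) : Mover S c r := by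
  refine ⟨hr, hr2, hcr, hcN, fun s hs hcs => ?_⟩
  by_contra hs1
  refine hcC (mem_centralizer_iff.2 fun a ha => ?_)
  by_cases ha1 : a = 1
  · rw [ha1, one_mul, mul_one]
  by_cases has : a = s
  · rw [has]; exact hcs.eq.symm
  -- the square of `c` fixes `a`
  have hsq : Commute (c ^ 2) a := by
    have key : ∀ b ∈ (S : Subgroup G), b ≠ 1 → b ≠ s → b ≠ a → b = s * a := by
      intro b hb b1 bs ba
      by_contra hb'
      have hsub : ({1, s, a, s * a, b} : Set G) ⊆ ((S : Subgroup G) : Set G) := by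
        rintro z (rfl | rfl | rfl | rfl | rfl)
        exacts [one_mem _, hs, ha, mul_mem hs ha, hb]
      have h3 := Set.ncard_le_ncard hsub (Set.toFinite _)
      have hss : s * s = 1 := by rw [← sq]; exact h.sylow_exp S hs
      have hsa1 : s * a ≠ 1 := fun e => has (mul_left_cancel (e.trans hss.symm))
      rw [Set.ncard_insert_of_notMem (by simp [Ne.symm hs1, Ne.symm ha1, Ne.symm hsa1, Ne.symm b1]) (Set.toFinite _),
        Set.ncard_insert_of_notMem (by simp [Ne.symm has, ha1, Ne.symm bs]) (Set.toFinite _),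
        Set.ncard_insert_of_notMem (by simp [hs1, Ne.symm ba]) (Set.toFinite _),
        Set.ncard_pair (Ne.symm hb'), ← Nat.card_coe_set_eq, SetLike.coe_sort_coe, h4] at h3
      omega
    have hfixs : c * s * c⁻¹ = s := by rw [hcs.eq, mul_inv_cancel_right]
    set b := c * a * c⁻¹ with hb
    have hbS : b ∈ (S : Subgroup G) := (mem_normalizer_iff.1 hcN a).1 ha
    have hb1 : b ≠ 1 := fun e => ha1 (conj_eq_one_iff.1 e)
    have hbs : b ≠ s := fun e => has (by rw [← hfixs] at e; exact mul_left_cancel (mul_right_cancel e))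
    by_cases hba : b = a
    · exact (show Commute c a from mul_inv_eq_iff_eq_mul.1 hba).pow_left 2
    have hb2 := key b hbS hb1 hbs hba
    show c ^ 2 * a = a * c ^ 2
    refine mul_inv_eq_iff_eq_mul.1 ?_
    calc c ^ 2 * a * (c ^ 2)⁻¹ = c * b * c⁻¹ := by rw [hb, sq]; group
      _ = c * (s * a) * c⁻¹ := by rw [hb2]
      _ = (c * s * c⁻¹) * (c * a * c⁻¹) := by group
      _ = s * (s * a) := by rw [hfixs, ← hb, hb2]
      _ = a := by rw [← mul_assoc, ← sq, h.sylow_exp S hs, one_mul]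
  obtain ⟨j, hj⟩ := hr.odd_of_ne_two hr2
  have : Commute c a := by
    have e : c = ((c ^ 2) ^ j)⁻¹ := by
      rw [eq_inv_iff_mul_eq_one, ← pow_mul, ← pow_succ', ← hj, ← hcr, pow_orderOf_eq_one]
    rw [e]
    exact (hsq.pow_left j).inv_left
  exact this.eq.symm

include h in
theorem Hyp.exists_mover_four [IsSimpleGroup G] (hns : ¬ Group.IsSolvable G)
    (h4 : Nat.card ↥(S : Subgroup G) = 4) : ∃ c l, Mover S c l := by
  obtain ⟨c, r, hr, hr2, hcr, hcN, hcC⟩ := h.exists_prime_mover S hns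
  exact ⟨c, r, h.mover_four S h4 hr hr2 hcr hcN hcC⟩

include h in
theorem Hyp.core_le_core_centralizer {t : G} (ht : t ∈ (S : Subgroup G)) (ht2 : orderOf t = 2) :
    core (centralizer ((S : Subgroup G) : Set G)) ≤ core (centralizer ({t} : Set G)) := by
  have hS := h.sylow_comm S
  haveI := h.solvable_centralizer ht2
  intro z hz
  have hzC := core_le _ hz
  refine mem_core_of_centralizes S hS (fun s hs => mem_centralizer_singleton_iff.2
    (h.sylow_elementary S |>.1.is_comm.comm ⟨s, hs⟩ ⟨t, ht⟩ |> congrArg Subtype.val)) ?_ ?_ hzC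
  · exact mem_centralizer_singleton_iff.2 (mem_centralizer_iff.1 hzC t ht).symm
  · exact Odd.of_dvd_nat (odd_core _) (orderOf_dvd_natCard _ hz)

include h in
/-- An odd subgroup normalised by a noncyclic `S` is a `p`-group. -/
theorem Hyp.isPGroup_of_normalized (h4 : 4 ≤ Nat.card ↥(S : Subgroup G)) {W : Subgroup G}
    (hodd : Odd (Nat.card ↥W)) (hSW : (S : Subgroup G) ≤ normalizer (W : Set G)) : IsPGroup p ↥W := by
  have hE := h.sylow_elementary S
  refine h.isPGroup_of_odd hodd fun r hr hrW => ?_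
  by_contra hr'
  push Not at hr'
  haveI := Fact.mk hr
  haveI : Fact (Nat.Prime 2) := ⟨Nat.prime_two⟩
  obtain ⟨j, hj⟩ := IsPGroup.iff_card.1 S.2
  obtain ⟨P, hP⟩ := CfsgLib.CoprimeAct.exists_invariant_sylow (A := (S : Subgroup G)) (K := W) hSW
    (by rw [hj]; exact (Nat.coprime_two_left.2 hodd).pow_left j)
    (Or.inl (by haveI := hE.1; exact CfsgLib.Signalizer.isSolvable hE)) r
  set P' := (P : Subgroup ↥W).map W.subtype with hP'
  have hPW : P' ≤ W := map_subtype_le _
  have hbot : P' ≤ ⊥ := le_of_fixed hE (by omega) hP (hodd.of_dvd_nat (card_dvd_of_le hPW))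
    fun e he he2 x hx => by
      have hxP : IsPGroup r ↥P' := P.2.map W.subtype
      by_contra hx1
      rw [mem_bot] at hx1
      obtain ⟨n, hn⟩ := IsPGroup.iff_orderOf.1 hxP ⟨x, hx.1⟩
      rcases Nat.eq_zero_or_pos n with rfl | hn0
      · have hxx : (⟨x, hx.1⟩ : ↥P') = 1 := orderOf_eq_one_iff.1 (by rw [hn, pow_zero])
        exact hx1 (congrArg Subtype.val hxx)
      · have hxθ : x ∈ centralizer ({e} : Set G) := hx.2
        have hrθ : r ∣ Nat.card ↥(centralizer ({e} : Set G)) := by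
          refine (dvd_pow_self r hn0.ne').trans ?_
          rw [← hn, ← orderOf_coe]
          exact orderOf_dvd_natCard _ hxθ
        rcases h.primes_of_le_centralizer (Or.inl rfl) he2 le_rfl hr hrθ with e' | e'
        · exact hr'.1 e'
        · exact hr'.2 e'
  have h1 : Nat.card ↥P' = 1 := card_eq_one.2 (le_bot_iff.1 hbot)
  rw [hP', card_map_of_injective W.subtype_injective, P.card_eq_multiplicity] at h1
  have := Nat.one_lt_pow (hr.factorization_pos_of_dvd Nat.card_pos.ne' hrW).ne' hr.one_lt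
  omega

include h in
/-- In rank at least three the cores generate a subgroup normalised by `N(S)`. -/
theorem Hyp.signalizer (h8 : 8 ≤ Nat.card ↥(S : Subgroup G)) :
    ∃ W : Subgroup G, IsPGroup p ↥W ∧ normalizer ((S : Subgroup G) : Set G) ≤ normalizer (W : Set G) ∧
      ∀ t ∈ (S : Subgroup G), orderOf t = 2 → core (centralizer ({t} : Set G)) ≤ W := by
  have hE := h.sylow_elementary S
  have hc : CfsgLib.OddCores.CentralizersConstrained G := fun t ht => by
    haveI := h.solvable_centralizer ht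
    haveI : Fact (Nat.Prime 2) := ⟨Nat.prime_two⟩
    exact CfsgLib.OddLocal.THCases.isPConstrained_of_solvable
  have hθ := CfsgLib.OddCores.isFunctor_core hc
  set θ := fun a : G => Cfsg.centralizerPPrimeCore 2 a
  obtain ⟨hodd, hfix, hAN⟩ := hθ.complete hE h8
  have hNW : normalizer ((S : Subgroup G) : Set G) ≤ normalizer (gen θ (S : Subgroup G) : Set G) :=
    hθ.map_gen fun b hb hb1 g => hθ.equivariant b g (orderOf_eq_prime (hE.2 b hb) hb1)
  refine ⟨gen θ (S : Subgroup G), ?_, hNW, fun t ht ht2 =>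
    CfsgLib.OddCores.le_gen (θ := θ) ht (by rintro rfl; simp at ht2)⟩
  set W := gen θ (S : Subgroup G) with hW
  exact h.isPGroup_of_normalized S (by omega) hodd hAN

include h in
theorem Hyp.centralizer_le {t : G} (ht : t ∈ (S : Subgroup G)) (ht2 : orderOf t = 2) {M : Subgroup G}
    (hR : core (centralizer ({t} : Set G)) ≤ M) (hN : normalizer ((S : Subgroup G) : Set G) ≤ M) :
    centralizer ({t} : Set G) ≤ M := by
  haveI := h.solvable_centralizer ht2
  intro x hx
  obtain ⟨o, ho, n, -, hn, rfl⟩ := exists_core_mul S (h.sylow_comm S) (fun s hs =>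
    mem_centralizer_singleton_iff.2 (congrArg Subtype.val
      ((h.sylow_elementary S).1.is_comm.comm ⟨s, hs⟩ ⟨t, ht⟩))) hx
  exact mul_mem (hR ho) (hN hn)

include h in
theorem Hyp.exists_se [IsSimpleGroup G] (hns : ¬ Group.IsSolvable G)
    (h8 : 8 ≤ Nat.card ↥(S : Subgroup G)) :
    ∃ M : Subgroup G, Cfsg.IsStronglyEmbedded M := by
  obtain ⟨W, hW, hNW, hcore⟩ := h.signalizer S h8
  have hS := h.sylow_comm S
  have hne : (S : Subgroup G) ≠ ⊥ := fun e => by rw [e, card_bot] at h8; omega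
  have hnormal : ∀ K : Subgroup G, K.Normal → K = ⊥ ∨ K = ⊤ := fun K hK =>
    IsSimpleGroup.eq_bot_or_eq_top_of_normal K hK
  have hNS : normalizer ((S : Subgroup G) : Set G) ≠ ⊤ := fun e => by
    rcases hnormal _ (normalizer_eq_top_iff.1 e) with e1 | e1
    · exact hne e1
    · haveI : Fact (Nat.Prime 2) := ⟨Nat.prime_two⟩
      haveI := ((e1 ▸ S.2 : IsPGroup 2 ↥(⊤ : Subgroup G)).of_equiv topEquiv).isNilpotent
      exact hns inferInstance
  by_cases hW1 : W = ⊥
  · exact ⟨_, stronglyEmbedded S hS hne hNS le_rfl fun t ht ht2 =>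
      h.centralizer_le S ht ht2 ((hcore t ht ht2).trans (hW1.le.trans bot_le)) le_rfl⟩
  · refine ⟨_, stronglyEmbedded S hS hne ?_ hNW fun t ht ht2 =>
      h.centralizer_le S ht ht2 ((hcore t ht ht2).trans le_normalizer) hNW⟩
    intro e
    rcases hnormal _ (normalizer_eq_top_iff.1 e) with e1 | e1
    · exact hW1 e1
    · haveI := Fact.mk h.prime
      haveI := ((e1 ▸ hW : IsPGroup p ↥(⊤ : Subgroup G)).of_equiv topEquiv).isNilpotent
      exact hns inferInstance

include h in
/-- With one class of involutions some element moves every involution of `S`. -/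
theorem Hyp.exists_mover [IsSimpleGroup G] (hns : ¬ Group.IsSolvable G) : ∃ c l, Mover S c l := by
  classical
  haveI : Fact (Nat.Prime 2) := ⟨Nat.prime_two⟩
  haveI := Fact.mk h.prime
  have hS := h.sylow_comm S
  by_cases h4 : Nat.card ↥(S : Subgroup G) = 4
  · exact h.exists_mover_four S hns h4
  have h8 : 8 ≤ Nat.card ↥(S : Subgroup G) := by
    have h1 := h.card_sylow S hns
    obtain ⟨k, hk⟩ := IsPGroup.iff_card.1 S.2
    have hk3 : 3 ≤ k := by
      by_contra h3
      push Not at h3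
      interval_cases k <;> simp_all
    rw [hk]
    exact (show 8 = 2 ^ 3 by norm_num) ▸ Nat.pow_le_pow_right (by norm_num) hk3
  obtain ⟨M, hM⟩ := h.exists_se S hns h8
  obtain ⟨c, r, hr, hr2, hcr, hcN, hcC⟩ := h.exists_prime_mover S hns
  by_cases hother : ∃ (d : G) (q : ℕ), q.Prime ∧ q ≠ 2 ∧ q ≠ p ∧ orderOf d = q ∧
      d ∈ normalizer ((S : Subgroup G) : Set G)
  · obtain ⟨d, q, hq, hq2, hqp, hd, hdN⟩ := hother
    exact ⟨d, q, h.mover_of_ne S hq hq2 hqp hd hdN⟩
  push Not at hother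
  set N := normalizer ((S : Subgroup G) : Set G) with hN
  set C := (centralizer ((S : Subgroup G) : Set G)).subgroupOf N with hC
  haveI : C.Normal := ⟨fun x hx g => mem_subgroupOf.2 (mem_centralizer_iff.2 fun s hs => by
    have h1 : (g : G)⁻¹ * s * g ∈ (S : Subgroup G) := (mem_normalizer_iff''.1 g.2 s).1 hs
    have h2 := mem_centralizer_iff.1 (mem_subgroupOf.1 hx) _ h1
    calc s * ((g * x * g⁻¹ : ↥N) : G) = (g : G) * (((g : G)⁻¹ * s * g) * (x : G)) * (g : G)⁻¹ := by
          push_cast; group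
      _ = (g : G) * ((x : G) * ((g : G)⁻¹ * s * g)) * (g : G)⁻¹ := by rw [h2]
      _ = ((g * x * g⁻¹ : ↥N) : G) * s := by push_cast; group)⟩
  set f := QuotientGroup.mk' C
  have hP : IsPGroup p (↥N ⧸ C) := by
    refine fun q => ?_
    obtain ⟨⟨x, hx⟩, rfl⟩ := QuotientGroup.mk'_surjective C q
    refine ⟨1, ?_⟩
    rw [pow_one, ← map_pow]
    refine (QuotientGroup.eq_one_iff _).2 (mem_subgroupOf.2 ?_)
    show x ^ p ∈ centralizer ((S : Subgroup G) : Set G)
    by_cases hxC : x ∈ centralizer ((S : Subgroup G) : Set G)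
    · exact pow_mem hxC p
    rcases h.ord_cases (x := x) with h1 | h1 | h1 | ⟨-, hp⟩
    · exact pow_mem (le_centralizer_iff_isMulCommutative.2 hS
        (mem_sylow_of_normalizes S (k := 1) (by rw [pow_one, ← h1, pow_orderOf_eq_one]) hx)) p
    · rw [← h1, pow_orderOf_eq_one]; exact one_mem _
    · refine le_centralizer_iff_isMulCommutative.2 hS (mem_sylow_of_normalizes S (k := 1) ?_ (pow_mem hx p))
      rw [pow_one, ← pow_mul, mul_comm, ← h1, pow_orderOf_eq_one]
    obtain ⟨j, hj, hj2, -⟩ := h.exists_prime_pow S hx hxC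
    exact absurd (pow_mem hx j)
      (hother (x ^ j) _ hj hj2 (fun e => hp (e ▸ orderOf_pow_dvd j)) rfl)
  haveI : Nontrivial (↥N ⧸ C) := by
    refine ⟨⟨f ⟨c, hcN⟩, 1, fun e => hcC ?_⟩⟩
    exact mem_subgroupOf.1 ((QuotientGroup.eq_one_iff _).1 e)
  haveI := hP.center_nontrivial
  obtain ⟨⟨z, hz⟩, hz1⟩ := exists_ne (1 : ↥(center (↥N ⧸ C)))
  obtain ⟨⟨z₀, hz₀⟩, rfl⟩ := QuotientGroup.mk'_surjective C z
  have hz0C : z₀ ∉ centralizer ((S : Subgroup G) : Set G) := fun e =>
    hz1 (Subtype.ext ((QuotientGroup.eq_one_iff _).2 (mem_subgroupOf.2 e)))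
  -- an element of order `p` with the same action
  obtain ⟨d, hd, hdN, hdC, hdz⟩ : ∃ d, orderOf d = p ∧ ∃ hdN : d ∈ N, d ∉ centralizer ((S : Subgroup G) : Set G) ∧
      f ⟨d, hdN⟩ ∈ center (↥N ⧸ C) := by
    obtain ⟨j, hj, hj2, hjC⟩ := h.exists_prime_pow S hz₀ hz0C
    refine ⟨z₀ ^ j, ?_, pow_mem hz₀ j, hjC, pow_mem hz j⟩
    by_contra hjp
    exact hother (z₀ ^ j) _ hj hj2 hjp rfl (pow_mem hz₀ j)
  refine ⟨d, p, h.prime, h.odd, hd, hdN, fun s hs hds => ?_⟩
  by_contra hs1
  refine hdC (mem_centralizer_iff.2 fun a ha => ?_)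
  by_cases ha1 : a = 1
  · rw [ha1, one_mul, mul_one]
  obtain ⟨g, hg⟩ := isConj_iff.1 (CfsgLib.StrongEmbed.isConj_of_invols hM
    (orderOf_eq_prime (h.sylow_exp S hs) hs1) (orderOf_eq_prime (h.sylow_exp S ha) ha1))
  obtain ⟨n, hn, hns'⟩ := burnside S hS hs (u := g) (hg ▸ ha)
  rw [hg] at hns'
  -- `n⁻¹ d n` and `d` act alike
  have hcomm : f (⟨n, hn⟩⁻¹ * ⟨d, hdN⟩ * ⟨n, hn⟩) = f ⟨d, hdN⟩ := by
    rw [map_mul, map_mul, map_inv, mul_assoc, ← mem_center_iff.1 hdz (f ⟨n, hn⟩), inv_mul_cancel_left]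
  have hmem : ((⟨d, hdN⟩ : ↥N)⁻¹ * (⟨n, hn⟩⁻¹ * ⟨d, hdN⟩ * ⟨n, hn⟩)) ∈ C :=
    (QuotientGroup.eq_one_iff _).1 (show f _ = 1 by rw [map_mul, hcomm, map_inv, inv_mul_cancel])
  have hk : (d⁻¹ * (n⁻¹ * d * n)) * s = s * (d⁻¹ * (n⁻¹ * d * n)) :=
    (mem_centralizer_iff.1 (mem_subgroupOf.1 hmem) s hs).symm
  have hns1 : n⁻¹ * d * n * s = s * (n⁻¹ * d * n) := by
    calc n⁻¹ * d * n * s = d * ((d⁻¹ * (n⁻¹ * d * n)) * s) := by group
      _ = (d * s) * (d⁻¹ * (n⁻¹ * d * n)) := by rw [hk, ← mul_assoc]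
      _ = (s * d) * (d⁻¹ * (n⁻¹ * d * n)) := by rw [hds.eq]
      _ = s * (n⁻¹ * d * n) := by group
  calc a * d = n * (s * (n⁻¹ * d * n)) * n⁻¹ := by rw [← hns']; group
    _ = n * (n⁻¹ * d * n * s) * n⁻¹ := by rw [hns1]
    _ = d * a := by rw [← hns']; group

end CfsgLib.OneComp
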